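import Mathlib
import Cfsg.Agent.Lib.Helper32.N9Defs

set_option autoImplicit false

/-!
# N9 server (helper32, S4409): piece (G1) `index_two_of_sup_zpowers`
-/

namespace Cfsg.Agent.Helper99.N9

open Cfsg Cfsg.Agent.Helper32.N9

universe u

/-- `c ∉ Y`, `c² ∈ Y`: `c ^ k ∈ Y ↔ Even k`. -/
theorem g1_zpow_mem_iff {X : Type u} [Group X] (Y : Subgroup X) (c : X) (hc : c ∉ Y)
    (hc2 : c ^ 2 ∈ Y) (k : ℤ) : c ^ k ∈ Y ↔ Even k := by
  have h2 : ∀ m : ℤ, c ^ (2 * m) ∈ Y := by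
    intro m
    rw [zpow_mul]
    have : c ^ (2 : ℤ) = c ^ 2 := by norm_cast
    rw [this]
    exact Y.zpow_mem hc2 m
  rcases Int.even_or_odd' k with ⟨m, hm | hm⟩
  · rw [hm]
    exact ⟨fun _ => ⟨m, by ring⟩, fun _ => h2 m⟩
  · rw [hm]
    constructor
    · intro h
      exfalso
      apply hc
      have h3 : c ^ (2 * m + 1) = c ^ (2 * m) * c := by rw [zpow_add, zpow_one]
      rw [h3] at h
      exact (Y.mul_mem_cancel_left (h2 m)).1 h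
    · rintro ⟨r, hr⟩
      omega

/-- `c ∉ Y`, `c² ∈ Y`: `|⟨c⟩ : ⟨c⟩ ∩ Y| = 2`. -/
theorem g1_relIndex_zpowers {X : Type u} [Group X] (Y : Subgroup X) (c : X) (hc : c ∉ Y)
    (hc2 : c ^ 2 ∈ Y) : Y.relIndex (Subgroup.zpowers c) = 2 := by
  rw [Subgroup.relIndex_eq_two_iff]
  refine ⟨c, Subgroup.mem_zpowers c, ?_⟩
  intro b hb
  obtain ⟨k, rfl⟩ := Subgroup.mem_zpowers_iff.1 hb
  have h1 : c ^ k * c = c ^ (k + 1) := by rw [zpow_add, zpow_one]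
  rw [h1, g1_zpow_mem_iff Y c hc hc2, g1_zpow_mem_iff Y c hc hc2]
  rcases Int.even_or_odd k with h | h
  · exact Or.inr ⟨h, by rw [Int.even_add_one]; exact not_not.2 h⟩
  · exact Or.inl ⟨by rw [Int.even_add_one]; exact Int.not_even_iff_odd.2 h,
      Int.not_even_iff_odd.2 h⟩

/-- **G1.** `Y` normal, `c ∉ Y`, `c² ∈ Y`, `X = Y⟨c⟩` ⇒ `|X : Y| = 2`. -/
theorem index_two_of_sup_zpowers {X : Type u} [Group X] [Finite X] (Y : Subgroup X) (hYn : Y.Normal)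
    (c : X) (hc : c ∉ Y) (hc2 : c ^ 2 ∈ Y) (htop : Y ⊔ Subgroup.zpowers c = ⊤) : Y.index = 2 := by
  rw [← Subgroup.relIndex_top_right, ← htop, Subgroup.relIndex_sup_left]
  exact g1_relIndex_zpowers Y c hc hc2

end Cfsg.Agent.Helper99.N9
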