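import Mathlib
import Cfsg.Agent.Lib.Helper32.N9Defs

set_option autoImplicit false

/-!
# N9 server (helper32, S4409): piece (G2) `exists_sq_mem_not_mem`
-/

namespace Cfsg.Agent.Helper99.N9

open Cfsg Cfsg.Agent.Helper32.N9

universe u

/-- **G2.** In a finite 2-group, an element outside a subgroup `Y` has a power `d` (a `2^m`-th power)
with `d ∉ Y` and `d² ∈ Y`. -/
theorem exists_sq_mem_not_mem {X : Type u} [Group X] [Finite X] (hX : IsPGroup 2 X) (Y : Subgroup X)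
    (c : X) (hc : c ∉ Y) : ∃ m : ℕ, c ^ 2 ^ m ∉ Y ∧ (c ^ 2 ^ m) ^ 2 ∈ Y := by
  classical
  have hex : ∃ n : ℕ, c ^ 2 ^ n ∈ Y := by
    obtain ⟨n, hn⟩ := hX c
    exact ⟨n, by rw [hn]; exact Y.one_mem⟩
  have h0 : Nat.find hex ≠ 0 := by
    intro h0
    have h1 := Nat.find_spec hex
    rw [h0] at h1
    simp at h1
    exact hc h1
  obtain ⟨m, hm⟩ := Nat.exists_eq_succ_of_ne_zero h0
  refine ⟨m, ?_, ?_⟩
  · exact Nat.find_min hex (by omega)
  · have h1 := Nat.find_spec hex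
    rw [hm, Nat.succ_eq_add_one, pow_succ, pow_mul] at h1
    exact h1

end Cfsg.Agent.Helper99.N9
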