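import Mathlib
import Cfsg.Agent.Lib.Helper32.N9Defs
import Cfsg.Agent.Lib.Helper99.N9G1
import Cfsg.Agent.Lib.Helper99.N9G2

set_option autoImplicit false

/-!
# N9 server (helper32, S4409): piece (L2b) `not_na8_of_three_central_involutions`
-/

namespace Cfsg.Agent.Helper99.N9

open Cfsg Cfsg.Agent.Helper32.N9

universe u

/-- `x ^ 2 = 1 ↔ x = 1 ∨ orderOf x = 2` -/
theorem l2b_sq_eq_one_iff {X : Type u} [Group X] (x : X) :
    x ^ 2 = 1 ↔ x = 1 ∨ orderOf x = 2 := by
  constructor
  · intro h
    have h1 : orderOf x ∣ 2 := orderOf_dvd_of_pow_eq_one h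
    rcases (Nat.dvd_prime Nat.prime_two).1 h1 with h2 | h2
    · exact Or.inl (orderOf_eq_one_iff.1 h2)
    · exact Or.inr h2
  · rintro (h | h)
    · rw [h, one_pow]
    · rw [← h]; exact pow_orderOf_eq_one x

/-- the central elements of exponent 2 -/
def l2bV (X : Type u) [Group X] : Subgroup X where
  carrier := {x | x ^ 2 = 1 ∧ x ∈ Subgroup.center X}
  one_mem' := ⟨one_pow 2, Subgroup.one_mem _⟩
  mul_mem' := by
    rintro a b ⟨ha, hac⟩ ⟨hb, hbc⟩
    refine ⟨?_, Subgroup.mul_mem _ hac hbc⟩
    have hcomm : Commute a b := (Subgroup.mem_center_iff.1 hac b).symm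
    rw [hcomm.mul_pow, ha, hb, one_mul]
  inv_mem' := by
    rintro a ⟨ha, hac⟩
    exact ⟨by rw [inv_pow, ha, inv_one], Subgroup.inv_mem _ hac⟩

/-- **L2b.** A 2-group of order > 4 with exactly three involutions, all central, contains a noncyclic
abelian subgroup of order 8. -/
theorem not_na8_of_three_central_involutions {X : Type u} [Group X] [Finite X] (hX : IsPGroup 2 X)
    (hc : 4 < Nat.card X) (h3 : Nat.card {x : X // orderOf x = 2} = 3)
    (hcen : ∀ x : X, orderOf x = 2 → x ∈ Subgroup.center X) : ¬ NA8 (⊤ : Subgroup X) := by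
  classical
  have : Fintype X := Fintype.ofFinite X
  set V : Subgroup X := l2bV X with hV
  have hVmem : ∀ x : X, x ∈ V ↔ x ^ 2 = 1 := by
    intro x
    constructor
    · exact fun h => h.1
    · intro h
      refine ⟨h, ?_⟩
      rcases (l2b_sq_eq_one_iff x).1 h with h1 | h1
      · rw [h1]; exact Subgroup.one_mem _
      · exact hcen x h1
  have hVcen : V ≤ Subgroup.center X := fun x hx => hx.2
  -- `|V| = 4`
  have hVcard : Nat.card V = 4 := by
    rw [Nat.card_eq_fintype_card, Fintype.card_subtype]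
    have h1 : (Finset.univ.filter (fun x : X => x ∈ V)) =
        insert (1 : X) (Finset.univ.filter (fun x : X => orderOf x = 2)) := by
      ext x
      simp only [Finset.mem_filter, Finset.mem_univ, true_and, Finset.mem_insert]
      rw [hVmem, l2b_sq_eq_one_iff]
    have h2 : (1 : X) ∉ Finset.univ.filter (fun x : X => orderOf x = 2) := by
      simp
    have h4 : (Finset.univ.filter (fun x : X => orderOf x = 2)).card = 3 := by
      rw [← h3, Nat.card_eq_fintype_card, Fintype.card_subtype]
    rw [h1, Finset.card_insert_of_notMem h2, h4]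
  -- an element outside `V`
  have hex : ∃ x : X, x ∉ V := by
    by_contra hcon
    push Not at hcon
    have h1 : V = ⊤ := Subgroup.eq_top_iff' V |>.2 hcon
    rw [h1, Subgroup.card_top] at hVcard
    omega
  obtain ⟨x, hx⟩ := hex
  obtain ⟨m, hd, hd2⟩ := exists_sq_mem_not_mem hX V x hx
  set d : X := x ^ 2 ^ m with hdd
  have hVn : V.Normal := by
    refine ⟨fun v hv g => ?_⟩
    have h1 : g * v * g⁻¹ = v := by
      rw [Subgroup.mem_center_iff.1 (hVcen hv) g, mul_assoc, mul_inv_cancel, mul_one]
    rw [h1]; exact hv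
  set B : Subgroup X := V ⊔ Subgroup.zpowers d with hB
  have hVB : V ≤ B := le_sup_left
  -- `|B| = 8`
  have hBcard : Nat.card B = 8 := by
    have h1 : V.relIndex B = 2 := by
      rw [hB, Subgroup.relIndex_sup_left]
      exact g1_relIndex_zpowers V d hd hd2
    have h2 := (V.subgroupOf B).card_mul_index
    rw [Nat.card_congr (Subgroup.subgroupOfEquivOfLe hVB).toEquiv, hVcard] at h2
    have h3' : (V.subgroupOf B).index = 2 := h1
    rw [h3'] at h2
    omega
  -- `B` is abelian
  have hBd : B ≤ Subgroup.centralizer ({d} : Set X) := by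
    refine sup_le (le_trans hVcen (Subgroup.center_le_centralizer _)) ?_
    rw [Subgroup.zpowers_le]
    rw [Subgroup.mem_centralizer_iff]
    intro h hh
    rw [Set.mem_singleton_iff.1 hh]
  have hdB : d ∈ Subgroup.centralizer (B : Set X) := by
    rw [Subgroup.mem_centralizer_iff]
    intro b hb
    have h1 := Subgroup.mem_centralizer_iff.1 (hBd hb) d (Set.mem_singleton d)
    exact h1.symm
  have hBB : B ≤ Subgroup.centralizer (B : Set X) := by
    refine sup_le (le_trans hVcen (Subgroup.center_le_centralizer _)) ?_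
    rw [Subgroup.zpowers_le]
    exact hdB
  have hBcomm : IsMulCommutative ↥B := by
    refine ⟨⟨fun a b => ?_⟩⟩
    apply Subtype.ext
    have h1 := Subgroup.mem_centralizer_iff.1 (hBB b.2) a.1 a.2
    exact h1
  -- `B` is not cyclic
  have hBnc : ¬ IsCyclic ↥B := by
    intro hcyc
    have h1 : (Finset.univ.filter (fun a : ↥B => a ^ 2 = 1)).card ≤ 2 :=
      IsCyclic.card_pow_eq_one_le (by norm_num)
    have h2 : Nat.card ↥V ≤ Nat.card {a : ↥B // a ^ 2 = 1} := by
      refine Nat.card_le_card_of_injective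
        (fun v => ⟨⟨v.1, hVB v.2⟩, Subtype.ext ((hVmem v.1).1 v.2)⟩) ?_
      intro a b hab
      have h3 := congrArg (fun z : {a : ↥B // a ^ 2 = 1} => ((z : ↥B) : X)) hab
      exact Subtype.ext h3
    have h5 : Nat.card {a : ↥B // a ^ 2 = 1} =
        (Finset.univ.filter (fun a : ↥B => a ^ 2 = 1)).card := by
      rw [Nat.card_eq_fintype_card, Fintype.card_subtype]
    rw [h5, hVcard] at h2
    omega
  intro hN
  exact hN ⟨B, le_top, hBcomm, hBnc, hBcard⟩

end Cfsg.Agent.Helper99.N9
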