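import Mathlib
import Cfsg.Agent.Lib.Helper14.GLIDefs

set_option autoImplicit false

/-!
GLI (GSPLIT) for helper14's server (S5958).
-/

namespace Cfsg.Agent.Helper99.GLI

open Module Polynomial Cfsg.Agent.Helper14.GLI

/-- (GSPLIT) a subspace splits into independent subspaces of prescribed dimensions. -/
theorem gl_split {F V : Type*} [Field F] [AddCommGroup V] [Module F V] [FiniteDimensional F V]
    (U : Submodule F V) {t : ℕ} (e : Fin t → ℕ) (hsum : ∑ j, e j = finrank F U) :
    ∃ E : Fin t → Submodule F V, IsIndepFam U E ∧ ∀ j, finrank F (E j) = e j := by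
  classical
  -- a basis of `U` indexed by `Σ j, Fin (e j)`
  let b0 : Basis (Fin (finrank F U)) F U := Module.finBasis F U
  let eqv : (Σ j : Fin t, Fin (e j)) ≃ Fin (finrank F U) :=
    finSigmaFinEquiv.trans (finCongr hsum)
  let b : Basis (Σ j : Fin t, Fin (e j)) F U := b0.reindex eqv.symm
  let v : (Σ j : Fin t, Fin (e j)) → V := fun i => (b i : V)
  have hv : LinearIndependent F v := by
    have := b.linearIndependent.map' U.subtype (Submodule.ker_subtype U)
    exact this
  have hspan : Submodule.span F (Set.range v) = U := by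
    have h1 : Set.range v = U.subtype '' (Set.range b) := by
      rw [← Set.range_comp]; rfl
    rw [h1, Submodule.span_image, b.span_eq, Submodule.map_top, Submodule.range_subtype]
  let S : Fin t → Set (Σ j : Fin t, Fin (e j)) := fun j => Set.range (Sigma.mk j)
  refine ⟨fun j => Submodule.span F (v '' S j), ⟨?_, ?_⟩, ?_⟩
  · rw [iSupIndep_def]
    intro j
    have hU : (⨆ (k) (_ : k ≠ j), Submodule.span F (v '' S k))
        = Submodule.span F (v '' (⋃ (k) (_ : k ≠ j), S k)) := by
      rw [Set.image_iUnion₂, Submodule.span_iUnion₂]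
    rw [hU]
    apply hv.disjoint_span_image
    rw [Set.disjoint_left]
    rintro ⟨j', i⟩ h1 h2
    simp only [S, Set.mem_range, Set.mem_iUnion] at h1 h2
    obtain ⟨y, hy⟩ := h1
    obtain ⟨k, hk, y', hy'⟩ := h2
    have e1 : j = j' := congrArg Sigma.fst hy
    have e2 : k = j' := congrArg Sigma.fst hy'
    exact hk (e2.trans e1.symm)
  · rw [← Submodule.span_iUnion, ← Set.image_iUnion]
    have : (⋃ j, S j) = Set.univ := by
      ext ⟨j, i⟩
      simp [S]
    rw [this, Set.image_univ, hspan]
  · intro j
    have h1 : v '' S j = Set.range (fun i : Fin (e j) => v ⟨j, i⟩) := by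
      rw [← Set.range_comp]; rfl
    have h2 : LinearIndependent F (fun i : Fin (e j) => v ⟨j, i⟩) :=
      hv.comp _ (sigma_mk_injective)
    show finrank F (Submodule.span F (v '' S j)) = e j
    rw [h1, finrank_span_eq_card h2, Fintype.card_fin]

end Cfsg.Agent.Helper99.GLI
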