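import Mathlib
import Cfsg.Agent.Lib.Helper48.HallHigmanCoprime
import Cfsg.Agent.Lib.Helper48.CoprimeGen
import Cfsg.Agent.Lib.Helper52.Coprime
import Cfsg.Agent.Lib.Helper24.ClassTwo
import Cfsg.Agent.Lib.Helper24.CharSub
import Cfsg.Agent.Lib.Helper24.Coprime
import Cfsg.Agent.Lib.Helper2.PGroup

/-!
# A Frobenius-type lemma (B-G 13.4 / S1428 helper)

`frob_centralizes`: `X` a `p`-group (`p` odd), `K = [K, x]` a `q`-group normalizing `X`, `x` of prime
order `r` normalizing `X` and `K`, and `Ω₁(C_X(x)) ≤ C(K)`. Then `K` centralizes `X`.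
-/

set_option autoImplicit false

namespace Cfsg.Agent.Helper99.FrobFR

open Subgroup
open scoped commutatorElement

variable {G : Type*} [Group G]

/-- the Frattini subgroup of `X` as a subgroup of `G` -/
def phi (X : Subgroup G) : Subgroup G := (frattini ↥X).map X.subtype

theorem phi_le (X : Subgroup G) : phi X ≤ X := Subgroup.map_subtype_le _

theorem normalizer_le_normalizer_phi (X : Subgroup G) :
    normalizer (X : Set G) ≤ normalizer ((phi X : Subgroup G) : Set G) :=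
  Cfsg.Agent.Helper24.normalizer_le_normalizer_map_subtype_of_characteristic X (frattini ↥X)

theorem pow_mem_phi [Finite G] {p : ℕ} [Fact p.Prime] {X : Subgroup G} (hX : IsPGroup p X) {a : G}
    (ha : a ∈ X) : a ^ p ∈ phi X :=
  ⟨(⟨a, ha⟩ : X) ^ p, Cfsg.Agent.Helper2.pow_mem_frattini hX _, by simp⟩

theorem comm_mem_phi [Finite G] {p : ℕ} [Fact p.Prime] {X : Subgroup G} (hX : IsPGroup p X)
    {a b : G} (ha : a ∈ X) (hb : b ∈ X) : a * b * a⁻¹ * b⁻¹ ∈ phi X := by
  refine ⟨⁅(⟨a, ha⟩ : X), ⟨b, hb⟩⁆, Cfsg.Agent.Helper2.commutatorElement_mem_frattini hX _ _, ?_⟩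
  rw [commutatorElement_def]
  simp

theorem phi_ne [Finite G] {X : Subgroup G} (hX1 : X ≠ ⊥) : phi X ≠ X := by
  intro h
  have h1 : frattini ↥X = ⊤ := by
    rw [eq_top_iff]
    intro y _
    have hy : (y : G) ∈ phi X := by rw [h]; exact y.2
    obtain ⟨z, hz, hzy⟩ := hy
    have : z = y := Subtype.ext hzy
    rwa [← this]
  have h2 : (⊥ : Subgroup ↥X) = ⊤ := frattini_nongenerating (by rw [h1]; simp)
  apply hX1
  rw [eq_bot_iff]
  intro y hy
  have h3 : (⟨y, hy⟩ : ↥X) ∈ (⊥ : Subgroup ↥X) := by rw [h2]; trivial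
  rw [Subgroup.mem_bot] at h3 ⊢
  exact congrArg Subtype.val h3

/-- conjugation closure gives normalizer membership -/
theorem le_normalizer_of_forall_conj_mem {A D : Subgroup G}
    (h : ∀ a ∈ A, ∀ d ∈ D, a * d * a⁻¹ ∈ D) : A ≤ normalizer (D : Set G) := by
  intro a ha
  rw [mem_normalizer_iff]
  intro d
  constructor
  · exact h a ha d
  · intro hd
    have := h a⁻¹ (A.inv_mem ha) _ hd
    simpa [mul_assoc] using this

theorem mem_normalizer_sup {A B : Subgroup G} {g : G} (hA : g ∈ normalizer (A : Set G))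
    (hB : g ∈ normalizer (B : Set G)) : g ∈ normalizer ((A ⊔ B : Subgroup G) : Set G) := by
  rw [Subgroup.mem_normalizer_iff_map_conj_eq] at hA hB ⊢
  rw [Subgroup.map_sup, hA, hB]

theorem mem_normalizer_centralizer {K : Subgroup G} {g : G} (hK : g ∈ normalizer (K : Set G)) :
    g ∈ normalizer ((centralizer (K : Set G) : Subgroup G) : Set G) := by
  have key : ∀ g : G, g ∈ normalizer (K : Set G) → ∀ c ∈ centralizer (K : Set G),
      g * c * g⁻¹ ∈ centralizer (K : Set G) := by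
    intro g hg c hc
    rw [mem_centralizer_iff]
    intro k hk
    have h1 : g⁻¹ * k * g ∈ K := by
      have := (mem_normalizer_iff.mp (Subgroup.inv_mem _ hg) k).mp hk
      simpa using this
    have h2 := (mem_centralizer_iff.mp hc) _ h1
    calc k * (g * c * g⁻¹) = g * ((g⁻¹ * k * g) * c) * g⁻¹ := by group
      _ = g * (c * (g⁻¹ * k * g)) * g⁻¹ := by rw [h2]
      _ = g * c * g⁻¹ * k := by group
  rw [mem_normalizer_iff]
  intro c
  constructor
  · exact key g hK c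
  · intro hc
    have := key g⁻¹ (Subgroup.inv_mem _ hK) _ hc
    simpa [mul_assoc] using this


/-- auxiliary induction for `frob_centralizes` -/
theorem frob_centralizes_aux [Finite G] {p q r : ℕ}
    (hp : p.Prime) (hq : q.Prime) (hr : r.Prime) (hp2 : p ≠ 2) (hq2 : q ≠ 2)
    (hpq : p ≠ q) (hpr : p ≠ r) (hqr : q ≠ r)
    (K : Subgroup G) (x : G) (hK : IsPGroup q K)
    (hxKn : x ∈ normalizer (K : Set G)) (hxr : x ^ r = 1)
    (hKgen : K ≤ Subgroup.closure {g | ∃ u ∈ K, g = x * u * x⁻¹ * u⁻¹}) :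
    ∀ (n : ℕ) (X : Subgroup G), Nat.card X = n → IsPGroup p X →
      K ≤ normalizer (X : Set G) → x ∈ normalizer (X : Set G) →
      (∀ y ∈ X, x * y = y * x → y ^ p = 1 → y ∈ centralizer (K : Set G)) →
      X ≤ centralizer (K : Set G) := by
  have : Fact p.Prime := ⟨hp⟩
  have : Fact q.Prime := ⟨hq⟩
  have : Fact r.Prime := ⟨hr⟩
  intro n
  induction n using Nat.strong_induction_on with
  | _ n ih =>
  intro X hn hX hKX hxX hΩ
  have hcop : (Nat.card K).Coprime (Nat.card X) := by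
    obtain ⟨a, ha⟩ := IsPGroup.iff_card.mp hX
    obtain ⟨b, hb⟩ := IsPGroup.iff_card.mp hK
    rw [ha, hb]
    exact Nat.Coprime.pow _ _ ((Nat.coprime_primes hq hp).mpr hpq.symm)
  have hsolv : Group.IsSolvable K ∨ Group.IsSolvable X := by
    right
    have : Group.IsNilpotent X := hX.isNilpotent
    infer_instance
  have hVX : ⁅X, K⁆ ≤ X := Cfsg.Agent.Helper24.commutator_le_of_le_normalizer X K hKX
  by_cases hV : ⁅X, K⁆ = X
  swap
  · -- induction on `[X, K]`
    have hlt : Nat.card ↥⁅X, K⁆ < n := by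
      rw [← hn]
      exact Cfsg.Agent.Helper48.card_lt_of_le_of_ne hVX hV
    have hKV : K ≤ normalizer ((⁅X, K⁆ : Subgroup G) : Set G) :=
      Cfsg.Agent.Helper24.le_normalizer_commutator_of_le hKX le_normalizer
    have hxV : x ∈ normalizer ((⁅X, K⁆ : Subgroup G) : Set G) :=
      Cfsg.Agent.Helper24.mem_normalizer_commutator_of_mem hxX hxKn
    have h1 := ih _ hlt ⁅X, K⁆ rfl (hX.to_le hVX) hKV hxV (fun y hy => hΩ y (hVX hy))
    have h2 : ⁅⁅X, K⁆, K⁆ = ⊥ := Subgroup.commutator_eq_bot_iff_le_centralizer.mpr h1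
    have h3 := Cfsg.Agent.Helper52.commutator_commutator_eq X K hKX hcop hsolv
    rw [h2] at h3
    exact Subgroup.commutator_eq_bot_iff_le_centralizer.mp h3.symm
  by_cases hX1 : X = ⊥
  · rw [hX1]
    exact bot_le
  -- now `X = [X, K] ≠ 1`
  set Φ := phi X with hΦ
  have hΦX : Φ ≤ X := phi_le X
  have hΦne : Φ ≠ X := phi_ne hX1
  have hΦlt : Nat.card Φ < n := by
    rw [← hn]
    exact Cfsg.Agent.Helper48.card_lt_of_le_of_ne hΦX hΦne
  have hKΦ : K ≤ normalizer (Φ : Set G) := hKX.trans (normalizer_le_normalizer_phi X)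
  have hxΦ : x ∈ normalizer (Φ : Set G) := normalizer_le_normalizer_phi X hxX
  have hΦK : Φ ≤ centralizer (K : Set G) :=
    ih _ hΦlt Φ rfl (hX.to_le hΦX) hKΦ hxΦ (fun y hy => hΩ y (hΦX hy))
  -- `Φ` is central in `X`
  have hΦZ : X ≤ centralizer (Φ : Set G) := by
    have e1 : ⁅Φ, K⁆ = ⊥ := Subgroup.commutator_eq_bot_iff_le_centralizer.mpr hΦK
    have h1 : ⁅⁅K, Φ⁆, X⁆ = ⊥ := by
      rw [Subgroup.commutator_comm K Φ, e1, Subgroup.commutator_bot_left]
    have hXΦn : X ≤ normalizer (Φ : Set G) :=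
      le_normalizer.trans (normalizer_le_normalizer_phi X)
    have h2 : ⁅⁅Φ, X⁆, K⁆ = ⊥ := by
      rw [eq_bot_iff, ← e1]
      exact Subgroup.commutator_mono
        (Cfsg.Agent.Helper24.commutator_le_of_le_normalizer Φ X hXΦn) le_rfl
    have h3 := Subgroup.commutator_commutator_eq_bot_of_rotate h1 h2
    rw [hV] at h3
    exact Subgroup.commutator_eq_bot_iff_le_centralizer.mp h3
  have hcomm : ∀ a ∈ X, ∀ f ∈ Φ, f * a = a * f := fun a ha f hf =>
    (mem_centralizer_iff.mp (hΦZ ha)) f hf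
  -- the `p`-power map is multiplicative on `X`
  have hp3 : 2 < p := lt_of_le_of_ne hp.two_le (Ne.symm hp2)
  have hchoose : p ∣ p.choose 2 := hp.dvd_choose_self (by norm_num) hp3
  have hpowmul : ∀ a ∈ X, ∀ b ∈ X, (a * b) ^ p = a ^ p * b ^ p := by
    intro a ha b hb
    have hcΦ : b * a * b⁻¹ * a⁻¹ ∈ Φ := comm_mem_phi hX hb ha
    have hca : Commute (b * a * b⁻¹ * a⁻¹) a := hcomm a ha _ hcΦ
    have hcb : Commute (b * a * b⁻¹ * a⁻¹) b := hcomm b hb _ hcΦ
    have h1 := Cfsg.Agent.Helper24.mul_pow_of_commutator_commute a b hca hcb p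
    have h2 : (b * a * b⁻¹ * a⁻¹) ^ p = 1 := by
      rw [← Cfsg.Agent.Helper24.commutator_pow_left_of_commute a b hcb p]
      have hbp : b ^ p ∈ Φ := pow_mem_phi hX hb
      rw [hcomm a ha _ hbp]
      group
    obtain ⟨k, hk⟩ := hchoose
    rw [h1, hk, pow_mul, h2, one_pow, mul_one]
  -- `X` has exponent `p`
  have hexp : ∀ y ∈ X, y ^ p = 1 := by
    let E : Subgroup G :=
      { carrier := {y | y ∈ X ∧ y ^ p = 1}
        one_mem' := ⟨X.one_mem, one_pow _⟩
        mul_mem' := by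
          rintro a b ⟨ha, ha1⟩ ⟨hb, hb1⟩
          exact ⟨X.mul_mem ha hb, by rw [hpowmul a ha b hb, ha1, hb1, one_mul]⟩
        inv_mem' := by
          rintro a ⟨ha, ha1⟩
          exact ⟨X.inv_mem ha, by rw [inv_pow, ha1, inv_one]⟩ }
    have hE : ⁅X, K⁆ ≤ E := by
      rw [Subgroup.commutator_le]
      intro v hv u hu
      have hw : u * v⁻¹ * u⁻¹ ∈ X := (mem_normalizer_iff.mp (hKX hu) v⁻¹).mp (X.inv_mem hv)
      have h1 : ⁅v, u⁆ = v * (u * v⁻¹ * u⁻¹) := by
        rw [commutatorElement_def]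
        group
      refine ⟨by rw [h1]; exact X.mul_mem hv hw, ?_⟩
      rw [h1, hpowmul v hv _ hw]
      have h2 : (u * v⁻¹ * u⁻¹) ^ p = u * (v⁻¹) ^ p * u⁻¹ := conj_pow
      have hvp : (v⁻¹) ^ p ∈ Φ := pow_mem_phi hX (X.inv_mem hv)
      have h3 : u * (v⁻¹) ^ p = (v⁻¹) ^ p * u := (mem_centralizer_iff.mp (hΦK hvp)) u hu
      rw [h2, h3, mul_assoc, mul_inv_cancel, mul_one, inv_pow, mul_inv_cancel]
    intro y hy
    have hyE : y ∈ E := hE (by rw [hV]; exact hy)
    exact hyE.2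
  have hfix : ∀ y ∈ X, x * y = y * x → y ∈ centralizer (K : Set G) :=
    fun y hy h => hΩ y hy h (hexp y hy)
  -- the subgroup `D = C_X(K) Φ(X)`
  set C := X ⊓ centralizer (K : Set G) with hC
  set D := C ⊔ Φ with hD
  have hCX : C ≤ X := inf_le_left
  have hDX : D ≤ X := sup_le hCX hΦX
  have hΦD : Φ ≤ D := le_sup_right
  have hCD : C ≤ D := le_sup_left
  have hXD : X ≤ normalizer (D : Set G) := by
    apply le_normalizer_of_forall_conj_mem
    intro a ha d hd
    have h1 : a * d * a⁻¹ = (a * d * a⁻¹ * d⁻¹) * d := by group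
    rw [h1]
    exact D.mul_mem (hΦD (comm_mem_phi hX ha (hDX hd))) hd
  have hKD : K ≤ normalizer (D : Set G) := fun u hu =>
    mem_normalizer_sup
      (Cfsg.Agent.Helper48.mem_normalizer_inf' (hKX hu) (mem_normalizer_centralizer (le_normalizer hu)))
      (hKΦ hu)
  have hxD : x ∈ normalizer (D : Set G) :=
    mem_normalizer_sup
      (Cfsg.Agent.Helper48.mem_normalizer_inf' hxX (mem_normalizer_centralizer hxKn)) hxΦ
  have hDcop : (Nat.card D).Coprime r := by
    obtain ⟨k, hk⟩ := IsPGroup.iff_card.mp (hX.to_le hDX)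
    rw [hk]
    exact Nat.Coprime.pow_left k ((Nat.coprime_primes hp hr).mpr hpr)
  -- the quotient `N(D)/D`
  obtain ⟨N, hN⟩ : ∃ N : Subgroup G, N = normalizer (D : Set G) := ⟨_, rfl⟩
  have hXN : X ≤ N := hN ▸ hXD
  have hKN : K ≤ N := hN ▸ hKD
  have hxN : x ∈ N := hN ▸ hxD
  have hDnorm : (D.subgroupOf N).Normal := by
    rw [hN]
    exact Subgroup.normal_in_normalizer
  obtain ⟨π, hπdef⟩ : ∃ π : N →* N ⧸ D.subgroupOf N, π = QuotientGroup.mk' (D.subgroupOf N) :=
    ⟨_, rfl⟩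
  have hπker : ∀ g : N, π g = 1 ↔ (g : G) ∈ D := by
    intro g
    rw [hπdef, QuotientGroup.mk'_apply, QuotientGroup.eq_one_iff, mem_subgroupOf]
  have hπcomm : ∀ a b : N, (a : G) * b * (a : G)⁻¹ * (b : G)⁻¹ ∈ D → π a * π b = π b * π a := by
    intro a b h
    have h1 : π (a * b * a⁻¹ * b⁻¹) = 1 := (hπker _).mpr (by simpa using h)
    rw [map_mul, map_mul, map_mul, map_inv, map_inv] at h1
    calc π a * π b = (π a * π b * (π a)⁻¹ * (π b)⁻¹) * (π b * π a) := by group
      _ = π b * π a := by rw [h1, one_mul]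
  have hπcomm' : ∀ a b : N, π a * π b = π b * π a → (a : G) * b * (a : G)⁻¹ * (b : G)⁻¹ ∈ D := by
    intro a b h
    have h1 : π (a * b * a⁻¹ * b⁻¹) = 1 := by
      rw [map_mul, map_mul, map_mul, map_inv, map_inv, h]
      group
    have := (hπker _).mp h1
    simpa using this
  set X' : Subgroup N := X.subgroupOf N with hX'
  set K' : Subgroup N := K.subgroupOf N with hK'
  set x' : N := ⟨x, hxN⟩ with hx'
  have hVe : Cfsg.IsElementaryAbelian p (X'.map π) := by
    refine ⟨?_, ?_⟩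
    · rw [← Subgroup.le_centralizer_iff_isMulCommutative]
      rintro _ ⟨a, ha, rfl⟩
      rw [Subgroup.mem_centralizer_iff]
      rintro _ ⟨b, hb, rfl⟩
      exact hπcomm b a (hΦD (comm_mem_phi hX (mem_subgroupOf.mp hb) (mem_subgroupOf.mp ha)))
    · rintro _ ⟨a, ha, rfl⟩
      rw [← map_pow]
      have : a ^ p = 1 := Subtype.ext (by simpa using hexp a (mem_subgroupOf.mp ha))
      rw [this, map_one]
  have hK'X' : K' ≤ normalizer (X' : Set N) := by
    intro u hu
    rw [mem_normalizer_iff]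
    intro v
    rw [hX', mem_subgroupOf, mem_subgroupOf]
    have := mem_normalizer_iff.mp (hKX (mem_subgroupOf.mp hu)) (v : G)
    simpa using this
  have hx'X' : x' ∈ normalizer (X' : Set N) := by
    rw [mem_normalizer_iff]
    intro v
    rw [hX', mem_subgroupOf, mem_subgroupOf]
    have := mem_normalizer_iff.mp hxX (v : G)
    simpa using this
  have hQV : K'.map π ≤ normalizer ((X'.map π : Subgroup (N ⧸ D.subgroupOf N)) : Set _) :=
    (Subgroup.map_mono hK'X').trans (Subgroup.le_normalizer_map π)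
  have hxV : π x' ∈ normalizer ((X'.map π : Subgroup (N ⧸ D.subgroupOf N)) : Set _) :=
    Subgroup.le_normalizer_map π ⟨x', hx'X', rfl⟩
  have hQq : IsPGroup q (K'.map π) :=
    (hK.of_equiv (Subgroup.subgroupOfEquivOfLe hKN).symm).map π
  have hxr' : (π x') ^ r = 1 := by
    rw [← map_pow]
    have : x' ^ r = 1 := Subtype.ext (by simpa using hxr)
    rw [this, map_one]
  have hxQ : ∀ u ∈ K'.map π, π x' * u * (π x')⁻¹ ∈ K'.map π := by
    rintro _ ⟨u, hu, rfl⟩
    refine ⟨x' * u * x'⁻¹, mem_subgroupOf.mpr ?_, by simp⟩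
    have := (mem_normalizer_iff.mp hxKn (u : G)).mp (mem_subgroupOf.mp hu)
    simpa using this
  have hxfixV : (X'.map π) ⊓ centralizer ({π x'} : Set (N ⧸ D.subgroupOf N)) = ⊥ := by
    rw [eq_bot_iff]
    rintro _ ⟨⟨v, hv, rfl⟩, hvx⟩
    rw [Subgroup.mem_bot]
    have hvX : (v : G) ∈ X := mem_subgroupOf.mp hv
    have hvx' : π v * π x' = π x' * π v := Subgroup.mem_centralizer_singleton_iff.mp hvx
    have hm : (v : G)⁻¹ * (x * v * x⁻¹) ∈ D := by
      have h1 := hπcomm' x' v hvx'.symm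
      have h2 : (v : G)⁻¹ * (x * v * x⁻¹) = (v : G)⁻¹ * (x * v * x⁻¹ * (v : G)⁻¹) * v := by group
      rw [h2]
      have hvD : (v : G) ∈ normalizer (D : Set G) := hXD hvX
      have := (mem_normalizer_iff.mp (Subgroup.inv_mem _ hvD) _).mp h1
      simpa [mul_assoc] using this
    obtain ⟨d, hd, hfixd⟩ := Cfsg.Agent.Helper48.exists_mul_mem_fixed D hDcop x (v : G) 1
      (by rw [pow_one]; exact hxr) hxD hm
    have hyX : (v : G) * d ∈ X := X.mul_mem hvX (hDX hd)
    have hyx : x * ((v : G) * d) = (v : G) * d * x := by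
      calc x * ((v : G) * d) = (x * ((v : G) * d) * x⁻¹) * x := by group
        _ = (v : G) * d * x := by rw [hfixd]
    have hyC : (v : G) * d ∈ D := hCD ⟨hyX, hfix _ hyX hyx⟩
    have hvD : (v : G) ∈ D := by
      have := D.mul_mem hyC (D.inv_mem hd)
      simpa using this
    exact (hπker v).mpr hvD
  have hkey := Cfsg.Agent.Helper48.HHC.key_gen hp hq hr hpq hpr hqr (X'.map π) (K'.map π) (π x')
    hVe hQV hxV hQq hxr' hxQ (fun h => absurd h hq2) hxfixV
  -- `K` acts trivially on `X / D`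
  have hB : ∀ u ∈ K, ∀ v ∈ X, u * v * u⁻¹ * v⁻¹ ∈ D := by
    let B' : Subgroup N := K' ⊓
      (centralizer ((X'.map π : Subgroup (N ⧸ D.subgroupOf N)) : Set (N ⧸ D.subgroupOf N))).comap π
    have hS : Subgroup.closure {g | ∃ u ∈ K, g = x * u * x⁻¹ * u⁻¹} ≤ B'.map N.subtype := by
      rw [Subgroup.closure_le]
      rintro g ⟨u, hu, rfl⟩
      have hu' : (⟨u, hKN hu⟩ : N) ∈ K' := mem_subgroupOf.mpr hu
      refine ⟨x' * ⟨u, hKN hu⟩ * x'⁻¹ * (⟨u, hKN hu⟩ : N)⁻¹, ⟨?_, ?_⟩, by simp [x']⟩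
      · apply mem_subgroupOf.mpr
        have h1 := (mem_normalizer_iff.mp hxKn u).mp hu
        have h2 : ((x' * ⟨u, hKN hu⟩ * x'⁻¹ * (⟨u, hKN hu⟩ : N)⁻¹ : N) : G) = x * u * x⁻¹ * u⁻¹ := by
          simp [x']
        rw [h2]
        exact K.mul_mem h1 (K.inv_mem hu)
      · show π (x' * ⟨u, hKN hu⟩ * x'⁻¹ * (⟨u, hKN hu⟩ : N)⁻¹) ∈ centralizer _
        rw [map_mul, map_mul, map_mul, map_inv, map_inv]
        exact hkey (π ⟨u, hKN hu⟩) ⟨_, hu', rfl⟩
    intro u hu v hv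
    obtain ⟨u', ⟨_, hu'c⟩, hu'u⟩ := hS (hKgen hu)
    have h1 : π u' ∈ centralizer
        ((X'.map π : Subgroup (N ⧸ D.subgroupOf N)) : Set (N ⧸ D.subgroupOf N)) := hu'c
    have h2 := (mem_centralizer_iff.mp h1) (π ⟨v, hXN hv⟩) ⟨⟨v, hXN hv⟩, mem_subgroupOf.mpr hv, rfl⟩
    have h3 := hπcomm' u' ⟨v, hXN hv⟩ h2.symm
    have hcoe : (u' : G) = u := hu'u
    simpa [hcoe] using h3
  -- conclude: `X ≤ D`, hence `X = C`
  have hXleD : X ≤ D := by
    have h1 : ⁅X, K⁆ ≤ D := by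
      rw [Subgroup.commutator_le]
      intro v hv u hu
      have h2 := hB u hu v⁻¹ (X.inv_mem hv)
      have h3 : ⁅v, u⁆ = v * (u * v⁻¹ * u⁻¹ * v⁻¹⁻¹) * v⁻¹ := by
        rw [commutatorElement_def]
        group
      rw [h3]
      exact (mem_normalizer_iff.mp (hXD hv) _).mp h2
    rw [hV] at h1
    exact h1
  have h2 : C.subgroupOf X ⊔ frattini ↥X = ⊤ := by
    rw [eq_top_iff]
    intro y _
    have hy := hXleD y.2
    have h3 : (C ⊔ Φ).subgroupOf X = C.subgroupOf X ⊔ Φ.subgroupOf X :=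
      Subgroup.subgroupOf_sup hCX hΦX
    have h4 : Φ.subgroupOf X = frattini ↥X :=
      Subgroup.comap_map_eq_self_of_injective X.subtype_injective _
    rw [h4] at h3
    rw [← h3]
    exact mem_subgroupOf.mpr hy
  have h5 : C.subgroupOf X = ⊤ := frattini_nongenerating h2
  intro y hy
  have h6 : (⟨y, hy⟩ : ↥X) ∈ C.subgroupOf X := by
    rw [h5]
    exact Subgroup.mem_top _
  exact (mem_subgroupOf.mp h6).2


/-- **Frobenius-type lemma.** `X` a `p`-group, `p` odd; `K = [K, x]` a `q`-group (`q` odd) normalizing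
`X`; `x` of prime order `r` normalizing `X` and `K`; `p, q, r` pairwise distinct. If every `y ∈ C_X(x)`
with `y ^ p = 1` centralizes `K`, then `K` centralizes `X`. -/
theorem frob_centralizes [Finite G] {p q r : ℕ}
    (hp : p.Prime) (hq : q.Prime) (hr : r.Prime) (hp2 : p ≠ 2) (hq2 : q ≠ 2)
    (hpq : p ≠ q) (hpr : p ≠ r) (hqr : q ≠ r)
    (X K : Subgroup G) (x : G) (hX : IsPGroup p X) (hK : IsPGroup q K)
    (hKX : K ≤ normalizer (X : Set G)) (hxX : x ∈ normalizer (X : Set G))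
    (hxK : x ∈ normalizer (K : Set G)) (hxr : x ^ r = 1)
    (hKgen : K ≤ Subgroup.closure {g | ∃ u ∈ K, g = x * u * x⁻¹ * u⁻¹})
    (hΩ : ∀ y ∈ X, x * y = y * x → y ^ p = 1 → y ∈ centralizer (K : Set G)) :
    X ≤ centralizer (K : Set G) :=
  frob_centralizes_aux hp hq hr hp2 hq2 hpq hpr hqr K x hK hxK hxr hKgen _ X rfl hX hKX hxX hΩ

/-- the same with `x K x⁻¹ ⊆ K` given elementwise -/
theorem frob_centralizes' [Finite G] {p q r : ℕ}
    (hp : p.Prime) (hq : q.Prime) (hr : r.Prime) (hp2 : p ≠ 2) (hq2 : q ≠ 2)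
    (hpq : p ≠ q) (hpr : p ≠ r) (hqr : q ≠ r)
    (X K : Subgroup G) (x : G) (hX : IsPGroup p X) (hK : IsPGroup q K)
    (hKX : K ≤ normalizer (X : Set G)) (hxX : x ∈ normalizer (X : Set G))
    (hxK : ∀ u ∈ K, x * u * x⁻¹ ∈ K) (hxr : x ^ r = 1)
    (hKgen : K ≤ Subgroup.closure {g | ∃ u ∈ K, g = x * u * x⁻¹ * u⁻¹})
    (hΩ : ∀ y ∈ X, x * y = y * x → y ^ p = 1 → y ∈ centralizer (K : Set G)) :
    X ≤ centralizer (K : Set G) := by
  have hpow : ∀ k : ℕ, ∀ u ∈ K, x ^ k * u * (x ^ k)⁻¹ ∈ K := by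
    intro k
    induction k with
    | zero => intro u hu; simpa using hu
    | succ k ih =>
      intro u hu
      have h1 := hxK _ (ih u hu)
      have h2 : x ^ (k + 1) * u * (x ^ (k + 1))⁻¹ = x * (x ^ k * u * (x ^ k)⁻¹) * x⁻¹ := by
        rw [pow_succ']
        group
      rw [h2]
      exact h1
  have hxinv : x⁻¹ = x ^ (r - 1) := by
    have h1 : x ^ (r - 1) * x = 1 := by
      rw [← pow_succ, Nat.sub_add_cancel hr.one_lt.le, hxr]
    exact (eq_inv_of_mul_eq_one_left h1).symm ▸ rfl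
  have hxKn : x ∈ normalizer (K : Set G) := by
    rw [mem_normalizer_iff]
    intro u
    constructor
    · exact hxK u
    · intro hu
      have h1 := hpow (r - 1) _ hu
      rw [← hxinv] at h1
      simpa [mul_assoc] using h1
  exact frob_centralizes hp hq hr hp2 hq2 hpq hpr hqr X K x hX hK hKX hxX hxKn hxr hKgen hΩ

/-- in a cyclic group the elements with `y ^ p = 1` lie in the subgroup of order `p` -/
theorem mem_of_isCyclic_of_pow_eq_one [Finite G] {p : ℕ} (hp : p.Prime) (Cx P : Subgroup G)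
    (hcyc : IsCyclic ↥Cx) (hP : Nat.card P = p) (hPC : P ≤ Cx) {y : G} (hy : y ∈ Cx)
    (hyp : y ^ p = 1) : y ∈ P := by
  classical
  haveI : Fintype ↥Cx := Fintype.ofFinite _
  haveI : Fintype ↥P := Fintype.ofFinite _
  have hle : (Finset.univ.filter (fun a : ↥Cx => a ^ p = 1)).card ≤ p :=
    IsCyclic.card_pow_eq_one_le hp.pos
  set S : Finset ↥Cx := Finset.univ.filter (fun a : ↥Cx => a ^ p = 1) with hS
  set T : Finset ↥Cx := Finset.univ.image (Subgroup.inclusion hPC) with hT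
  have hTS : T ⊆ S := by
    intro a ha
    rw [hT, Finset.mem_image] at ha
    obtain ⟨b, _, rfl⟩ := ha
    rw [hS, Finset.mem_filter]
    refine ⟨Finset.mem_univ _, ?_⟩
    have h1 : b ^ Nat.card ↥P = 1 := pow_card_eq_one'
    rw [hP] at h1
    rw [← map_pow, h1, map_one]
  have hTcard : T.card = p := by
    rw [hT, Finset.card_image_of_injective _ (Subgroup.inclusion_injective hPC), Finset.card_univ,
      ← Nat.card_eq_fintype_card, hP]
  have hST : T = S := Finset.eq_of_subset_of_card_le hTS (by rw [hTcard]; exact hle)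
  have hyS : (⟨y, hy⟩ : ↥Cx) ∈ S := by
    rw [hS, Finset.mem_filter]
    exact ⟨Finset.mem_univ _, Subtype.ext (by simpa using hyp)⟩
  rw [← hST, hT, Finset.mem_image] at hyS
  obtain ⟨b, _, hb⟩ := hyS
  have : (b : G) = y := congrArg Subtype.val hb
  rw [← this]
  exact b.2

/-- **Lemma FR** (B-G 13.4 helper): as `frob_centralizes`, with the hypothesis in the form
"`C_X(x)` is cyclic and contains a subgroup `P` of order `p` centralized by `K`". -/
theorem frob_centralizes_of_cyclic [Finite G] {p q r : ℕ}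
    (hp : p.Prime) (hq : q.Prime) (hr : r.Prime) (hp2 : p ≠ 2) (hq2 : q ≠ 2)
    (hpq : p ≠ q) (hpr : p ≠ r) (hqr : q ≠ r)
    (X K : Subgroup G) (x : G) (hX : IsPGroup p X) (hK : IsPGroup q K)
    (hKX : K ≤ normalizer (X : Set G)) (hxX : x ∈ normalizer (X : Set G))
    (hxK : x ∈ normalizer (K : Set G)) (hxr : x ^ r = 1)
    (hKgen : K ≤ Subgroup.closure {g | ∃ u ∈ K, g = x * u * x⁻¹ * u⁻¹})
    (hcyc : IsCyclic ↥(X ⊓ centralizer ({x} : Set G)))
    (P : Subgroup G) (hP : Nat.card P = p) (hPX : P ≤ X)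
    (hPx : P ≤ centralizer ({x} : Set G)) (hPK : P ≤ centralizer (K : Set G)) :
    X ≤ centralizer (K : Set G) := by
  refine frob_centralizes hp hq hr hp2 hq2 hpq hpr hqr X K x hX hK hKX hxX hxK hxr hKgen ?_
  intro y hy hxy hyp
  have hyC : y ∈ X ⊓ centralizer ({x} : Set G) :=
    ⟨hy, Subgroup.mem_centralizer_singleton_iff.mpr hxy.symm⟩
  exact hPK (mem_of_isCyclic_of_pow_eq_one hp _ P hcyc hP (le_inf hPX hPx) hyC hyp)

end Cfsg.Agent.Helper99.FrobFR
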