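import Mathlib
import Cfsg.Agent.Lib.Helper15.BGW.Ctx
import Cfsg.Agent.Lib.Helper21.BG139AP
import Cfsg.Agent.Lib.Helper98.BG133AlphaFront

/-!
# S1428 (B-G 13.3), case `p ∈ α(H)`, `r ∈ τ₁(H)` (helper99, assembly)

`case_alpha` = `alpha_front` (helper98: the Frobenius step inside `H_α` gives an aligned pair
`Aligned M H q S`) followed by `lemma_AP` (helper21: an aligned pair admits no subgroup of prime
order `p ∈ τ₁(M) ∩ α(H)` inside `M ∩ H`).  Both rest on `Helper99.FrobFR`.
-/

set_option autoImplicit false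

namespace Cfsg.Agent.Helper99.BG133

open Cfsg Subgroup

variable {G : Type*} [Group G] [Finite G]

theorem case_alpha (hG : IsMinSimpleOddOrder G) {M H E P R T : Subgroup G} {p q r : ℕ}
    [Fact p.Prime] [Fact q.Prime] [Fact r.Prime]
    (C : Cfsg.Agent.Helper15.BGW.Ctx M H E p q r P R T)
    (hpH : p ∈ sigma H) (hpα : p ∈ alpha H) (hrH : r ∈ tau1 H) : False := by
  obtain ⟨S, hS⟩ := Cfsg.Agent.Helper98.BG133.alpha_front hG C hpH hpα hrH
  exact Cfsg.Agent.Helper21.BG139.lemma_AP hG hS C.hpM hpα P C.hPM C.hPH C.hP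

end Cfsg.Agent.Helper99.BG133
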