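import Mathlib
import Cfsg.Prelude.Def_OddOrderLocal
import Cfsg.Agent.Lib.Helper48.CoprimeGen
import Cfsg.Agent.Lib.Helper96.FpfAction

set_option autoImplicit false

namespace Cfsg.Agent.Helper99.BG157

open Subgroup Cfsg

variable {G : Type*} [Group G] [Finite G]

/-- (A) an abelian group acting coprimely and fixed-point-freely (every non-identity element has
trivial centralizer in `R ≠ 1`) is cyclic. -/
theorem isCyclic_of_abelian_fpf (A R : Subgroup G)
    (hAc : ∀ a ∈ A, ∀ b ∈ A, a * b = b * a) (hAR : A ≤ normalizer (R : Set G)) (hR : R ≠ ⊥)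
    (hcop : (Nat.card A).Coprime (Nat.card R))
    (hfpf : ∀ a ∈ A, a ≠ 1 → R ⊓ centralizer ({a} : Set G) = ⊥) : IsCyclic A := by
  let instA : CommGroup A := { (inferInstance : Group A) with
    mul_comm := fun a b => Subtype.ext (hAc a.1 a.2 b.1 b.2) }
  refine @Cfsg.Agent.Helper96.isCyclic_of_card_ker_pow_prime_le A instA _ ?_
  intro r hr
  by_contra hlt
  push Not at hlt
  have : Fact r.Prime := ⟨hr⟩
  set Kr : Subgroup A := (powMonoidHom r : A →* A).ker with hKr
  have hexpK : ∀ a : Kr, a ^ r = 1 := by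
    intro a
    have : (a : A) ^ r = 1 := a.2
    exact Subtype.ext (by simpa using this)
  have hP : IsPGroup r Kr := by
    intro a
    exact ⟨1, by rw [pow_one]; exact hexpK a⟩
  obtain ⟨k, hk⟩ := IsPGroup.iff_card.mp hP
  have hk2 : 2 ≤ k := by
    by_contra hk'
    push Not at hk'
    have : r ^ k ≤ r ^ 1 := Nat.pow_le_pow_right hr.pos (by omega)
    rw [pow_one, ← hk] at this
    omega
  have hcardKr : r ^ 2 ≤ Nat.card Kr := by
    rw [hk]
    exact Nat.pow_le_pow_right hr.pos hk2
  -- transport to `G`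
  set E : Subgroup G := Kr.map A.subtype with hE
  have hEA : E ≤ A := by
    rintro x ⟨y, _, rfl⟩
    exact y.2
  have hEcard : Nat.card E = Nat.card Kr :=
    Subgroup.card_map_of_injective (Subgroup.subtype_injective A)
  have hEp : ∀ x ∈ E, x ^ r = 1 := by
    rintro x ⟨y, hy, rfl⟩
    have h1 : y ^ r = 1 := by
      have := hexpK ⟨y, hy⟩
      exact congrArg Subtype.val this
    have h2 := congrArg (A.subtype) h1
    simpa using h2
  have hrA : r ∣ Nat.card A := by
    have h1 : Nat.card Kr ∣ Nat.card A := Subgroup.card_subgroup_dvd_card Kr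
    rw [hk] at h1
    exact (dvd_pow_self r (by omega : k ≠ 0)).trans h1
  have hRr : (Nat.card R).Coprime r := by
    exact (Nat.Coprime.coprime_dvd_left hrA hcop).symm
  have hle : R ≤ ⊥ :=
    Cfsg.Agent.Helper48.le_of_forall_inf_centralizer_le (p := r) E R ⊥
      (fun x hx y hy => hAc x (hEA hx) y (hEA hy)) hEp (by rw [hEcard]; exact hcardKr)
      (hEA.trans hAR) hRr
      (fun c hc hc1 => le_of_eq (hfpf c (hEA hc) hc1))
  exact hR (le_bot_iff.mp hle)

end Cfsg.Agent.Helper99.BG157
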