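import Mathlib
import Cfsg.Agent.Lib.Helper62.SLN0
import Cfsg.Agent.Lib.Helper20.U2Rb
import Cfsg.Agent.Lib.Helper20.U2Rc
import Cfsg.Agent.Lib.Helper20.U2Rd

/-!
# SLN project (S2332), piece R3: the character on the abelian subgroup `{el b}`

`ρ (el b) = ∑ₐ β(a, b) • eOp a` and the projector `eOp a` has trace `dim wsp a`.
Also (`b = 0`) piece R2: `dim V = ∑ₐ dim wsp a`.
-/

set_option autoImplicit false

namespace Cfsg.Agent.Helper99.SLN

open Matrix Module Cfsg.Agent.Helper93.U2 Cfsg.Agent.Helper62.SLN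

section REPgen

variable {G : Type*} [Group G] {𝓐 : Type*} [AddCommGroup 𝓐] [Fintype 𝓐]
  {V : Type*} [AddCommGroup V] [Module ℂ V] [FiniteDimensional ℂ V]
  (pr : Pairing 𝓐) (el : 𝓐 → G) (ρ : Representation ℂ G V)

/-- the projector `eOp a` has trace `dim wsp a` -/
theorem h99_trace_eOp (hel : ∀ a b, el (a + b) = el a * el b) (a : 𝓐) :
    LinearMap.trace ℂ V (eOp pr el ρ a) = (finrank ℂ (wsp pr el ρ a) : ℂ) := by
  have hproj : LinearMap.IsProj (wsp pr el ρ a) (eOp pr el ρ a) :=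
    ⟨fun v => Cfsg.Agent.Helper20.U2.eOp_mem_wsp pr el ρ hel a v,
      fun v hv => Cfsg.Agent.Helper20.U2.eOp_self pr el ρ a v hv⟩
  exact hproj.trace

omit [FiniteDimensional ℂ V] in
/-- `ρ (el b) = ∑ₐ β(a, b) • eOp a` -/
theorem h99_rho_el_eq (hel : ∀ a b, el (a + b) = el a * el b) (b : 𝓐) :
    ρ (el b) = ∑ a : 𝓐, pr.β a b • eOp pr el ρ a := by
  have h1 : ρ (el b) = ρ (el b) * ∑ a : 𝓐, eOp pr el ρ a := by
    rw [Cfsg.Agent.Helper20.U2.sum_eOp pr el ρ hel, mul_one]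
  rw [h1, Finset.mul_sum]
  apply Finset.sum_congr rfl
  intro a _
  apply LinearMap.ext
  intro v
  rw [Module.End.mul_apply, LinearMap.smul_apply]
  exact (mem_wsp pr el ρ a _).1 (Cfsg.Agent.Helper20.U2.eOp_mem_wsp pr el ρ hel a v) b

/-- piece R3 -/
theorem character_el (hel : ∀ a b, el (a + b) = el a * el b) (b : 𝓐) :
    ρ.character (el b) = ∑ a : 𝓐, (finrank ℂ (wsp pr el ρ a) : ℂ) * pr.β a b := by
  unfold Representation.character
  rw [h99_rho_el_eq pr el ρ hel b, map_sum]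
  apply Finset.sum_congr rfl
  intro a _
  rw [map_smul, h99_trace_eOp pr el ρ hel a, smul_eq_mul, mul_comm]

/-- piece R2 : `V` is the direct sum of the weight spaces -/
theorem finrank_eq_sum_wsp (hel : ∀ a b, el (a + b) = el a * el b) :
    finrank ℂ V = ∑ a : 𝓐, finrank ℂ (wsp pr el ρ a) := by
  have h := character_el pr el ρ hel 0
  rw [Cfsg.Agent.Helper20.U2.h20_el_zero el hel, Representation.char_one] at h
  have h2 : (finrank ℂ V : ℂ) = ((∑ a : 𝓐, finrank ℂ (wsp pr el ρ a) : ℕ) : ℂ) := by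
    rw [h]
    push_cast
    apply Finset.sum_congr rfl
    intro a _
    rw [pr.zero_right, mul_one]
  exact_mod_cast h2

end REPgen

end Cfsg.Agent.Helper99.SLN
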