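import Mathlib
import Cfsg.Agent.Lib.Helper62.SLN0
import Cfsg.Agent.Lib.Helper79.Integrality

/-!
# SLN project (S2332), piece R5 (DIV): integrality of the central character on a class sum

For an irreducible `ρ` and a conjugation-stable set `T` on which the character is the integer `z`,
the class sum of `T` acts as a scalar `ω` (Schur) that is an algebraic integer, and
`ω * dim V = |T| * z`; hence `dim V ∣ |T| * z`.
-/

set_option autoImplicit false

namespace Cfsg.Agent.Helper99.SLN

open Matrix Module Cfsg.Agent.Helper93.U2 Cfsg.Agent.Helper62.SLN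

/-- a complex number `c` with `c * n = m` (`n` a non-zero natural, `m` an integer) that is an
algebraic integer gives `n ∣ m` -/
theorem h99_int_dvd_of_isIntegral_of_mul_eq (c : ℂ) (n : ℕ) (m : ℤ) (hn : n ≠ 0)
    (hc : c * (n : ℂ) = (m : ℂ)) (hint : IsIntegral ℤ c) : (n : ℤ) ∣ m := by
  have hn' : (n : ℂ) ≠ 0 := by exact_mod_cast hn
  have h1 : c = (((m : ℚ) / (n : ℚ) : ℚ) : ℂ) := by
    push_cast
    rw [eq_div_iff hn']
    exact hc
  rw [h1] at hint
  have h2 : IsIntegral ℤ ((m : ℚ) / (n : ℚ) : ℚ) :=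
    (isIntegral_algebraMap_iff (algebraMap ℚ ℂ).injective).1 hint
  obtain ⟨z, hz⟩ := IsIntegrallyClosed.isIntegral_iff.1 h2
  have h3 : ((z : ℤ) : ℚ) * (n : ℚ) = (m : ℚ) := by
    have : (algebraMap ℤ ℚ) z = (z : ℚ) := rfl
    rw [this] at hz
    rw [hz]
    have hn'' : (n : ℚ) ≠ 0 := by exact_mod_cast hn
    field_simp
  have h4 : z * (n : ℤ) = m := by exact_mod_cast h3
  exact ⟨z, by rw [← h4]; ring⟩

section REPgen

variable {G : Type*} [Group G] {𝓐 : Type*} [AddCommGroup 𝓐] [Fintype 𝓐]
  {V : Type*} [AddCommGroup V] [Module ℂ V] [FiniteDimensional ℂ V]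
  (pr : Pairing 𝓐) (el : 𝓐 → G) (ρ : Representation ℂ G V)

/-- piece R5 (DIV): integrality of the central character on a class sum;
see `Cfsg.Agent.Helper79.finrank_dvd_card` (Lib/Helper79/Integrality.lean) for the model proof
(`wsum`, `schur_scalar`, `isIntegral_wsum`, `dvd_of_isIntegral_of_mul_eq`). -/
theorem dvd_class_sum {G : Type*} [Group G] [Fintype G] (ρ : Representation ℂ G V)
    (hρ : ρ.IsIrreducible) (T : Set G) (hT : ∀ g s, s ∈ T → g * s * g⁻¹ ∈ T)
    (z : ℤ) (hz : ∀ s ∈ T, ρ.character s = (z : ℂ)) :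
    (finrank ℂ V : ℤ) ∣ (Nat.card T : ℤ) * z := by
  classical
  have := hρ
  have hnt := Cfsg.Agent.Helper79.nontrivial_of_irreducible ρ
  let a : G → ℂ := fun g => if g ∈ T then 1 else 0
  have ha : ∀ g h : G, a (h * g * h⁻¹) = a g := by
    intro g h
    have hiff : h * g * h⁻¹ ∈ T ↔ g ∈ T := by
      constructor
      · intro hm
        have := hT h⁻¹ _ hm
        have h2 : h⁻¹ * (h * g * h⁻¹) * h⁻¹⁻¹ = g := by group
        rwa [h2] at this
      · intro hm
        exact hT h g hm
    simp only [a, hiff]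
  obtain ⟨c, hc1, hc2⟩ := Cfsg.Agent.Helper79.schur_scalar ρ (Cfsg.Agent.Helper79.wsum a ρ)
    (Cfsg.Agent.Helper79.wsum_comm a ha ρ)
  have hint : IsIntegral ℤ c := by
    apply Cfsg.Agent.Helper79.isIntegral_of_smul_one (V := V)
    rw [← hc1]
    apply Cfsg.Agent.Helper79.isIntegral_wsum ρ a
    intro g
    simp only [a]
    split_ifs
    · exact isIntegral_one
    · exact isIntegral_zero
  rw [Cfsg.Agent.Helper79.trace_wsum] at hc2
  have hsum : ∑ g : G, a g * ρ.character g = ((Nat.card T : ℤ) * z : ℤ) := by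
    have h1 : ∀ g : G, a g * ρ.character g = if g ∈ T then (z : ℂ) else 0 := by
      intro g
      simp only [a]
      split_ifs with hg
      · rw [one_mul, hz g hg]
      · rw [zero_mul]
    rw [Finset.sum_congr rfl (fun g _ => h1 g), Finset.sum_ite, Finset.sum_const_zero, add_zero,
      Finset.sum_const, nsmul_eq_mul]
    have hcard : (Finset.univ.filter (fun g : G => g ∈ T)).card = Nat.card T := by
      rw [Nat.card_eq_fintype_card, Fintype.card_subtype]
    rw [hcard]
    push_cast
    ring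
  rw [hsum] at hc2
  exact h99_int_dvd_of_isIntegral_of_mul_eq c _ _ (Module.finrank_pos).ne' hc2 hint

end REPgen

end Cfsg.Agent.Helper99.SLN
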