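import Mathlib
import Cfsg.Agent.Lib.Helper17.PrimeSylow

set_option autoImplicit false

/-!
Counting elements of order `p * q`: if the Sylow `p`-subgroups have prime order `p` and `q ≠ p` is a prime
dividing the order of the centralizer of every Sylow `p`-subgroup, there are at least
`n_p * (p - 1) * (q - 1)` elements of order `p * q`.
-/

namespace Cfsg.Agent.Helper99.O6232

open Cfsg.Agent.Helper17

theorem h99_card_fin_ne_zero (n : ℕ) [NeZero n] : Nat.card {i : Fin n // i ≠ 0} = n - 1 := by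
  rw [card_ne_subtype, Nat.card_eq_fintype_card, Fintype.card_fin]

/-- elements of order `p * q` -/
theorem card_orderOf_mul_ge {G : Type*} [Group G] [Finite G] {p q : ℕ} [hp : Fact p.Prime]
    [hq : Fact q.Prime] (hpq : p ≠ q) (hP : ∀ P : Sylow p G, Nat.card (P : Subgroup G) = p)
    (hC : ∀ P : Sylow p G, q ∣ Nat.card (Subgroup.centralizer ((P : Subgroup G) : Set G))) :
    Nat.card (Sylow p G) * ((p - 1) * (q - 1)) ≤ Nat.card {g : G // orderOf g = p * q} := by
  classical
  have hcop : Nat.Coprime p q := (Nat.coprime_primes hp.out hq.out).2 hpq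
  have : NeZero p := ⟨hp.out.ne_zero⟩
  have : NeZero q := ⟨hq.out.ne_zero⟩
  -- generators of the Sylow subgroups and elements of order `q` centralising them
  have hx : ∀ P : Sylow p G, ∃ x : G, x ∈ (P : Subgroup G) ∧ orderOf x = p := by
    intro P
    obtain ⟨x', hx'⟩ := exists_prime_orderOf_dvd_card' (G := ↥(P : Subgroup G)) p (by rw [hP P])
    exact ⟨(x' : G), x'.2, by rw [Subgroup.orderOf_coe]; exact hx'⟩
  have hy : ∀ P : Sylow p G, ∃ y : G, y ∈ Subgroup.centralizer ((P : Subgroup G) : Set G) ∧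
      orderOf y = q := by
    intro P
    obtain ⟨y', hy'⟩ := exists_prime_orderOf_dvd_card'
      (G := ↥(Subgroup.centralizer ((P : Subgroup G) : Set G))) q (hC P)
    exact ⟨(y' : G), y'.2, by rw [Subgroup.orderOf_coe]; exact hy'⟩
  choose X hXP hXo using hx
  choose Y hYC hYo using hy
  have hcomm : ∀ P : Sylow p G, Commute (X P) (Y P) := fun P =>
    (Subgroup.mem_centralizer_iff.1 (hYC P) (X P) (hXP P))
  have hYq : ∀ P : Sylow p G, Y P ^ q = 1 := by
    intro P
    have := pow_orderOf_eq_one (Y P)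
    rwa [hYo P] at this
  have hXp : ∀ P : Sylow p G, X P ^ p = 1 := by
    intro P
    have := pow_orderOf_eq_one (X P)
    rwa [hXo P] at this
  -- orders of the powers
  have hXi : ∀ (P : Sylow p G) (i : Fin p), i ≠ 0 → orderOf (X P ^ i.val) = p := by
    intro P i hi
    rw [orderOf_pow, hXo P]
    have hi0 : i.val ≠ 0 := fun h => hi (Fin.ext h)
    have hg : Nat.gcd p i.val = 1 := by
      apply (Nat.Prime.coprime_iff_not_dvd hp.out).2
      intro hd
      exact absurd (Nat.le_of_dvd (Nat.pos_of_ne_zero hi0) hd) (not_le.2 i.2)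
    rw [hg, Nat.div_one]
  have hYj : ∀ (P : Sylow p G) (j : Fin q), j ≠ 0 → orderOf (Y P ^ j.val) = q := by
    intro P j hj
    rw [orderOf_pow, hYo P]
    have hj0 : j.val ≠ 0 := fun h => hj (Fin.ext h)
    have hg : Nat.gcd q j.val = 1 := by
      apply (Nat.Prime.coprime_iff_not_dvd hq.out).2
      intro hd
      exact absurd (Nat.le_of_dvd (Nat.pos_of_ne_zero hj0) hd) (not_le.2 j.2)
    rw [hg, Nat.div_one]
  have hord : ∀ (P : Sylow p G) (i : Fin p) (j : Fin q), i ≠ 0 → j ≠ 0 →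
      orderOf (X P ^ i.val * Y P ^ j.val) = p * q := by
    intro P i j hi hj
    have hc : Commute (X P ^ i.val) (Y P ^ j.val) := (hcomm P).pow_pow _ _
    rw [hc.orderOf_mul_eq_mul_orderOf_of_coprime (by rw [hXi P i hi, hYj P j hj]; exact hcop),
      hXi P i hi, hYj P j hj]
  let Φ : Sylow p G × {i : Fin p // i ≠ 0} × {j : Fin q // j ≠ 0} → {g : G // orderOf g = p * q} :=
    fun t => ⟨X t.1 ^ t.2.1.1.val * Y t.1 ^ t.2.2.1.val, hord t.1 t.2.1.1 t.2.2.1 t.2.1.2 t.2.2.2⟩
  have hΦ : Function.Injective Φ := by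
    rintro ⟨P, ⟨i, hi⟩, ⟨j, hj⟩⟩ ⟨P', ⟨i', hi'⟩, ⟨j', hj'⟩⟩ h
    have h0 : X P ^ i.val * Y P ^ j.val = X P' ^ i'.val * Y P' ^ j'.val := congrArg Subtype.val h
    -- `q`-th powers
    have hqp : ∀ (P : Sylow p G) (i : Fin p) (j : Fin q),
        (X P ^ i.val * Y P ^ j.val) ^ q = (X P ^ i.val) ^ q := by
      intro P i j
      rw [((hcomm P).pow_pow _ _).mul_pow, ← pow_mul (Y P), mul_comm j.val q, pow_mul,
        hYq P, one_pow, mul_one]
    have h1 : (X P ^ i.val) ^ q = (X P' ^ i'.val) ^ q := by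
      rw [← hqp P i j, ← hqp P' i' j', h0]
    have hne : (X P ^ i.val) ^ q ≠ 1 := by
      intro h2
      have hd : orderOf (X P ^ i.val) ∣ q := orderOf_dvd_of_pow_eq_one h2
      rw [hXi P i hi] at hd
      exact hpq ((Nat.prime_dvd_prime_iff_eq hp.out hq.out).1 hd)
    have hmem : (X P ^ i.val) ^ q ∈ (P : Subgroup G) := Subgroup.pow_mem _ (Subgroup.pow_mem _ (hXP P) _) _
    have hmem' : (X P ^ i.val) ^ q ∈ (P' : Subgroup G) := by
      rw [h1]; exact Subgroup.pow_mem _ (Subgroup.pow_mem _ (hXP P') _) _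
    have hPP : P = P' := by
      apply Sylow.ext
      rw [← (zpowers_eq_of_card_prime _ (hP P) _ hmem hne).1,
        ← (zpowers_eq_of_card_prime _ (hP P') _ hmem' hne).1]
    subst hPP
    -- `p`-th powers
    have hpp : ∀ (i : Fin p) (j : Fin q),
        (X P ^ i.val * Y P ^ j.val) ^ p = (Y P) ^ (j.val * p) := by
      intro i j
      rw [((hcomm P).pow_pow _ _).mul_pow, ← pow_mul (X P), mul_comm i.val p, pow_mul,
        hXp P, one_pow, one_mul, ← pow_mul]
    have h3 : (Y P) ^ (j.val * p) = (Y P) ^ (j'.val * p) := by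
      rw [← hpp i j, ← hpp i' j', h0]
    rw [pow_eq_pow_iff_modEq, hYo P] at h3
    have h4 : j.val ≡ j'.val [MOD q] :=
      Nat.ModEq.cancel_right_of_coprime (Nat.Coprime.symm hcop) h3
    have hjj : j = j' := Fin.ext (Nat.ModEq.eq_of_lt_of_lt h4 j.2 j'.2)
    subst hjj
    have h5 : X P ^ i.val = X P ^ i'.val := mul_right_cancel h0
    rw [pow_eq_pow_iff_modEq, hXo P] at h5
    have hii : i = i' := Fin.ext (Nat.ModEq.eq_of_lt_of_lt h5 i.2 i'.2)
    subst hii
    rfl
  have hcard := Nat.card_le_card_of_injective Φ hΦ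
  rw [Nat.card_prod, Nat.card_prod, h99_card_fin_ne_zero, h99_card_fin_ne_zero] at hcard
  exact hcard

end Cfsg.Agent.Helper99.O6232
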