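import Mathlib

/-!
helper99: core of piece (BOT) `g2_bot` of helper31's lemma server G2 (row S3795):
pure group theory + arithmetic; the pieces (BLOCK) and (INTER) enter as hypotheses.
-/

set_option autoImplicit false

namespace Cfsg.Agent.Helper99.G2

open Subgroup

/-- `4 ^ c < 3 ^ 2 ^ (c - 1)` for `c ≥ 3`. -/
theorem h99_four_pow_lt (c : ℕ) (hc : 3 ≤ c) : 4 ^ c < 3 ^ 2 ^ (c - 1) := by
  induction c, hc using Nat.le_induction with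
  | base => norm_num
  | succ c hc ih =>
    have h1 : c + 1 - 1 = (c - 1) + 1 := by omega
    rw [h1, pow_succ 2 (c - 1), pow_mul, pow_succ 4 c]
    have h2 : 4 ≤ 3 ^ 2 ^ (c - 1) := by
      have : 4 ^ c ≥ 4 := by
        calc 4 ^ c ≥ 4 ^ 1 := Nat.pow_le_pow_right (by norm_num) (by omega)
          _ = 4 := by norm_num
      omega
    calc 4 ^ c * 4 < 3 ^ 2 ^ (c - 1) * 4 := by
          exact Nat.mul_lt_mul_of_pos_right ih (by norm_num)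
      _ ≤ 3 ^ 2 ^ (c - 1) * 3 ^ 2 ^ (c - 1) := Nat.mul_le_mul_left _ h2
      _ = (3 ^ 2 ^ (c - 1)) ^ 2 := by ring

/-- The numerical core: `s ^ 2 ^ (c-1) ≤ (2^c - 1)²` with `s ≥ 3`, `c ≥ 1` forces `c = 2`, `s = 3`. -/
theorem h99_numeric (s c : ℕ) (hs : 3 ≤ s) (hc : 1 ≤ c)
    (h : s ^ 2 ^ (c - 1) ≤ (2 ^ c - 1) ^ 2) : c = 2 ∧ s = 3 := by
  rcases Nat.lt_or_ge c 3 with hc3 | hc3
  · interval_cases c
    · exfalso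
      norm_num at h
      omega
    · refine ⟨rfl, ?_⟩
      norm_num at h
      by_contra hne
      have h4 : 4 ≤ s := by omega
      have : 16 ≤ s ^ 2 := by nlinarith
      omega
  · exfalso
    have h1 : 3 ^ 2 ^ (c - 1) ≤ s ^ 2 ^ (c - 1) := Nat.pow_le_pow_left hs _
    have h2 : (2 ^ c - 1) ^ 2 < 4 ^ c := by
      have h3 : 2 ^ c - 1 < 2 ^ c := Nat.sub_lt (Nat.pow_pos (by norm_num)) (by norm_num)
      calc (2 ^ c - 1) ^ 2 < (2 ^ c) ^ 2 := Nat.pow_lt_pow_left h3 (by norm_num)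
        _ = 4 ^ c := by rw [← pow_mul, mul_comm, pow_mul]; norm_num
    have h4 := h99_four_pow_lt c hc3
    omega


/-- (BOT), with the pieces (BLOCK) and (INTER) as hypotheses. -/
theorem g2_bot_core {G : Type*} [Group G] [Finite G] {s : ℕ} (hs : s.Prime) (hs2 : s ≠ 2)
    (S Z Q : Subgroup G) (x : G) (n : ℕ) (hn : 1 ≤ n) (hZS : Z ≤ S)
    (hQS : ∀ g ∈ Q, ∀ a ∈ S, g * a * g⁻¹ ∈ S) (hxS : ∀ a ∈ S, x * a * x⁻¹ ∈ S)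
    (hxQ : ∀ g ∈ Q, x * g * x⁻¹ ∈ Q)
    (hZc : ∀ z ∈ Z, ∀ a ∈ S, z * a = a * z)
    (hcomm : ∀ a ∈ S, ∀ b ∈ S, a * b * a⁻¹ * b⁻¹ ∈ Z)
    (hQZ : ∀ g ∈ Q, ∀ z ∈ Z, g * z = z * g)
    (hmax : ∀ S₁ : Subgroup G, S₁ ≤ S → S₁ ≠ S → (∀ g ∈ Q, ∀ a ∈ S₁, g * a * g⁻¹ ∈ S₁) →
      (∀ a ∈ S₁, x * a * x⁻¹ ∈ S₁) → S₁ ≤ Z)
    (hblock : ∃ j : ℕ, j ≤ n ∧ ∃ R T : Subgroup G, R ≤ S ∧ T ≤ S ∧
      (∀ a ∈ S, (a ∈ R ↔ ∀ b ∈ S, a * b * a⁻¹ * b⁻¹ ∈ T)) ∧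
      (∃ a ∈ S, ∃ b ∈ S, a * b * a⁻¹ * b⁻¹ ∉ T) ∧
      (∀ a ∈ R, x ^ 2 ^ j * a * (x ^ 2 ^ j)⁻¹ ∈ R) ∧
      Nat.card {a : G // a ∈ S ∧ x ^ 2 ^ n * a * (x ^ 2 ^ n)⁻¹ * a ∈ R} ≤
        (2 ^ (n + 1 - j) - 1) ^ 2 * Nat.card R ∧
      (Nat.card {a : G // a ∈ S ∧ x ^ 2 ^ n * a * (x ^ 2 ^ n)⁻¹ * a ∈ R} =
          (2 ^ (n + 1 - j) - 1) ^ 2 * Nat.card R →
        ∀ a ∈ S, x ^ 2 ^ n * a * (x ^ 2 ^ n)⁻¹ * a⁻¹ ∈ R →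
          x ^ 2 ^ j * a * (x ^ 2 ^ j)⁻¹ * a⁻¹ ∈ R))
    (hinter : ∀ (R : Subgroup G) (j : ℕ), j ≤ n → Z ≤ R → R ≤ S →
      (∀ a ∈ R, x ^ 2 ^ j * a * (x ^ 2 ^ j)⁻¹ ∈ R) →
      (∀ a ∈ S, (∀ i : ℕ, x ^ i * a * (x ^ i)⁻¹ ∈ R) → a ∈ Z) →
      Nat.card {a : G // a ∈ S ∧ x ^ 2 ^ n * a * (x ^ 2 ^ n)⁻¹ * a ∈ Z} * Nat.card R ^ 2 ^ j ≤
        Nat.card Z * Nat.card {a : G // a ∈ S ∧ x ^ 2 ^ n * a * (x ^ 2 ^ n)⁻¹ * a ∈ R} ^ 2 ^ j ∧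
      ((∀ a ∈ S, x ^ 2 ^ n * a * (x ^ 2 ^ n)⁻¹ * a⁻¹ ∈ R →
          x ^ 2 ^ j * a * (x ^ 2 ^ j)⁻¹ * a⁻¹ ∈ R) →
        ∀ a ∈ S, x ^ 2 ^ n * a * (x ^ 2 ^ n)⁻¹ * a⁻¹ ∈ Z →
          x ^ 2 ^ j * a * (x ^ 2 ^ j)⁻¹ * a⁻¹ ∈ Z))
    (hA1 : s ^ 2 ^ n * Nat.card Z ≤
      Nat.card {a : G // a ∈ S ∧ x ^ 2 ^ n * a * (x ^ 2 ^ n)⁻¹ * a ∈ Z})
    (hA2 : ∃ a ∈ S, x ^ 2 ^ n * a * (x ^ 2 ^ n)⁻¹ * a⁻¹ ∈ Z ∧
      x ^ 2 ^ (n - 1) * a * (x ^ 2 ^ (n - 1))⁻¹ * a⁻¹ ∉ Z) : False := by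
  obtain ⟨j, hj, R, T, hRS, hTS, hRT, hTne, hyR, hcount, heq⟩ := hblock
  -- `Z ≤ R`
  have hZR : Z ≤ R := by
    intro z hz
    rw [hRT z (hZS hz)]
    intro b hb
    have : z * b * z⁻¹ * b⁻¹ = 1 := by
      rw [hZc z hz b hb]; group
    rw [this]
    exact T.one_mem
  -- `R ≠ S`
  have hRne : R ≠ S := by
    intro h
    obtain ⟨a, ha, b, hb, hab⟩ := hTne
    have haR : a ∈ R := by rw [h]; exact ha
    exact hab ((hRT a ha).1 haR b hb)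
  -- `R` is `Q`-invariant
  have hRQ : ∀ g ∈ Q, ∀ a ∈ R, g * a * g⁻¹ ∈ R := by
    intro g hg a ha
    have haS : a ∈ S := hRS ha
    rw [hRT _ (hQS g hg a haS)]
    intro b hb
    have hb' : g⁻¹ * b * g ∈ S := by
      have := hQS g⁻¹ (Q.inv_mem hg) b hb
      rwa [inv_inv] at this
    have hz : a * (g⁻¹ * b * g) * a⁻¹ * (g⁻¹ * b * g)⁻¹ ∈ Z := hcomm a haS _ hb'
    have hzT : a * (g⁻¹ * b * g) * a⁻¹ * (g⁻¹ * b * g)⁻¹ ∈ T := (hRT a haS).1 ha _ hb'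
    have e1 : g * a * g⁻¹ * b * (g * a * g⁻¹)⁻¹ * b⁻¹ =
        g * (a * (g⁻¹ * b * g) * a⁻¹ * (g⁻¹ * b * g)⁻¹) * g⁻¹ := by group
    rw [e1, hQZ g hg _ hz, mul_assoc, mul_inv_cancel, mul_one]
    exact hzT
  -- powers of `x` normalise `Q`
  have hxQi : ∀ i : ℕ, ∀ g ∈ Q, x ^ i * g * (x ^ i)⁻¹ ∈ Q := by
    intro i
    induction i with
    | zero => intro g hg; simpa using hg
    | succ i ih =>
      intro g hg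
      have e : x ^ (i + 1) * g * (x ^ (i + 1))⁻¹ = x * (x ^ i * g * (x ^ i)⁻¹) * x⁻¹ := by
        rw [pow_succ']; group
      rw [e]
      exact hxQ _ (ih g hg)
  -- the subgroup `D`
  let D : Subgroup G :=
    { carrier := {a | a ∈ S ∧ ∀ i : ℕ, x ^ i * a * (x ^ i)⁻¹ ∈ R}
      one_mem' := ⟨S.one_mem, fun i => by simp [R.one_mem]⟩
      mul_mem' := by
        rintro a b ⟨ha, ha'⟩ ⟨hb, hb'⟩
        refine ⟨S.mul_mem ha hb, fun i => ?_⟩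
        have e : x ^ i * (a * b) * (x ^ i)⁻¹ =
            (x ^ i * a * (x ^ i)⁻¹) * (x ^ i * b * (x ^ i)⁻¹) := by group
        rw [e]
        exact R.mul_mem (ha' i) (hb' i)
      inv_mem' := by
        rintro a ⟨ha, ha'⟩
        refine ⟨S.inv_mem ha, fun i => ?_⟩
        have e : x ^ i * a⁻¹ * (x ^ i)⁻¹ = (x ^ i * a * (x ^ i)⁻¹)⁻¹ := by group
        rw [e]
        exact R.inv_mem (ha' i) }
  have hDS : D ≤ S := fun a ha => ha.1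
  have hDR : D ≤ R := by
    intro a ha
    have := ha.2 0
    simpa using this
  have hDne : D ≠ S := by
    intro h
    apply hRne
    refine le_antisymm hRS ?_
    rw [← h]
    exact hDR
  have hDQ : ∀ g ∈ Q, ∀ a ∈ D, g * a * g⁻¹ ∈ D := by
    intro g hg a ha
    refine ⟨hQS g hg a ha.1, fun i => ?_⟩
    have e : x ^ i * (g * a * g⁻¹) * (x ^ i)⁻¹ =
        (x ^ i * g * (x ^ i)⁻¹) * (x ^ i * a * (x ^ i)⁻¹) * (x ^ i * g * (x ^ i)⁻¹)⁻¹ := by group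
    rw [e]
    exact hRQ _ (hxQi i g hg) _ (ha.2 i)
  have hDx : ∀ a ∈ D, x * a * x⁻¹ ∈ D := by
    intro a ha
    refine ⟨hxS a ha.1, fun i => ?_⟩
    have e : x ^ i * (x * a * x⁻¹) * (x ^ i)⁻¹ = x ^ (i + 1) * a * (x ^ (i + 1))⁻¹ := by
      rw [pow_succ]; group
    rw [e]
    exact ha.2 (i + 1)
  have hDZ : D ≤ Z := hmax D hDS hDne hDQ hDx
  have hint : ∀ a ∈ S, (∀ i : ℕ, x ^ i * a * (x ^ i)⁻¹ ∈ R) → a ∈ Z :=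
    fun a ha h => hDZ ⟨ha, h⟩
  obtain ⟨hI1, hI2⟩ := hinter R j hj hZR hRS hyR hint
  -- arithmetic
  set A := Nat.card {a : G // a ∈ S ∧ x ^ 2 ^ n * a * (x ^ 2 ^ n)⁻¹ * a ∈ Z} with hA
  set B := Nat.card {a : G // a ∈ S ∧ x ^ 2 ^ n * a * (x ^ 2 ^ n)⁻¹ * a ∈ R} with hB
  set cR := Nat.card R with hcR
  set cZ := Nat.card Z with hcZ
  have hcRpos : 0 < cR := Nat.card_pos
  have hcZpos : 0 < cZ := Nat.card_pos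
  set c := n + 1 - j with hc
  have hc1 : 1 ≤ c := by omega
  have hnc : n = (c - 1) + j := by omega
  set J := 2 ^ j with hJ
  have hJpos : 0 < J := Nat.pow_pos (by norm_num)
  have hJne : J ≠ 0 := hJpos.ne'
  have h2n : 2 ^ n = 2 ^ (c - 1) * J := by rw [hnc, pow_add]
  have hs3 : 3 ≤ s := by
    have := hs.two_le
    omega
  -- the chain of inequalities
  have hch1 : s ^ 2 ^ n * cZ * cR ^ J ≤ A * cR ^ J := Nat.mul_le_mul_right _ hA1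
  have hch3 : cZ * B ^ J ≤ cZ * ((2 ^ c - 1) ^ 2 * cR) ^ J :=
    Nat.mul_le_mul_left _ (Nat.pow_le_pow_left hcount _)
  have hch : s ^ 2 ^ n * (cZ * cR ^ J) ≤ ((2 ^ c - 1) ^ 2) ^ J * (cZ * cR ^ J) := by
    calc s ^ 2 ^ n * (cZ * cR ^ J) = s ^ 2 ^ n * cZ * cR ^ J := by ring
      _ ≤ A * cR ^ J := hch1
      _ ≤ cZ * B ^ J := hI1
      _ ≤ cZ * ((2 ^ c - 1) ^ 2 * cR) ^ J := hch3
      _ = ((2 ^ c - 1) ^ 2) ^ J * (cZ * cR ^ J) := by rw [mul_pow]; ring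
  have hpos : 0 < cZ * cR ^ J := Nat.mul_pos hcZpos (Nat.pow_pos hcRpos)
  have hle : s ^ 2 ^ n ≤ ((2 ^ c - 1) ^ 2) ^ J := Nat.le_of_mul_le_mul_right hch hpos
  have hle' : s ^ 2 ^ (c - 1) ≤ (2 ^ c - 1) ^ 2 := by
    rw [h2n, pow_mul] at hle
    exact (Nat.pow_le_pow_iff_left hJne).mp hle
  obtain ⟨hc2, hs3'⟩ := h99_numeric s c hs3 hc1 hle'
  -- equality
  have hjn : j = n - 1 := by omega
  have h9 : (2 ^ c - 1) ^ 2 = 9 := by rw [hc2]; norm_num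
  have hsn : s ^ 2 ^ n = 9 ^ J := by
    rw [h2n, hc2, hs3', pow_mul]; norm_num
  rw [h9] at hch3 hcount heq
  have hBeq : B = 9 * cR := by
    have h1 : cZ * (9 * cR) ^ J ≤ cZ * B ^ J := by
      calc cZ * (9 * cR) ^ J = s ^ 2 ^ n * cZ * cR ^ J := by rw [hsn, mul_pow]; ring
        _ ≤ A * cR ^ J := hch1
        _ ≤ cZ * B ^ J := hI1
    have h2 : cZ * B ^ J = cZ * (9 * cR) ^ J := le_antisymm hch3 h1
    have h3 : B ^ J = (9 * cR) ^ J := Nat.eq_of_mul_eq_mul_left hcZpos h2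
    exact Nat.pow_left_injective hJne h3
  have hfin := hI2 (heq hBeq)
  obtain ⟨a, haS, haZ, haN⟩ := hA2
  apply haN
  have := hfin a haS haZ
  rw [hJ, hjn] at this
  exact this

end Cfsg.Agent.Helper99.G2
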