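import Mathlib
import Cfsg.Agent.Lib.Helper31.H2Defs
import Cfsg.Agent.Lib.Helper29.CoprimeGen

/-!
H2 (E3) `Rj_gen` for helper31's lemma server "H2" (row S3786).
-/

set_option autoImplicit false

namespace Cfsg.Agent.Helper99.H2

open Cfsg Cfsg.Agent.Helper31.H2 Cfsg.Agent.Helper31.HHB Cfsg.Agent.Helper48.Wreath

theorem h99e3_le_normalizer {H : Type*} [Group H] (B N : Subgroup H)
    (hBN : ∀ b ∈ B, ∀ g ∈ N, b * g * b⁻¹ ∈ N) : B ≤ Subgroup.normalizer (N : Set H) := by
  intro b hb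
  rw [Subgroup.mem_normalizer_iff]
  intro h
  constructor
  · exact hBN b hb h
  · intro hh
    have := hBN b⁻¹ (B.inv_mem hb) _ hh
    simpa [mul_assoc] using this

theorem Rj_gen {H : Type*} [Group H] [Finite H] {p : ℕ} [Fact p.Prime] (B R R₁ : Subgroup H) (a c : H)
    (h : DecHyp p B R R₁ a c) (hE1 : ∀ g ∈ R, c * g = g * c → g ∈ R₁) :
    R ≤ ⨆ j : ZMod p, Rj R a c j := by
  have hp : p.Prime := Fact.out
  set A : Subgroup H := Subgroup.closure {a, c} with hA
  have hgen : ∀ x ∈ ({a, c} : Set H), ∀ y ∈ ({a, c} : Set H), x * y = y * x := by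
    intro x hx y hy
    rcases hx with rfl | rfl <;> rcases hy with rfl | rfl
    · rfl
    · exact h.ac
    · exact h.ac.symm
    · rfl
  have hAc : ∀ x ∈ A, ∀ y ∈ A, x * y = y * x := by
    intro x hx y hy
    have hcm := Subgroup.isMulCommutative_closure hgen
    exact congrArg Subtype.val (hcm.is_comm.comm (⟨x, hx⟩ : Subgroup.closure {a, c}) ⟨y, hy⟩)
  have hAp : ∀ x ∈ A, x ^ p = 1 := by
    intro x hx
    induction hx using Subgroup.closure_induction with
    | mem x hx =>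
      rcases hx with rfl | rfl
      · exact h.ap
      · exact h.cp
    | one => exact one_pow _
    | mul x y hx hy ihx ihy =>
      have hc : Commute x y := hAc x hx y hy
      rw [hc.mul_pow, ihx, ihy, one_mul]
    | inv x hx ihx => rw [inv_pow, ihx, inv_one]
  have haA : a ∈ A := Subgroup.subset_closure (by simp)
  have hcA : c ∈ A := Subgroup.subset_closure (by simp)
  have hAB : A ≤ B := by
    rw [hA, Subgroup.closure_le]
    rintro x (rfl | rfl)
    · exact h.a_mem
    · exact h.c_mem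
  have hAR : A ≤ Subgroup.normalizer (R : Set H) :=
    hAB.trans (h99e3_le_normalizer B R h.cfg.invR)
  set S : Set H := {s | (∃ j : ℕ, s = a * c ^ j) ∨ (∃ i : ℕ, 0 < i ∧ i < p ∧ s = c ^ i)} with hS
  have hSA : S ⊆ A := by
    rintro s (⟨j, rfl⟩ | ⟨i, _, _, rfl⟩)
    · exact A.mul_mem haA (A.pow_mem hcA j)
    · exact A.pow_mem hcA i
  have key := Cfsg.Agent.Helper29.le_genS A R hAc hAp S hSA haA hcA
    (fun j => Or.inl ⟨j, rfl⟩) (fun i hi0 hip => Or.inr ⟨i, hi0, hip, rfl⟩) hAR h.hR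
  refine key.trans ?_
  unfold Cfsg.Agent.Helper29.genS
  apply iSup_le
  rintro ⟨s, hs⟩
  rcases hs with ⟨j, rfl⟩ | ⟨i, hi0, hip, rfl⟩
  · refine le_trans ?_ (le_iSup (fun j : ZMod p => Rj R a c j) ((j : ℕ) : ZMod p))
    unfold Rj
    rw [ZMod.val_natCast, ← pow_eq_pow_mod j h.cp]
  · refine le_trans ?_ (le_iSup (fun j : ZMod p => Rj R a c j) 0)
    intro g hg
    obtain ⟨hgR, hgc⟩ := Subgroup.mem_inf.mp hg
    rw [Subgroup.mem_centralizer_singleton_iff] at hgc
    have hcop : Nat.Coprime i p := (Nat.coprime_of_lt_prime hi0.ne' hip hp).symm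
    obtain ⟨m, -, hm⟩ := Nat.exists_mul_mod_eq_one_of_coprime hcop hp.one_lt
    have hcm : (c ^ i) ^ m = c := by
      rw [← pow_mul, pow_eq_pow_mod (i * m) h.cp, hm, pow_one]
    have hcg : Commute g (c ^ i) := hgc
    have hcg' : Commute g c := by
      have := hcg.pow_right m
      rwa [hcm] at this
    have hgR₁ : g ∈ R₁ := hE1 g hgR hcg'.eq.symm
    unfold Rj
    refine Subgroup.mem_inf.mpr ⟨hgR, ?_⟩
    rw [Subgroup.mem_centralizer_singleton_iff, ZMod.val_zero, pow_zero, mul_one]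
    exact (h.aR₁ g hgR₁).symm

end Cfsg.Agent.Helper99.H2
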