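import Mathlib
import Cfsg.Agent.Lib.Helper32.N5Defs

/-!
helper99: piece (BETA2) `beta_finish` of helper32's lemma server N5 (row S1904).
-/

set_option autoImplicit false

namespace Cfsg.Agent.Helper99.N5

open Cfsg Cfsg.Agent.Helper32.N5
open scoped commutatorElement

universe u

variable {X : Type u} [Group X] [Finite X]

/-- A characteristic subgroup is invariant under any group of automorphisms. -/
theorem h99_ainv_of_char (A : Subgroup (MulAut X)) (H : Subgroup X) [hH : H.Characteristic] :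
    AInv A H := by
  intro φ _ x hx
  have := Subgroup.characteristic_iff_le_comap.mp hH φ hx
  exact this

/-- A nontrivial `σ`-stable subgroup of `V` is `V`. -/
theorem h99_eq_V_of_stable {V : Subgroup X} {σ : MulAut X} (hV : VData V σ) (W : Subgroup X)
    (hWV : W ≤ V) (hWσ : ∀ w ∈ W, σ w ∈ W) (hW : W ≠ ⊥) : W = V := by
  obtain ⟨⟨w, hw⟩, hw1⟩ := Subgroup.ne_bot_iff_exists_ne_one.mp hW
  have hw1 : w ≠ 1 := fun h => hw1 (Subtype.ext h)
  have hwV : w ∈ V := hWV hw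
  have h1 : σ w ≠ 1 := fun h => hw1 ((map_eq_one_iff σ σ.injective).mp h)
  have h2 : σ (σ w) ≠ 1 := fun h => h1 ((map_eq_one_iff σ σ.injective).mp h)
  have h3 : σ w ≠ w := fun h => hw1 (hV.fpf w hwV h)
  have h4 : σ (σ w) ≠ σ w := fun h => h3 (σ.injective h)
  have h5 : σ (σ w) ≠ w := by
    intro h
    have hσwV : σ w ∈ V := hV.inv w hwV
    have hcomm : σ w * w = w * σ w :=
      (Subgroup.mem_center_iff.mp (hV.cen hσwV) w).symm
    have hu : σ (w * σ w) = w * σ w := by rw [map_mul, h, hcomm]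
    have hu1 : w * σ w = 1 := hV.fpf _ (V.mul_mem hwV hσwV) hu
    have hw2 : w ^ 2 = 1 := hV.el w hwV
    have : σ w = w := by
      have h6 : σ w = w⁻¹ := (eq_inv_of_mul_eq_one_right hu1)
      have h7 : w⁻¹ = w := by
        rw [inv_eq_iff_mul_eq_one, ← pow_two, hw2]
      rw [h6, h7]
    exact h3 this
  refine Subgroup.eq_of_le_of_card_ge hWV ?_
  rw [hV.card]
  classical
  let S : Finset X := {1, w, σ w, σ (σ w)}
  have hS : S.card = 4 := by
    have e1 : σ w ∉ ({σ (σ w)} : Finset X) := by simpa using h4.symm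
    have e2 : w ∉ ({σ w, σ (σ w)} : Finset X) := by
      simp only [Finset.mem_insert, Finset.mem_singleton, not_or]
      exact ⟨h3.symm, h5.symm⟩
    have e3 : (1 : X) ∉ ({w, σ w, σ (σ w)} : Finset X) := by
      simp only [Finset.mem_insert, Finset.mem_singleton, not_or]
      exact ⟨hw1.symm, h1.symm, h2.symm⟩
    simp only [S]
    rw [Finset.card_insert_of_notMem e3, Finset.card_insert_of_notMem e2,
      Finset.card_insert_of_notMem e1, Finset.card_singleton]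
  have hSW : (S : Set X) ⊆ (W : Set X) := by
    intro x hx
    simp only [S, Finset.coe_insert, Finset.coe_singleton, Set.mem_insert_iff,
      Set.mem_singleton_iff] at hx
    rcases hx with rfl | rfl | rfl | rfl
    · exact W.one_mem
    · exact hw
    · exact hWσ _ hw
    · exact hWσ _ (hWσ _ hw)
  calc 4 = (S : Set X).ncard := by rw [Set.ncard_coe_finset, hS]
    _ ≤ (W : Set X).ncard := Set.ncard_le_ncard hSW (Set.toFinite _)
    _ = Nat.card W := (Nat.card_coe_set_eq _)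

/-- If `V` is central and all commutators `⁅g, x⁆` lie in `V`, then `⟨V, g⟩` is a normal abelian
subgroup. -/
theorem h99_exists_normal_ab (V : Subgroup X) (hVc : V ≤ Subgroup.center X) (g : X)
    (hg : ∀ x : X, ⁅g, x⁆ ∈ V) :
    ∃ M : Subgroup X, M.Normal ∧ Ab M ∧ V ≤ M ∧ g ∈ M := by
  have hc : ∀ v ∈ V, ∀ y : X, y * v = v * y := fun v hv y =>
    Subgroup.mem_center_iff.mp (hVc hv) y
  let M : Subgroup X :=
    { carrier := {x | ∃ k : ℤ, ∃ v ∈ V, x = v * g ^ k}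
      one_mem' := ⟨0, 1, V.one_mem, by simp⟩
      mul_mem' := by
        rintro _ _ ⟨k, v, hv, rfl⟩ ⟨l, w, hw, rfl⟩
        refine ⟨k + l, v * w, V.mul_mem hv hw, ?_⟩
        rw [zpow_add, mul_assoc v (g ^ k), ← mul_assoc (g ^ k) w, hc w hw (g ^ k)]
        simp only [mul_assoc]
      inv_mem' := by
        rintro _ ⟨k, v, hv, rfl⟩
        refine ⟨-k, v⁻¹, V.inv_mem hv, ?_⟩
        rw [mul_inv_rev, zpow_neg, hc _ (V.inv_mem hv)] }
  have hmem : ∀ x, x ∈ M ↔ ∃ k : ℤ, ∃ v ∈ V, x = v * g ^ k := fun x => Iff.rfl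
  refine ⟨M, ?_, ?_, ?_, ?_⟩
  · -- normal
    constructor
    rintro _ ⟨k, v, hv, rfl⟩ x
    -- x g x⁻¹ = u * g with u ∈ V
    have hu : ⁅x, g⁆ ∈ V := by
      have := V.inv_mem (hg x)
      rwa [commutatorElement_inv] at this
    have hxg : x * g * x⁻¹ = ⁅x, g⁆ * g := by
      simp [commutatorElement_def]
    have hpow : ∀ k : ℤ, x * g ^ k * x⁻¹ = ⁅x, g⁆ ^ k * g ^ k := by
      intro k
      have h1 : x * g ^ k * x⁻¹ = (x * g * x⁻¹) ^ k := by
        simp [conj_zpow]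
      rw [h1, hxg]
      exact (Commute.mul_zpow (hc _ hu g).symm k)
    refine ⟨k, v * ⁅x, g⁆ ^ k, V.mul_mem hv (V.zpow_mem hu k), ?_⟩
    calc x * (v * g ^ k) * x⁻¹ = v * (x * g ^ k * x⁻¹) := by
          rw [← mul_assoc, hc v hv x]; simp only [mul_assoc]
      _ = v * ⁅x, g⁆ ^ k * g ^ k := by rw [hpow, mul_assoc]
  · -- abelian
    rintro _ ⟨k, v, hv, rfl⟩ _ ⟨l, w, hw, rfl⟩
    have e1 : v * g ^ k * (w * g ^ l) = v * w * g ^ (k + l) := by
      rw [zpow_add, mul_assoc v (g ^ k), ← mul_assoc (g ^ k) w, hc w hw (g ^ k)]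
      simp only [mul_assoc]
    have e2 : w * g ^ l * (v * g ^ k) = w * v * g ^ (l + k) := by
      rw [zpow_add, mul_assoc w (g ^ l), ← mul_assoc (g ^ l) v, hc v hv (g ^ l)]
      simp only [mul_assoc]
    rw [e1, e2, add_comm k l, hc v hv w]
  · intro v hv
    exact ⟨0, v, hv, by simp⟩
  · exact ⟨1, 1, V.one_mem, by simp⟩


/-- (BETA2) `B = V` is maximal ==> `X^2 ≤ V = Z(X) = X'`. -/
theorem beta_finish (hX : IsPGroup 2 X) (A : Subgroup (MulAut X))
    (V : Subgroup X) (σ : MulAut X) (hσA : σ ∈ A) (hV : VData V σ) (hVi : AInv A V) (hVn : V.Normal)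
    (hK : ∀ N : Subgroup X, N.Normal → Ab N → V ≤ N → ∀ x ∈ N, x ^ 2 = 1 → x ∈ V)
    (hmin : ∀ B C : Subgroup X, B.Normal → AInv A B → C.Normal → AInv A C → B < C →
      ∃ N : Subgroup X, N.Normal ∧ AInv A N ∧ B < N ∧ N ≤ C ∧ (∀ n ∈ N, ∀ x : X, ⁅n, x⁆ ∈ B) ∧
        (∀ n ∈ N, n ^ 2 ∈ B) ∧
        ∀ M : Subgroup X, M.Normal → AInv A M → B ≤ M → M ≤ N → M = B ∨ M = N)
    (hmax : ∀ B' : Subgroup X, B'.Normal → AInv A B' → Ab B' → V ≤ B' → B' = V)
    (N : Subgroup X) (hN : N.Normal ∧ AInv A N ∧ V ≤ N ∧ (∀ n ∈ N, ∀ x : X, ⁅n, x⁆ ∈ V) ∧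
      (∀ n ∈ N, n ^ 2 ∈ V) ∧ (∀ n ∈ N, n ^ 2 = 1 → n ∈ V) ∧
      N ⊓ Subgroup.centralizer (N : Set X) = V ∧ Nat.card N = 64 ∧
      ∀ v ∈ V, v ≠ 1 → ∃ n ∈ N, n ∉ V ∧ n ^ 2 = v) :
    (∀ x : X, x ^ 2 ∈ V) ∧ Subgroup.center X = V ∧ commutator X = V := by
  obtain ⟨hNn, hNi, hVN, hNX, hNsq, hNinv, hNcap, hN64, hNsurj⟩ := hN
  have hc : ∀ v ∈ V, ∀ y : X, y * v = v * y := fun v hv y =>
    Subgroup.mem_center_iff.mp (hV.cen hv) y
  -- Q := C_X(N)
  set Q : Subgroup X := Subgroup.centralizer (N : Set X) with hQdef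
  have hQn : Q.Normal := by
    have := hNn
    exact Subgroup.normal_centralizer
  have hQi : AInv A Q := by
    intro φ hφ q hq
    rw [hQdef, Subgroup.mem_centralizer_iff] at hq ⊢
    intro n hn
    have hn' : φ⁻¹ n ∈ N := hNi φ⁻¹ (A.inv_mem hφ) n hn
    have h1 := hq _ hn'
    have h2 : φ (φ⁻¹ n * q) = φ (q * φ⁻¹ n) := by rw [h1]
    rw [map_mul, map_mul, MulAut.apply_inv_self] at h2
    exact h2
  have hVQ : V ≤ Q := by
    intro v hv
    rw [hQdef, Subgroup.mem_centralizer_iff]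
    intro n _
    exact hc v hv n
  -- Claim 1: Q = V
  have hQV : Q = V := by
    by_contra hne
    have hlt : V < Q := lt_of_le_of_ne hVQ (Ne.symm hne)
    obtain ⟨P, hPn, hPi, hVP, hPQ, hPX, hPsq, -⟩ := hmin V Q hVn hVi hQn hQi hlt
    obtain ⟨p, hpP, hpV⟩ := SetLike.exists_of_lt hVP
    -- p ^ 2 ≠ 1
    have hp2 : p ^ 2 ≠ 1 := by
      intro h
      obtain ⟨M, hMn, hMab, hVM, hpM⟩ := h99_exists_normal_ab V hV.cen p (hPX p hpP)
      exact hpV (hK M hMn hMab hVM p hpM h)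
    obtain ⟨n, hnN, hnV, hn2⟩ := hNsurj (p ^ 2) (hPsq p hpP) hp2
    -- p commutes with n
    have hpn : n * p = p * n := by
      have := hPQ hpP
      rw [hQdef, Subgroup.mem_centralizer_iff] at this
      exact this n hnN
    have hpn2 : (p * n) ^ 2 = 1 := by
      have hcomm : Commute p n := hpn.symm
      rw [hcomm.mul_pow, hn2, ← pow_two]
      exact hV.el _ (hPsq p hpP)
    have hpnX : ∀ x : X, ⁅p * n, x⁆ ∈ V := by
      intro x
      -- ⁅p n, x⁆ = p ⁅n,x⁆ p⁻¹ ⁅p,x⁆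
      have h1 : ⁅p * n, x⁆ = p * ⁅n, x⁆ * p⁻¹ * ⁅p, x⁆ := by
        simp only [commutatorElement_def]; group
      rw [h1]
      exact V.mul_mem (hVn.conj_mem _ (hNX n hnN x) p) (hPX p hpP x)
    obtain ⟨M, hMn, hMab, hVM, hpnM⟩ := h99_exists_normal_ab V hV.cen (p * n) hpnX
    have hpnV : p * n ∈ V := hK M hMn hMab hVM _ hpnM hpn2
    have hpN : p ∈ N := by
      have : p = (p * n) * n⁻¹ := by group
      rw [this]
      exact N.mul_mem (hVN hpnV) (N.inv_mem hnN)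
    have : p ∈ N ⊓ Subgroup.centralizer (N : Set X) := ⟨hpN, hPQ hpP⟩
    rw [hNcap] at this
    exact hpV this
  -- Claim 2: squares in V
  have hsq : ∀ x : X, x ^ 2 ∈ V := by
    intro x
    rw [← hQV, hQdef, Subgroup.mem_centralizer_iff]
    intro n hn
    have hcV : ⁅n, x⁆ ∈ V := hNX n hn x
    have hc2 : ⁅n, x⁆ ^ 2 = 1 := hV.el _ hcV
    have hnx : n * x = ⁅n, x⁆ * x * n := by
      simp [commutatorElement_def]
    have hcx : x * ⁅n, x⁆ = ⁅n, x⁆ * x := hc _ hcV x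
    calc n * x ^ 2 = (n * x) * x := by rw [pow_two, mul_assoc]
      _ = (⁅n, x⁆ * x * n) * x := congrArg (· * x) hnx
      _ = ⁅n, x⁆ * x * (n * x) := by simp only [mul_assoc]
      _ = ⁅n, x⁆ * x * (⁅n, x⁆ * x * n) := congrArg (⁅n, x⁆ * x * ·) hnx
      _ = ⁅n, x⁆ * (x * ⁅n, x⁆) * x * n := by simp only [mul_assoc]
      _ = ⁅n, x⁆ ^ 2 * x ^ 2 * n := by rw [hcx, pow_two, pow_two]; simp only [mul_assoc]
      _ = x ^ 2 * n := by rw [hc2, one_mul]
  -- Claim 3: X' ≤ V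
  have hXV : commutator X ≤ V := by
    rw [commutator_def, Subgroup.commutator_le]
    intro x _ y _
    have hx2 : x ^ 2 ∈ V := hsq x
    have h1 : ⁅x, y⁆ = (x * y) ^ 2 * (x ^ 2)⁻¹ * (y ^ 2)⁻¹ := by
      have hcx : ∀ z : X, z * (x ^ 2)⁻¹ = (x ^ 2)⁻¹ * z := fun z => hc _ (V.inv_mem hx2) z
      have : (x * y) ^ 2 * (x ^ 2)⁻¹ * (y ^ 2)⁻¹ = x * y * x * (x ^ 2)⁻¹ * y * (y ^ 2)⁻¹ := by
        rw [pow_two (x * y)]
        calc x * y * (x * y) * (x ^ 2)⁻¹ * (y ^ 2)⁻¹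
            = x * y * x * (y * (x ^ 2)⁻¹) * (y ^ 2)⁻¹ := by simp only [mul_assoc]
          _ = x * y * x * ((x ^ 2)⁻¹ * y) * (y ^ 2)⁻¹ := by rw [hcx y]
          _ = x * y * x * (x ^ 2)⁻¹ * y * (y ^ 2)⁻¹ := by simp only [mul_assoc]
      rw [this, commutatorElement_def]
      group
    rw [h1]
    exact V.mul_mem (V.mul_mem (hsq _) (V.inv_mem hx2)) (V.inv_mem (hsq y))
  -- X is not abelian
  have hXne : commutator X ≠ ⊥ := by
    intro hbot
    have hab : Ab (⊤ : Subgroup X) := by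
      intro a _ b _
      have : ⁅a, b⁆ ∈ commutator X := by
        rw [commutator_def]
        exact Subgroup.commutator_mem_commutator (Subgroup.mem_top a) (Subgroup.mem_top b)
      rw [hbot, Subgroup.mem_bot] at this
      exact commutatorElement_eq_one_iff_mul_comm.mp this
    have htop : (⊤ : Subgroup X) = V :=
      hmax ⊤ inferInstance (fun φ _ x _ => Subgroup.mem_top _) hab le_top
    have hNV : N ≤ V := htop ▸ le_top
    have h64 : Nat.card N ≤ Nat.card V := Subgroup.card_le_of_le hNV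
    rw [hN64, hV.card] at h64
    omega
  refine ⟨hsq, ?_, ?_⟩
  · -- center
    refine hmax (Subgroup.center X) inferInstance (h99_ainv_of_char A _) ?_ hV.cen
    intro a ha b _
    exact (Subgroup.mem_center_iff.mp ha b).symm
  · -- commutator
    refine h99_eq_V_of_stable hV (commutator X) hXV ?_ hXne
    intro w hw
    exact h99_ainv_of_char (Subgroup.closure {σ}) (commutator X) σ
      (Subgroup.subset_closure rfl) w hw

end Cfsg.Agent.Helper99.N5
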