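import Cfsg.Agent.Lib.Helper39.MH4Defs

set_option autoImplicit false
set_option linter.unusedSectionVars false
set_option linter.unusedVariables false

namespace Cfsg.Agent.Helper99.MH4

open Equiv Cfsg.Agent.Helper39.MH4

variable {α : Type*} [Fintype α] [DecidableEq α] {G : Subgroup (Perm α)}

/-- A 4-element finset is the range of an embedding of `Fin 4`. -/
theorem helper99_exists_emb (D : Finset α) (hD : D.card = 4) :
    ∃ a : Fin 4 ↪ α, ∀ x, x ∈ D ↔ ∃ i, a i = x := by
  let e : D ≃ Fin 4 := Finset.equivFinOfCardEq hD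
  refine ⟨e.symm.toEmbedding.trans (Function.Embedding.subtype _), fun x => ⟨fun hx => ⟨e ⟨x, hx⟩, by simp⟩, ?_⟩⟩
  rintro ⟨i, rfl⟩
  exact (e.symm i).2

theorem card_G_eq (hyp : Hyp G) (D : Finset α) (hD : D.card = 4) :
    Nat.card G = (Fintype.card α).descFactorial 4 * Nat.card (PS G D) := by
  obtain ⟨a, ha⟩ := helper99_exists_emb D hD
  have htr : MulAction.orbit G a = Set.univ := by
    ext b
    simp only [Set.mem_univ, iff_true]
    obtain ⟨g, hg, hgb⟩ := hyp.tr a b
    refine ⟨⟨g, hg⟩, ?_⟩
    ext i
    exact hgb i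
  have h1 : (MulAction.stabilizer G a).index = (Fintype.card α).descFactorial 4 := by
    rw [MulAction.index_stabilizer]
    refine (congrArg Set.ncard htr).trans ?_
    rw [Set.ncard_univ, Nat.card_eq_fintype_card, Fintype.card_embedding_eq, Fintype.card_fin]
  have h2 : Nat.card (MulAction.stabilizer G a) = Nat.card (PS G D) := by
    have hmap : (MulAction.stabilizer G a).map G.subtype = PS G D := by
      ext g
      constructor
      · rintro ⟨h, hh, rfl⟩
        refine ⟨h.2, fun x hx => ?_⟩
        obtain ⟨i, rfl⟩ := (ha x).mp hx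
        have := DFunLike.congr_fun (MulAction.mem_stabilizer_iff.mp hh) i
        exact this
      · rintro ⟨hg, hfix⟩
        refine ⟨⟨g, hg⟩, ?_, rfl⟩
        rw [SetLike.mem_coe, MulAction.mem_stabilizer_iff]
        ext i
        exact hfix (a i) ((ha _).mpr ⟨i, rfl⟩)
    rw [← hmap, Subgroup.card_map_of_injective G.subtype_injective]
  rw [← Subgroup.card_mul_index (MulAction.stabilizer G a), h1, h2, mul_comm]

theorem card_PS_eq (hyp : Hyp G) (D D' : Finset α) (hD : D.card = 4) (hD' : D'.card = 4) :
    Nat.card (PS G D) = Nat.card (PS G D') := by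
  have h1 := card_G_eq hyp D hD
  have h2 := card_G_eq hyp D' hD'
  rw [h1] at h2
  have hpos : 0 < (Fintype.card α).descFactorial 4 := by
    apply Nat.descFactorial_pos.mpr
    rw [← hD]
    exact Finset.card_le_univ D
  exact Nat.eq_of_mul_eq_mul_left hpos h2

end Cfsg.Agent.Helper99.MH4
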