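import Mathlib
import Cfsg.Agent.Lib.Helper40.StVal.Defs

/-!
helper99: piece (A) `atom_charpoly_irreducible` of helper40's lemma server STV (row S2425).
-/

set_option autoImplicit false

namespace Cfsg.Agent.Helper99.STV

open Cfsg Cfsg.Agent.Helper40.Par Cfsg.Agent.Helper40.StVal Polynomial

section Mod

variable {F V : Type*} [Field F] [AddCommGroup V] [Module F V] [FiniteDimensional F V]

omit [FiniteDimensional F V] in
/-- invariant subspaces of a minimal invariant subspace (as submodules of the subtype). -/
theorem h99_sub_invt (T : Module.End F V) (S : Submodule F V) (hS : S ∈ T.invtSubmodule)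
    (hmin : ∀ U ∈ T.invtSubmodule, U ≤ S → U = ⊥ ∨ U = S)
    (U' : Submodule F ↥S) (hU' : U' ∈ Module.End.invtSubmodule (LinearMap.restrict T hS : Module.End F ↥S)) :
    U' = ⊥ ∨ U' = ⊤ := by
  have hU : U'.map S.subtype ∈ T.invtSubmodule := by
    rw [Module.End.mem_invtSubmodule_iff_forall_mem_of_mem]
    rintro _ ⟨u, hu, rfl⟩
    refine ⟨LinearMap.restrict T hS u, ?_, rfl⟩
    exact (Module.End.mem_invtSubmodule_iff_forall_mem_of_mem _).1 hU' u hu
  rcases hmin _ hU (Submodule.map_subtype_le S U') with h | h
  · left
    rw [eq_bot_iff]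
    intro u hu
    have h1 : (u : V) ∈ U'.map S.subtype := ⟨u, hu, rfl⟩
    rw [h, Submodule.mem_bot] at h1
    rw [Submodule.mem_bot]
    exact Subtype.ext h1
  · right
    rw [eq_top_iff]
    intro s _
    have h1 : (s : V) ∈ U'.map S.subtype := by rw [h]; exact s.2
    obtain ⟨u, hu, hus⟩ := h1
    have h2 : u = s := Subtype.ext hus
    rwa [← h2]

/-- **(A) the characteristic polynomial of `T` on a minimal invariant subspace is irreducible.** -/
theorem atom_charpoly_irreducible (T : Module.End F V) (S : Submodule F V)
    (hS : S ∈ T.invtSubmodule) (hS0 : S ≠ ⊥)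
    (hmin : ∀ U ∈ T.invtSubmodule, U ≤ S → U = ⊥ ∨ U = S) :
    Irreducible (LinearMap.charpoly (LinearMap.restrict T hS)) := by
  set T' : Module.End F ↥S := LinearMap.restrict T hS with hT'
  have hsimple := h99_sub_invt T S hS hmin
  have : Nontrivial ↥S := Submodule.nontrivial_iff_ne_bot.mpr hS0
  obtain ⟨v, hv⟩ := exists_ne (0 : ↥S)
  have hint : IsIntegral F T' := Algebra.IsIntegral.isIntegral T'
  set m := minpoly F T' with hm
  have hmm : m.Monic := minpoly.monic hint
  have hm0 : m ≠ 0 := hmm.ne_zero
  -- aeval p commutes with T'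
  have hcomm : ∀ p : F[X], ∀ w : ↥S, aeval T' p (T' w) = T' (aeval T' p w) := by
    intro p w
    have h1 : aeval T' p * T' = T' * aeval T' p := by
      have : aeval T' (p * X) = aeval T' (X * p) := by rw [mul_comm]
      simpa [map_mul, aeval_X] using this
    exact LinearMap.congr_fun h1 w
  -- kernels of polynomials in T' are trivial or everything
  have hker : ∀ p : F[X], LinearMap.ker (aeval T' p) = ⊥ ∨ aeval T' p = 0 := by
    intro p
    have hinv : LinearMap.ker (aeval T' p) ∈ T'.invtSubmodule := by
      rw [Module.End.mem_invtSubmodule_iff_forall_mem_of_mem]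
      intro w hw
      rw [LinearMap.mem_ker] at hw ⊢
      rw [hcomm, hw, map_zero]
    rcases hsimple _ hinv with h | h
    · exact Or.inl h
    · exact Or.inr (LinearMap.ker_eq_top.mp h)
  -- (i) the minimal polynomial is irreducible
  have hirr : Irreducible m := by
    rw [irreducible_iff]
    refine ⟨minpoly.not_isUnit F T', ?_⟩
    intro a b hab
    have hab0 : aeval T' a * aeval T' b = 0 := by
      rw [← map_mul, ← hab, hm, minpoly.aeval]
    rcases hker a with h | h
    · -- a(T') injective, so b(T') = 0
      left
      have hb : aeval T' b = 0 := by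
        apply LinearMap.ext
        intro w
        have h1 : aeval T' a (aeval T' b w) = 0 := by
          have := LinearMap.congr_fun hab0 w
          simpa using this
        have hmem : aeval T' b w ∈ LinearMap.ker (aeval T' a) := h1
        rw [h, Submodule.mem_bot] at hmem
        simpa using hmem
      obtain ⟨c, hc⟩ := minpoly.dvd F T' hb
      have h2 : m * 1 = m * (a * c) := by
        rw [mul_one]
        conv_lhs => rw [hab, hc]
        ring
      have h3 := mul_left_cancel₀ hm0 h2
      exact IsUnit.of_mul_eq_one c h3.symm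
    · right
      obtain ⟨c, hc⟩ := minpoly.dvd F T' h
      have h2 : m * 1 = m * (b * c) := by
        rw [mul_one]
        conv_lhs => rw [hab, hc]
        ring
      have h3 := mul_left_cancel₀ hm0 h2
      exact IsUnit.of_mul_eq_one c h3.symm
  -- (ii) `finrank S ≤ natDegree m` by a cyclic vector
  have hdeg : Module.finrank F ↥S ≤ m.natDegree := by
    let φ : F[X] →ₗ[F] ↥S := (LinearMap.applyₗ v).comp (aeval T').toLinearMap
    have hφ : ∀ p, φ p = aeval T' p v := fun p => rfl
    have hrange_inv : LinearMap.range φ ∈ T'.invtSubmodule := by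
      rw [Module.End.mem_invtSubmodule_iff_forall_mem_of_mem]
      rintro _ ⟨p, rfl⟩
      refine ⟨X * p, ?_⟩
      rw [hφ, hφ, map_mul, aeval_X]
      rfl
    have hrange : LinearMap.range φ = ⊤ := by
      rcases hsimple _ hrange_inv with h | h
      · exfalso
        have h1 : v ∈ LinearMap.range φ := ⟨1, by rw [hφ, map_one]; rfl⟩
        rw [h, Submodule.mem_bot] at h1
        exact hv h1
      · exact h
    let ψ : ↥(degreeLT F m.natDegree) →ₗ[F] ↥S := φ.domRestrict (degreeLT F m.natDegree)
    have hψ : Function.Surjective ψ := by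
      intro s
      have h1 : s ∈ LinearMap.range φ := by rw [hrange]; trivial
      obtain ⟨p, rfl⟩ := h1
      refine ⟨⟨p %ₘ m, ?_⟩, ?_⟩
      · rw [mem_degreeLT]
        calc (p %ₘ m).degree < m.degree := degree_modByMonic_lt p hmm
          _ = m.natDegree := degree_eq_natDegree hm0
      · show φ (p %ₘ m) = φ p
        have h2 : p = p %ₘ m + m * (p /ₘ m) := (modByMonic_add_div p m).symm
        conv_rhs => rw [h2]
        rw [map_add, hφ (m * _), map_mul, hm, minpoly.aeval, zero_mul]
        simp
    have h3 := LinearMap.finrank_le_finrank_of_surjective hψ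
    have h4 : Module.finrank F ↥(degreeLT F m.natDegree) = m.natDegree := by
      rw [LinearEquiv.finrank_eq (degreeLTEquiv F m.natDegree), Module.finrank_fin_fun]
    rwa [h4] at h3
  -- (iii) the characteristic polynomial is the minimal polynomial
  have hdvd : m ∣ T'.charpoly := LinearMap.minpoly_dvd_charpoly T'
  have hcm : T'.charpoly.Monic := LinearMap.charpoly_monic T'
  have hcd : T'.charpoly.natDegree = Module.finrank F ↥S := LinearMap.charpoly_natDegree T'
  have hfin : T'.charpoly = m :=
    eq_of_monic_of_dvd_of_natDegree_le hmm hcm hdvd (by rw [hcd]; exact hdeg)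
  rw [hfin]
  exact hirr

end Mod

end Cfsg.Agent.Helper99.STV
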