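import Mathlib
import Cfsg.Agent.Lib.Helper40.StVal.Defs

/-!
helper99: piece (C) `charpoly_restrict_sup` of helper40's lemma server STV (row S2425).
-/

set_option autoImplicit false

namespace Cfsg.Agent.Helper99.STV

open Cfsg Cfsg.Agent.Helper40.Par Cfsg.Agent.Helper40.StVal Polynomial

section Mod

variable {F V : Type*} [Field F] [AddCommGroup V] [Module F V] [FiniteDimensional F V]

/-- the sum map `A × B → A ⊔ B` -/
noncomputable def h99_sumMap (A B : Submodule F V) : (↥A × ↥B) →ₗ[F] ↥(A ⊔ B) :=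
  (Submodule.inclusion (le_sup_left : A ≤ A ⊔ B)).coprod
    (Submodule.inclusion (le_sup_right : B ≤ A ⊔ B))

omit [FiniteDimensional F V] in
theorem h99_sumMap_apply (A B : Submodule F V) (x : ↥A × ↥B) :
    ((h99_sumMap A B x : ↥(A ⊔ B)) : V) = (x.1 : V) + (x.2 : V) := by
  simp [h99_sumMap]

omit [FiniteDimensional F V] in
theorem h99_sumMap_bijective (A B : Submodule F V) (hdisj : Disjoint A B) :
    Function.Bijective (h99_sumMap A B) := by
  constructor
  · rw [← LinearMap.ker_eq_bot, LinearMap.ker_eq_bot']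
    rintro ⟨a, b⟩ h
    have h1 : (a : V) + (b : V) = 0 := by
      have := congrArg (fun y : ↥(A ⊔ B) => (y : V)) h
      simpa [h99_sumMap_apply] using this
    have ha : (a : V) ∈ A ⊓ B := by
      refine ⟨a.2, ?_⟩
      have : (a : V) = -(b : V) := eq_neg_of_add_eq_zero_left h1
      rw [this]
      exact B.neg_mem b.2
    rw [hdisj.eq_bot, Submodule.mem_bot] at ha
    have hb : (b : V) = 0 := by rw [ha, zero_add] at h1; exact h1
    ext
    · simpa using ha
    · simpa using hb
  · rintro ⟨x, hx⟩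
    obtain ⟨a, ha, b, hb, rfl⟩ := Submodule.mem_sup.mp hx
    refine ⟨(⟨a, ha⟩, ⟨b, hb⟩), ?_⟩
    apply Subtype.ext
    rw [h99_sumMap_apply]

/-- **(C) the characteristic polynomial on a direct sum of invariant subspaces.** -/
theorem charpoly_restrict_sup (T : Module.End F V) (A B : Submodule F V)
    (hA : A ∈ T.invtSubmodule) (hB : B ∈ T.invtSubmodule) (hAB : A ⊔ B ∈ T.invtSubmodule)
    (hdisj : Disjoint A B) :
    (LinearMap.restrict T (p := A ⊔ B) (q := A ⊔ B) hAB).charpoly =
      (LinearMap.restrict T hA).charpoly * (LinearMap.restrict T hB).charpoly := by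
  let e : (↥A × ↥B) ≃ₗ[F] ↥(A ⊔ B) :=
    LinearEquiv.ofBijective (h99_sumMap A B) (h99_sumMap_bijective A B hdisj)
  have hconj : e.conj ((LinearMap.restrict T hA).prodMap (LinearMap.restrict T hB)) =
      LinearMap.restrict T (p := A ⊔ B) (q := A ⊔ B) hAB := by
    apply LinearMap.ext
    intro y
    obtain ⟨x, rfl⟩ := e.surjective y
    rw [LinearEquiv.conj_apply_apply, LinearEquiv.symm_apply_apply]
    apply Subtype.ext
    show ((h99_sumMap A B _ : ↥(A ⊔ B)) : V) = T ((h99_sumMap A B x : ↥(A ⊔ B)) : V)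
    rw [h99_sumMap_apply, h99_sumMap_apply]
    rw [map_add]
    rfl
  rw [← hconj, LinearEquiv.charpoly_conj, LinearMap.charpoly_prodMap]

end Mod

end Cfsg.Agent.Helper99.STV
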