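import Mathlib
import Cfsg.Agent.Lib.Helper87.Psl3Defs

/-!
helper99: piece (API) of helper87's lemma server PSL3F (row S5318): basic facts on
`rot`, `M0`, `tau`, `Eu`, `P2`, `S2`, `iota`, `S3`.
-/

set_option autoImplicit false

namespace Cfsg.Agent.Helper99.Psl3

open Matrix Cfsg.Agent.Helper87.Psl3

variable {F : Type*} [Field F]

local notation "SL3" => Matrix.SpecialLinearGroup (Fin 3) F
local notation "GL2" => GL (Fin 2) F

theorem tau_mul_tau : (tau : GL2) * tau = 1 := by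
  apply Units.ext
  rw [Units.val_mul, tau_val, Units.val_one]
  ext i j
  fin_cases i <;> fin_cases j <;> simp [Matrix.mul_apply, Fin.sum_univ_two]

theorem h99_tau_inv : (tau : GL2)⁻¹ = tau := inv_eq_of_mul_eq_one_right tau_mul_tau

theorem tau_conj_val (X : GL2) (a b : F) (h : (X : Matrix (Fin 2) (Fin 2) F) = rot a b) :
    ((tau * X * tau⁻¹ : GL2) : Matrix (Fin 2) (Fin 2) F) = rot a (-b) := by
  rw [h99_tau_inv, Units.val_mul, Units.val_mul, h, tau_val]
  ext i j
  fin_cases i <;> fin_cases j <;> simp [rot, Matrix.mul_apply, Fin.sum_univ_two]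

theorem tau_conj_mem_P2 {X : GL2} (h : X ∈ P2) : tau * X * tau⁻¹ ∈ P2 := by
  obtain ⟨hE, m, hm⟩ := h
  obtain ⟨a, b, hab⟩ := (mem_Eu_iff X).1 hE
  refine ⟨(mem_Eu_iff _).2 ⟨a, -b, tau_conj_val X a b hab⟩, m, ?_⟩
  rw [conj_pow, hm, mul_one, mul_inv_cancel]

theorem h99_sc_val (c : Fˣ) : ((sc c : GL2) : Matrix (Fin 2) (Fin 2) F) = rot (c : F) 0 := by
  show (Matrix.scalar (Fin 2) (c : F) : Matrix (Fin 2) (Fin 2) F) = rot (c : F) 0
  ext i j
  fin_cases i <;> fin_cases j <;> simp [rot, Matrix.scalar_apply]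

theorem M0_mul_M0 : (M0 : GL2) * M0 = sc (-1) := by
  apply Units.ext
  rw [Units.val_mul, M0_val, h99_sc_val, rot_mul]
  congr 1 <;> simp

theorem sc_mem_Eu (c : Fˣ) : (sc c : GL2) ∈ Eu :=
  (mem_Eu_iff _).2 ⟨(c : F), 0, h99_sc_val c⟩

theorem sc_comm (c : Fˣ) (X : GL2) : sc c * X = X * sc c :=
  Matrix.GeneralLinearGroup.scalar_commute c X

theorem h99_M0_mem_Eu : (M0 : GL2) ∈ Eu := (mem_Eu_iff _).2 ⟨0, 1, rfl⟩

theorem M0_mem_P2 : (M0 : GL2) ∈ P2 := by
  refine ⟨h99_M0_mem_Eu, 2, ?_⟩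
  have h4 : (M0 : GL2) ^ (2 ^ 2) = (M0 * M0) * (M0 * M0) := by
    norm_num [pow_succ, mul_assoc]
  rw [h4, M0_mul_M0, ← map_mul]
  have : ((-1 : Fˣ) * (-1 : Fˣ)) = 1 := by simp
  rw [this, map_one]

theorem tau_conj_M0 : (tau : GL2) * M0 * tau⁻¹ = M0⁻¹ := by
  apply Units.ext
  rw [tau_conj_val M0 0 1 rfl]
  rfl

/-- elements of the coset `Eu * tau` are not in `Eu` (they anticommute with `M0`) -/
theorem mul_tau_not_mem_Eu (h2 : (2 : F) ≠ 0) {M : GL2} (hM : M ∈ Eu) : M * tau ∉ Eu := by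
  intro h
  obtain ⟨a, b, hab⟩ := (mem_Eu_iff M).1 hM
  obtain ⟨c, d, hcd⟩ := (mem_Eu_iff _).1 h
  rw [Units.val_mul, hab, tau_val] at hcd
  have e00 := congrFun (congrFun hcd 0) 0
  have e01 := congrFun (congrFun hcd 0) 1
  have e10 := congrFun (congrFun hcd 1) 0
  have e11 := congrFun (congrFun hcd 1) 1
  simp [rot, Matrix.mul_apply, Fin.sum_univ_two] at e00 e01 e10 e11
  -- e00 : a = c, e01 : -b = d, e10 : -b = -d (or b = d), e11 : -a = c
  have ha : a = 0 := by
    have : (2 : F) * a = 0 := by linear_combination e00 - e11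
    rcases mul_eq_zero.mp this with h | h
    · exact absurd h h2
    · exact h
  have hb : b = 0 := by
    have : (2 : F) * b = 0 := by linear_combination e10 - e01
    rcases mul_eq_zero.mp this with h | h
    · exact absurd h h2
    · exact h
  have hz : (M : Matrix (Fin 2) (Fin 2) F) = 0 := by
    rw [hab, ha, hb]
    ext i j
    fin_cases i <;> fin_cases j <;> simp [rot]
  have h1 : (M : Matrix (Fin 2) (Fin 2) F) * ((M⁻¹ : GL2) : Matrix (Fin 2) (Fin 2) F) = 1 := by
    rw [← Units.val_mul, mul_inv_cancel, Units.val_one]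
  rw [hz, zero_mul] at h1
  have := congrFun (congrFun h1 0) 0
  simp at this

theorem h99_conj_tau_tau (y : GL2) : (tau : GL2) * (tau * y * tau) = y * tau := by
  rw [← mul_assoc, ← mul_assoc, tau_mul_tau, one_mul]

/-- the set `P2 ∪ P2 * tau` as a subgroup -/
def h99_T : Subgroup GL2 where
  carrier := {X | X ∈ P2 ∨ X * tau ∈ P2}
  one_mem' := Or.inl P2.one_mem
  mul_mem' := by
    rintro x y (hx | hx) (hy | hy)
    · exact Or.inl (P2.mul_mem hx hy)
    · right
      rw [mul_assoc]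
      exact P2.mul_mem hx hy
    · right
      have : x * y * tau = (x * tau) * (tau * y * tau⁻¹) := by
        rw [h99_tau_inv, mul_assoc x tau, h99_conj_tau_tau, mul_assoc]
      rw [this]
      exact P2.mul_mem hx (tau_conj_mem_P2 hy)
    · left
      have : x * y = (x * tau) * (tau * (y * tau) * tau⁻¹) := by
        rw [h99_tau_inv, mul_assoc x tau, h99_conj_tau_tau, mul_assoc y, tau_mul_tau, mul_one]
      rw [this]
      exact P2.mul_mem hx (tau_conj_mem_P2 hy)
  inv_mem' := by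
    rintro x (hx | hx)
    · exact Or.inl (P2.inv_mem hx)
    · right
      have : x⁻¹ * tau = tau * (x * tau)⁻¹ * tau⁻¹ := by
        rw [_root_.mul_inv_rev, h99_tau_inv, ← mul_assoc, tau_mul_tau, one_mul]
      rw [this]
      exact tau_conj_mem_P2 (P2.inv_mem hx)

theorem mem_S2_iff (X : GL2) : X ∈ S2 ↔ X ∈ P2 ∨ X * tau ∈ P2 := by
  constructor
  · intro hX
    have hle : (S2 : Subgroup GL2) ≤ h99_T := by
      refine sup_le (fun x hx => Or.inl hx) ?_
      rw [Subgroup.zpowers_le]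
      right
      rw [tau_mul_tau]
      exact P2.one_mem
    exact hle hX
  · rintro (h | h)
    · exact (le_sup_left : P2 ≤ S2) h
    · have : X = (X * tau) * tau⁻¹ := by rw [mul_assoc, mul_inv_cancel, mul_one]
      rw [this]
      exact (S2 : Subgroup GL2).mul_mem ((le_sup_left : P2 ≤ S2) h)
        ((le_sup_right : Subgroup.zpowers tau ≤ S2)
          (Subgroup.inv_mem _ (Subgroup.mem_zpowers tau)))

theorem S2_inf_Eu (h2 : (2 : F) ≠ 0) {X : GL2} (hX : X ∈ S2) (hE : X ∈ Eu) : X ∈ P2 := by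
  rcases (mem_S2_iff X).1 hX with h | h
  · exact h
  · exfalso
    have h1 : X * tau * tau ∉ Eu := mul_tau_not_mem_Eu h2 h.1
    rw [mul_assoc, tau_mul_tau, mul_one] at h1
    exact h1 hE

theorem iota_injective : Function.Injective (iota : GL2 →* SL3) := by
  intro X Y h
  have h1 : iotaMat X = iotaMat Y := by
    have := congrArg (fun g : SL3 => (g : Matrix (Fin 3) (Fin 3) F)) h
    simpa using this
  apply Units.ext
  have e00 := congrFun (congrFun h1 0) 0
  have e01 := congrFun (congrFun h1 0) 1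
  have e10 := congrFun (congrFun h1 1) 0
  have e11 := congrFun (congrFun h1 1) 1
  simp [iotaMat] at e00 e01 e10 e11
  ext i j
  fin_cases i <;> fin_cases j
  · exact e00
  · exact e01
  · exact e10
  · exact e11

/-- `(M tau)² = M * conj M ∈ P2`, so `S2` and `S3` are 2-groups -/
theorem isPGroup_S2 : IsPGroup 2 (S2 : Subgroup GL2) := by
  rintro ⟨X, hX⟩
  rcases (mem_S2_iff X).1 hX with h | h
  · obtain ⟨_, m, hm⟩ := h
    exact ⟨m, Subtype.ext hm⟩
  · -- X = M * tau with M = X * tau ∈ P2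
    have hX2 : X * X ∈ P2 := by
      have : X * X = (X * tau) * (tau * (X * tau) * tau⁻¹) := by
        rw [h99_tau_inv]
        have h1 : (tau : GL2) * (tau * (X * tau) * tau) = X := by
          rw [← mul_assoc, ← mul_assoc, tau_mul_tau, one_mul, mul_assoc, tau_mul_tau, mul_one]
        rw [mul_assoc X tau, h1]
      rw [this]
      exact P2.mul_mem h (tau_conj_mem_P2 h)
    obtain ⟨_, m, hm⟩ := hX2
    refine ⟨m + 1, Subtype.ext ?_⟩
    show X ^ 2 ^ (m + 1) = 1
    rw [pow_succ' 2 m, pow_mul, pow_two, hm]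

theorem isPGroup_S3 : IsPGroup 2 (S3 : Subgroup SL3) :=
  IsPGroup.map isPGroup_S2 iota

theorem mem_S3_iff (g : SL3) : g ∈ S3 ↔ ∃ X : GL2, X ∈ S2 ∧ iota X = g :=
  Subgroup.mem_map

end Cfsg.Agent.Helper99.Psl3
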