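import Mathlib
import Cfsg.Agent.Lib.Helper54.O5760BDefs

set_option autoImplicit false

/-!
N96 (L6) for helper54's server (S0980, case n_5 = 96).
-/

namespace Cfsg.Agent.Helper99.N96

open Cfsg MulAction Cfsg.Agent.Helper54.O5760B

universe u

section Lines

variable {G : Type u} [Group G] [Finite G] {x r : G} {M : Subgroup G}

/-- (L6) a line through `aM` is determined by any other of its points. -/
theorem ln_eq_of_mem (c : Cfg x r M) (a b d : G) (hd : ((d : G) : G ⧸ M) ∈ ln x M a b)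
    (hda : ((d : G) : G ⧸ M) ≠ ((a : G) : G ⧸ M)) : ln x M a d = ln x M a b := by
  rcases hd with h | ⟨i, hi⟩
  · exact absurd h hda
  have hx3 : x ^ 3 = 1 := by rw [← c.hx]; exact pow_orderOf_eq_one x
  have key : ∀ k : ℕ, ((a * x ^ k * a⁻¹ * d : G) : G ⧸ M) = ((a * x ^ (k + i) * a⁻¹ * b : G) : G ⧸ M) := by
    intro k
    have h1 : ((a * x ^ k * a⁻¹ * d : G) : G ⧸ M) = (a * x ^ k * a⁻¹) • ((d : G) : G ⧸ M) := rfl
    rw [h1, hi]
    show (((a * x ^ k * a⁻¹) * (a * x ^ i * a⁻¹ * b) : G) : G ⧸ M) = _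
    congr 1
    rw [pow_add]
    group
  ext p
  constructor
  · rintro (h | ⟨j, hj⟩)
    · exact Or.inl h
    · exact Or.inr ⟨j + i, by rw [hj, key j]⟩
  · rintro (h | ⟨j, hj⟩)
    · exact Or.inl h
    · refine Or.inr ⟨j + 2 * i, ?_⟩
      rw [hj, key (j + 2 * i)]
      have : x ^ (j + 2 * i + i) = x ^ j := by
        have e : j + 2 * i + i = j + 3 * i := by ring
        rw [e, pow_add, pow_mul, hx3, one_pow, mul_one]
      rw [this]

end Lines

end Cfsg.Agent.Helper99.N96
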