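import Mathlib
import Cfsg.Agent.Lib.Helper62.SUO0

set_option autoImplicit false
set_option linter.unusedSectionVars false
set_option linter.unusedVariables false
set_option quotPrecheck false

/-!
SUO (X1) for helper62's server (S2282): `Gen2 c (c - c^q) ρ` when the powers of `ρ` exhaust the
nonzero elements of the fixed field.
-/

namespace Cfsg.Agent.Helper99.SUO

open Matrix Cfsg Cfsg.Agent.Helper13 Cfsg.Agent.Helper87.PsuA Cfsg.Agent.Helper62.SUO

section X
variable {F : Type*} [Field F] [Fintype F] {q : ℕ} (hF : Fintype.card F = q ^ 2)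

include hF

/-- (X1) if the powers of `ρ` exhaust the nonzero elements of the fixed field, `S` is stable under
the fixed field; `x = β c + α κ` with `β = (x + x^q)/(c + c^q)`, `α = (x - β c)/κ` both fixed -/
theorem gen2_of_eta (ρ c : F) (hρ : ∀ x : F, x ≠ 0 → x ^ q = x → ∃ i : ℕ, x = ρ ^ i)
    (hT : c + c ^ q ≠ 0) (hκ : c - c ^ q ≠ 0) : Gen2 c (c - c ^ q) ρ := by
  intro S hc hk hS
  have hfa : ∀ a b : F, (a + b) ^ q = a ^ q + b ^ q := frob_add hF
  have hff : ∀ a : F, (a ^ q) ^ q = a := frob_frob hF
  have hq0 : q ≠ 0 := (q_pos hF).ne'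
  have hfneg : ∀ a : F, (-a) ^ q = -(a ^ q) := by
    intro a
    have h := hfa a (-a)
    rw [add_neg_cancel, zero_pow hq0] at h
    exact (neg_eq_of_add_eq_zero_right h.symm).symm
  have hfsub : ∀ a b : F, (a - b) ^ q = a ^ q - b ^ q := by
    intro a b
    rw [sub_eq_add_neg, hfa, hfneg, ← sub_eq_add_neg]
  -- stability under powers of `ρ`
  have hpow : ∀ i : ℕ, ∀ a ∈ S, ρ ^ i * a ∈ S := by
    intro i
    induction i with
    | zero => intro a ha; rw [pow_zero, one_mul]; exact ha
    | succ i ih =>
      intro a ha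
      rw [pow_succ, mul_assoc]
      exact ih _ (hS a ha)
  -- stability under the fixed field
  have hfix : ∀ x : F, x ^ q = x → ∀ a ∈ S, x * a ∈ S := by
    intro x hx a ha
    by_cases h0 : x = 0
    · rw [h0, zero_mul]; exact S.zero_mem
    · obtain ⟨i, hi⟩ := hρ x h0 hx
      rw [hi]; exact hpow i a ha
  rw [AddSubgroup.eq_top_iff']
  intro x
  set T : F := c + c ^ q with hTdef
  set κ : F := c - c ^ q with hκdef
  have hTq : T ^ q = T := by
    rw [hTdef, hfa, hff, add_comm]
  have hκq : κ ^ q = -κ := by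
    rw [hκdef, hfsub, hff, neg_sub]
  set β : F := (x + x ^ q) / T with hβdef
  have hβq : β ^ q = β := by
    rw [hβdef, div_pow, hTq, hfa, hff, add_comm]
  set α : F := (x - β * c) / κ with hαdef
  have hαq : α ^ q = α := by
    rw [hαdef, div_pow, hκq, hfsub, mul_pow, hβq]
    rw [div_neg, ← neg_div, neg_sub]
    congr 1
    have hβT : β * T = x + x ^ q := by
      rw [hβdef]; field_simp
    have : β * (c + c ^ q) = x + x ^ q := hβT
    linear_combination this
  have hx : x = β * c + α * κ := by
    rw [hαdef]; field_simp; ring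
  rw [hx]
  exact S.add_mem (hfix β hβq c hc) (hfix α hαq κ hk)

end X

end Cfsg.Agent.Helper99.SUO
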