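import Mathlib
import Cfsg.Agent.Lib.Helper62.SUO0
import Cfsg.Agent.Lib.Helper99.SUOX1

set_option autoImplicit false
set_option linter.unusedSectionVars false
set_option linter.unusedVariables false
set_option quotPrecheck false

/-!
SUO (X3) for helper62's server (S2282): the parameters `t a c` for even `q`.
-/

namespace Cfsg.Agent.Helper99.SUO

open Matrix Cfsg Cfsg.Agent.Helper13 Cfsg.Agent.Helper87.PsuA Cfsg.Agent.Helper62.SUO

section X
variable {F : Type*} [Field F] [Fintype F] {q : ℕ} (hF : Fintype.card F = q ^ 2)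

include hF

/-- the powers of `ζ^(q+1)`, `ζ` a generator of `Fˣ`, exhaust the nonzero fixed elements -/
theorem h99_exists_eta (hq2 : 2 ≤ q) :
    ∃ η : F, η ≠ 0 ∧ η ^ q = η ∧ ∀ x : F, x ≠ 0 → x ^ q = x → ∃ i : ℕ, x = η ^ i := by
  classical
  obtain ⟨g, hg⟩ := IsCyclic.exists_generator (α := Fˣ)
  have hord : orderOf g = Fintype.card F - 1 := by
    rw [orderOf_eq_card_of_forall_mem_zpowers hg, Nat.card_eq_fintype_card, Fintype.card_units]
  have hordg : orderOf (g : F) = q ^ 2 - 1 := by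
    rw [orderOf_units, hord, hF]
  have hfac : q ^ 2 - 1 = (q + 1) * (q - 1) := by
    obtain ⟨k, rfl⟩ : ∃ k, q = k + 1 := ⟨q - 1, by omega⟩
    have : (k + 1) ^ 2 = (k + 1 + 1) * k + 1 := by ring
    rw [this]; simp
  have hq1 : 0 < q - 1 := by omega
  have hqq : q = (q - 1) + 1 := by omega
  have hη1 : ((g : F) ^ (q + 1)) ^ (q - 1) = 1 := by
    rw [← pow_mul, ← hfac, ← hordg]
    exact pow_orderOf_eq_one _
  refine ⟨(g : F) ^ (q + 1), pow_ne_zero _ g.ne_zero, ?_, ?_⟩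
  · have hsplit : ((g : F) ^ (q + 1)) ^ q = ((g : F) ^ (q + 1)) ^ (q - 1) * (g : F) ^ (q + 1) := by
      rw [← pow_succ]; congr 1
    rw [hsplit, hη1, one_mul]
  · intro x h0 hx
    obtain ⟨j, hj⟩ : ∃ j : ℕ, g ^ j = Units.mk0 x h0 := by
      have := hg (Units.mk0 x h0)
      rw [← mem_powers_iff_mem_zpowers] at this
      exact this
    have hxj : x = (g : F) ^ j := by
      have := congrArg (fun u : Fˣ => (u : F)) hj
      simpa using this.symm
    have hx1 : x ^ (q - 1) = 1 := by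
      have h1 : x ^ (q - 1) * x = x := by
        rw [← pow_succ, ← hqq]; exact hx
      have h2 : x ^ (q - 1) * x = 1 * x := by rw [h1, one_mul]
      exact mul_right_cancel₀ h0 h2
    rw [hxj, ← pow_mul] at hx1
    have hdvd : orderOf (g : F) ∣ j * (q - 1) := orderOf_dvd_of_pow_eq_one hx1
    rw [hordg, hfac] at hdvd
    have hdvd2 : q + 1 ∣ j := Nat.dvd_of_mul_dvd_mul_right hq1 hdvd
    obtain ⟨i, hi⟩ := hdvd2
    refine ⟨i, ?_⟩
    rw [hxj, hi, pow_mul]

/-- (X3) `q` even: `t = 1`, `a + a^q = 1`, `κ` fixed with `κ^2 = ζ^(q+1) / (a * a^q)`,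
`c + c^q = κ` -/
theorem exists_params_even (hq : Even q) :
    ∃ t a c : F, t ≠ 0 ∧ a + a ^ q + t * t ^ q = 0 ∧ a ≠ 0 ∧ c - c ^ q ≠ 0 ∧
      Gen2 c (c - c ^ q) ((c - c ^ q) ^ 2 * (a * a ^ q)) := by
  classical
  have hq0 : q ≠ 0 := (q_pos hF).ne'
  have hq2 : 2 ≤ q := by
    obtain ⟨k, hk⟩ := hq
    omega
  have hff : ∀ a : F, (a ^ q) ^ q = a := frob_frob hF
  -- characteristic two
  have h2 : (2 : F) = 0 := by
    obtain ⟨p, hp⟩ := CharP.exists F
    have := hp
    obtain ⟨n, hpr, hcard⟩ := FiniteField.card F p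
    have h2dvd : 2 ∣ Fintype.card F := by
      rw [hF]; exact dvd_pow hq.two_dvd two_ne_zero
    rw [hcard] at h2dvd
    have h2p : 2 ∣ p := Nat.Prime.dvd_of_dvd_pow Nat.prime_two h2dvd
    have hp2 : p = 2 := ((Nat.prime_dvd_prime_iff_eq Nat.prime_two hpr).1 h2p).symm
    subst hp2
    exact_mod_cast CharP.cast_eq_zero F 2
  have hsqinj : ∀ x y : F, x ^ 2 = y ^ 2 → x = y := by
    intro x y h
    have h0 : (x - y) ^ 2 = 0 := by linear_combination h + (y ^ 2 - x * y) * h2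
    have := pow_eq_zero_iff (two_ne_zero) |>.1 h0
    exact sub_eq_zero.1 this
  have hsqsurj : Function.Surjective (fun x : F => x ^ 2) :=
    Finite.injective_iff_surjective.1 (fun x y h => hsqinj x y h)
  -- `a`
  have hm1 : (-1 : F) ^ q = -1 := by
    rw [hq.neg_one_pow]; linear_combination h2
  obtain ⟨a, ha⟩ := Cfsg.Agent.Helper87.PsuB0.exists_trace hF (-1) hm1
  have ha0 : a ≠ 0 := by
    intro h
    rw [h, zero_pow hq0, add_zero] at ha
    exact one_ne_zero (neg_eq_zero.1 ha.symm)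
  have hN0 : a * a ^ q ≠ 0 := mul_ne_zero ha0 (pow_ne_zero _ ha0)
  have hNq : (a * a ^ q) ^ q = a * a ^ q := by
    rw [mul_pow, hff, mul_comm]
  -- `η`
  obtain ⟨η, hη0, hηq, hηgen⟩ := h99_exists_eta hF hq2
  -- `κ`
  obtain ⟨κ, hκ⟩ := hsqsurj (η / (a * a ^ q))
  have hκ2 : κ ^ 2 = η / (a * a ^ q) := hκ
  have hκq : κ ^ q = κ := by
    apply hsqinj
    rw [← pow_mul, mul_comm, pow_mul, hκ2, div_pow, hηq, hNq]
  have hκ0 : κ ≠ 0 := by
    intro h
    rw [h] at hκ2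
    have : η / (a * a ^ q) ≠ 0 := div_ne_zero hη0 hN0
    exact this (by rw [← hκ2]; ring)
  -- `c`
  obtain ⟨c, hc⟩ := Cfsg.Agent.Helper87.PsuB0.exists_trace hF κ hκq
  have hcm : c - c ^ q = κ := by linear_combination hc - c ^ q * h2
  refine ⟨1, a, c, one_ne_zero, ?_, ha0, ?_, ?_⟩
  · rw [one_pow, mul_one]; linear_combination ha
  · rw [hcm]; exact hκ0
  · have hρ : (c - c ^ q) ^ 2 * (a * a ^ q) = η := by
      rw [hcm, hκ2]; field_simp
    rw [hρ]
    exact gen2_of_eta hF η c hηgen (by rw [hc]; exact hκ0) (by rw [hcm]; exact hκ0)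

end X

end Cfsg.Agent.Helper99.SUO
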