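import Mathlib
import Cfsg.Prelude.Def_Sporadic
import Cfsg.Prelude.Def_Sporadic_a
import Cfsg.Prelude.Def_Spor_Mathieu
import Cfsg.Agent.Lib.Helper7.M11UDefs
import Cfsg.Agent.Lib.Helper7.NSEDefs
import Cfsg.Agent.Lib.Helper91.M11Sylow

/-!
NSE (M1) `spor_iso` for helper7's lemma server "NSE" (row S3592).
-/

set_option autoImplicit false

namespace Cfsg.Agent.Helper99.NSE

open Subgroup Cfsg.Agent.Helper7.M11U Cfsg.Agent.Helper7.NSE
open scoped Pointwise

theorem h99_mem_spor_M11_iff (g : Equiv.Perm Cfsg.GolayPt) :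
    g ∈ Cfsg.Spor.M11 ↔ g ∈ Cfsg.M24 ∧ g • Cfsg.Spor.squareDodecad = Cfsg.Spor.squareDodecad ∧
      g • (some 0 : Cfsg.GolayPt) = some 0 := by
  rw [Cfsg.Spor.M11, Cfsg.Spor.M12, Subgroup.mem_inf, Subgroup.mem_inf,
    MulAction.mem_stabilizer_iff, MulAction.mem_stabilizer_iff]
  tauto

theorem spor_iso : (some 0 : Cfsg.GolayPt) ∈ Cfsg.Spor.squareDodecad ∧
    Nonempty (↥(MulAction.stabilizer Cfsg.M24 Cfsg.Spor.squareDodecad ⊓
      MulAction.stabilizer Cfsg.M24 (some 0 : Cfsg.GolayPt)) ≃* ↥Cfsg.Spor.M11) := by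
  refine ⟨?_, ⟨?_⟩⟩
  · rw [Cfsg.Agent.Helper91.squareDodecad_eq, Cfsg.Agent.Helper7.mem_ofMask]
    decide
  · refine
      { toFun := fun x => ⟨x.1.1, ?_⟩
        invFun := fun y => ⟨⟨y.1, ?_⟩, ?_⟩
        left_inv := fun x => rfl
        right_inv := fun y => rfl
        map_mul' := fun x y => rfl }
    · rw [h99_mem_spor_M11_iff]
      have h := Subgroup.mem_inf.mp x.2
      have h1 := MulAction.mem_stabilizer_iff.mp h.1
      have h2 := MulAction.mem_stabilizer_iff.mp h.2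
      exact ⟨x.1.2, h1, h2⟩
    · exact ((h99_mem_spor_M11_iff y.1).mp y.2).1
    · have hy := (h99_mem_spor_M11_iff y.1).mp y.2
      exact Subgroup.mem_inf.mpr
        ⟨MulAction.mem_stabilizer_iff.mpr hy.2.1, MulAction.mem_stabilizer_iff.mpr hy.2.2⟩

end Cfsg.Agent.Helper99.NSE
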