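import Mathlib
import Cfsg.Agent.Lib.Helper74.M11Defs
import Cfsg.Agent.S1017

set_option autoImplicit false

/-!
# O5040 server (helper74, S0978): piece (D21) `false_of_21`

`n₇ = 120`, `|C(P)| = 21` is impossible in a simple group of order 5040.
-/

namespace Cfsg.Agent.Helper99.O5040

open Cfsg.Agent.Helper74.M11
open MulAction Subgroup
open scoped Pointwise

variable {G : Type*} [Group G] [Finite G]

/-- the numerics of (D21) -/
theorem d21_numerics (h i k a b j : ℕ) (hi : h * i = 5040) (h63 : 63 ∣ h)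
    (hk : k = 21 ∨ k = 42) (hak : a * k ≤ 42) (ha1 : 1 ≤ a) (ha7 : a % 7 = i % 7) (hai : a ≠ i)
    (hb3 : b % 3 = i % 3) (hbi : b ≠ i) (hbi' : b ≤ i) (hbj : b % 7 = j % 7) (hj1 : 1 ≤ j)
    (hja : j ≤ a) (_hjb : j ≤ b) (haj : a % 3 = j % 3) : False := by
  obtain ⟨d, rfl⟩ := h63
  have hdi : d * i = 80 := by
    have : 63 * (d * i) = 63 * 80 := by rw [← mul_assoc]; exact hi
    exact Nat.eq_of_mul_eq_mul_left (by norm_num) this
  have hi80 : i ≤ 80 := Nat.le_of_dvd (by norm_num) ⟨d, by rw [← hdi, mul_comm]⟩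
  have hi0 : 0 < i := by
    rcases Nat.eq_zero_or_pos i with h | h
    · rw [h] at hdi; omega
    · exact h
  have ha2 : a ≤ 2 := by
    rcases hk with rfl | rfl <;> omega
  interval_cases i <;> omega

/-- the fixed points of a generator `x` of the Sylow subgroup `P ≤ H` on `G ⧸ H` lie in the
`N(P)`-orbit of the trivial coset -/
theorem fixedBy_subset_orbit {p : ℕ} [Fact p.Prime] (H : Subgroup G) (P : Sylow p G)
    (hPH : (P : Subgroup G) ≤ H) (x : G) (hx : Subgroup.zpowers x = (P : Subgroup G)) :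
    fixedBy (G ⧸ H) x ⊆
      orbit ↥(Subgroup.normalizer ((P : Subgroup G) : Set G)) ((1 : G) : G ⧸ H) := by
  intro q hq
  induction q using QuotientGroup.induction_on with
  | H g =>
    have h1 : g⁻¹ * x * g ∈ H := by
      have h2 : x • ((g : G) : G ⧸ H) = ((g : G) : G ⧸ H) := hq
      rw [MulAction.Quotient.smul_mk, eq_comm, QuotientGroup.eq, smul_eq_mul] at h2
      rw [mul_assoc]
      exact h2
    -- `Q = g⁻¹ • P ≤ H`
    have hQH : ((g⁻¹ • P : Sylow p G) : Subgroup G) ≤ H := by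
      intro y hy
      rw [Cfsg.Agent.S1017.mem_smul_sylow_iff, inv_inv] at hy
      rw [← hx] at hy
      obtain ⟨e, he⟩ := Subgroup.mem_zpowers_iff.1 hy
      have h3 : y = (g⁻¹ * x * g) ^ e := by
        have h4 : (g⁻¹ * x * g) ^ e = g⁻¹ * x ^ e * g := by
          have := map_zpow (MulAut.conj g⁻¹) x e
          simp only [MulAut.conj_apply, inv_inv] at this
          exact this.symm
        rw [h4, he]; group
      rw [h3]
      exact H.zpow_mem h1 e
    obtain ⟨h, hh⟩ := MulAction.exists_smul_eq ↥H (P.subtype hPH)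
      ((g⁻¹ • P : Sylow p G).subtype hQH)
    rw [Sylow.smul_subtype] at hh
    have hh' : (h : G) • P = g⁻¹ • P := Sylow.subtype_injective hh
    have hn : g * (h : G) ∈ Subgroup.normalizer ((P : Subgroup G) : Set G) := by
      exact Sylow.smul_eq_iff_mem_normalizer.mp (by rw [mul_smul, hh', smul_inv_smul])
    refine ⟨⟨g * (h : G), hn⟩, ?_⟩
    show (g * (h : G)) • (((1 : G) : G ⧸ H)) = ((g : G) : G ⧸ H)
    rw [MulAction.Quotient.smul_mk, QuotientGroup.eq, smul_eq_mul, mul_one]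
    have h5 : (g * (h : G))⁻¹ * g = (h : G)⁻¹ := by group
    rw [h5]
    exact H.inv_mem h.2

/-- `|Fix x| * |N(P) ⊓ H| ≤ |N(P)|` -/
theorem card_fixedBy_mul_le {p : ℕ} [Fact p.Prime] (H : Subgroup G) (P : Sylow p G)
    (hPH : (P : Subgroup G) ≤ H) (x : G) (hx : Subgroup.zpowers x = (P : Subgroup G)) :
    Nat.card (fixedBy (G ⧸ H) x) *
      Nat.card ↥(Subgroup.normalizer ((P : Subgroup G) : Set G) ⊓ H) ≤
      Nat.card ↥(Subgroup.normalizer ((P : Subgroup G) : Set G)) := by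
  have h1 : Nat.card (orbit ↥(Subgroup.normalizer ((P : Subgroup G) : Set G))
      (((1 : G) : G ⧸ H))) *
      Nat.card (stabilizer ↥(Subgroup.normalizer ((P : Subgroup G) : Set G))
        (((1 : G) : G ⧸ H))) =
      Nat.card ↥(Subgroup.normalizer ((P : Subgroup G) : Set G)) := by
    rw [Subgroup.card_eq_card_quotient_mul_card_subgroup
      (stabilizer ↥(Subgroup.normalizer ((P : Subgroup G) : Set G)) (((1 : G) : G ⧸ H)))]
    congr 1
    exact Nat.card_congr (orbitEquivQuotientStabilizer _ _)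
  have h2 : Nat.card (stabilizer ↥(Subgroup.normalizer ((P : Subgroup G) : Set G))
      (((1 : G) : G ⧸ H))) =
      Nat.card ↥(Subgroup.normalizer ((P : Subgroup G) : Set G) ⊓ H) := by
    apply Nat.card_congr
    refine ⟨fun n => ⟨(n.1 : G), n.1.2, ?_⟩, fun y => ⟨⟨y.1, y.2.1⟩, ?_⟩, ?_, ?_⟩
    · have h3 := n.2
      rw [mem_stabilizer_iff] at h3
      have h4 : ((n.1 : G)) • (((1 : G) : G ⧸ H)) = ((1 : G) : G ⧸ H) := h3
      rw [MulAction.Quotient.smul_mk, QuotientGroup.eq, smul_eq_mul, mul_one] at h4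
      have h5 := H.inv_mem h4
      simpa using h5
    · rw [mem_stabilizer_iff]
      show (y.1 : G) • (((1 : G) : G ⧸ H)) = ((1 : G) : G ⧸ H)
      rw [MulAction.Quotient.smul_mk, QuotientGroup.eq, smul_eq_mul, mul_one]
      have h5 := H.inv_mem y.2.2
      simpa using h5
    · intro n; rfl
    · intro y; rfl
  have h3 : Nat.card (fixedBy (G ⧸ H) x) ≤
      Nat.card (orbit ↥(Subgroup.normalizer ((P : Subgroup G) : Set G)) (((1 : G) : G ⧸ H))) :=
    Nat.card_mono (Set.toFinite _) (fixedBy_subset_orbit H P hPH x hx)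
  rw [← h1, h2]
  exact Nat.mul_le_mul_right _ h3

instance d21_fact3 : Fact (Nat.Prime 3) := ⟨by norm_num⟩

/-- (D21) `n₇ = 120` and `|C(P)| = 21`. -/
theorem false_of_21 [IsSimpleGroup G] (hG : Nat.card G = 5040) (P : Sylow 7 G)
    (hn : Nat.card (Sylow 7 G) = 120)
    (hC : Nat.card (CenS (P : Subgroup G)) = 21) : False := by
  have hP7 : Nat.card (P : Subgroup G) = 7 := by
    have := Cfsg.Agent.S1017.sylow_card_eq P 1 720 (by rw [hG]; norm_num) (by norm_num)
    simpa using this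
  have hN42 : Nat.card (Subgroup.normalizer ((P : Subgroup G) : Set G)) = 42 := by
    have h1 := Cfsg.Agent.S1017.card_sylow_mul_card_normalizer P
    rw [hn, hG] at h1
    omega
  -- a generator `x` of `P`
  obtain ⟨x', hx'⟩ := exists_prime_orderOf_dvd_card' (G := ↥(P : Subgroup G)) 7 (by rw [hP7])
  have hx7 : orderOf (x' : G) = 7 := by rw [Subgroup.orderOf_coe]; exact hx'
  set x : G := (x' : G) with hxdef
  have hxP : x ∈ (P : Subgroup G) := x'.2
  have hx1 : x ≠ 1 := Cfsg.Agent.S1017.ne_one_of_orderOf_prime x (by norm_num) hx7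
  have hxz : Subgroup.zpowers x = (P : Subgroup G) :=
    (Cfsg.Agent.S1017.zpowers_eq_of_card_prime (P : Subgroup G) hP7 x hxP hx1).1
  -- an element `c` of order 3 of `C(P)`
  obtain ⟨c', hc'⟩ := exists_prime_orderOf_dvd_card' (G := ↥(CenS (P : Subgroup G))) 3
    (by rw [hC]; norm_num)
  have hc3 : orderOf (c' : G) = 3 := by rw [Subgroup.orderOf_coe]; exact hc'
  set c : G := (c' : G) with hcdef
  have hcC : c ∈ Subgroup.centralizer ((P : Subgroup G) : Set G) := c'.2
  have hc1 : c ≠ 1 := Cfsg.Agent.S1017.ne_one_of_orderOf_prime c (by norm_num) hc3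
  set H : Subgroup G := Cen c with hH
  have hPH : (P : Subgroup G) ≤ H := (Cfsg.Agent.S1017.le_centralizer_singleton_iff _ c).2 hcC
  have hxH : x ∈ H := hPH hxP
  have hcH : c ∈ H := by
    rw [hH, Subgroup.mem_centralizer_iff]
    intro y hy
    rw [Set.mem_singleton_iff.1 hy]
  have hcomm : Commute x c := by
    have := Subgroup.mem_centralizer_iff.1 hxH c (Set.mem_singleton c)
    exact this.symm
  -- `k = |N(P) ⊓ H| ∈ {21, 42}`
  have hcN : c ∈ Subgroup.normalizer ((P : Subgroup G) : Set G) :=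
    Subgroup.centralizer_le_normalizer _ hcC
  have hk7 : 7 ∣ Nat.card ↥(Subgroup.normalizer ((P : Subgroup G) : Set G) ⊓ H) := by
    have h := Subgroup.card_dvd_of_le
      (le_inf Subgroup.le_normalizer hPH :
        (P : Subgroup G) ≤ Subgroup.normalizer ((P : Subgroup G) : Set G) ⊓ H)
    rwa [hP7] at h
  have hk3 : 3 ∣ Nat.card ↥(Subgroup.normalizer ((P : Subgroup G) : Set G) ⊓ H) := by
    have h := Subgroup.orderOf_dvd_natCard
      (Subgroup.normalizer ((P : Subgroup G) : Set G) ⊓ H) (x := c) ⟨hcN, hcH⟩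
    rwa [hc3] at h
  have hk42 : Nat.card ↥(Subgroup.normalizer ((P : Subgroup G) : Set G) ⊓ H) ∣ 42 := by
    have h := Subgroup.card_dvd_of_le
      (inf_le_left : Subgroup.normalizer ((P : Subgroup G) : Set G) ⊓ H ≤
        Subgroup.normalizer ((P : Subgroup G) : Set G))
    rwa [hN42] at h
  have hk : Nat.card ↥(Subgroup.normalizer ((P : Subgroup G) : Set G) ⊓ H) = 21 ∨
      Nat.card ↥(Subgroup.normalizer ((P : Subgroup G) : Set G) ⊓ H) = 42 := by
    have h21 : 21 ∣ Nat.card ↥(Subgroup.normalizer ((P : Subgroup G) : Set G) ⊓ H) :=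
      Nat.Coprime.mul_dvd_of_dvd_of_dvd (by norm_num : Nat.Coprime 3 7) hk3 hk7
    obtain ⟨e, he⟩ := h21
    obtain ⟨f, hf⟩ := hk42
    rw [he] at hf ⊢
    have : e * f = 2 := by
      have : 21 * (e * f) = 21 * 2 := by rw [← mul_assoc]; exact hf.symm
      exact Nat.eq_of_mul_eq_mul_left (by norm_num) this
    have he2 : e ∣ 2 := ⟨f, this.symm⟩
    rcases (Nat.dvd_prime Nat.prime_two).1 he2 with h | h
    · left; rw [h]
    · right; rw [h]
  -- `63 ∣ |H|`
  have h7H : 7 ∣ Nat.card H := by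
    have h := Subgroup.card_dvd_of_le hPH
    rwa [hP7] at h
  have h9H : 9 ∣ Nat.card H := by
    obtain ⟨M, hM⟩ := Cfsg.Agent.S1017.exists_sylow_mem_of_orderOf c hc3
    have hM9 : Nat.card (M : Subgroup G) = 9 := by
      have := Cfsg.Agent.S1017.sylow_card_eq M 2 560 (by rw [hG]; norm_num) (by norm_num)
      simpa using this
    have hMcomm := IsPGroup.commutative_of_card_eq_prime_sq (p := 3) (G := ↥(M : Subgroup G))
      (by rw [hM9]; norm_num)
    have hMH : (M : Subgroup G) ≤ H := by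
      intro y hy
      rw [hH, Subgroup.mem_centralizer_iff]
      intro z hz
      rw [Set.mem_singleton_iff.1 hz]
      have := hMcomm ⟨c, hM⟩ ⟨y, hy⟩
      exact congrArg Subtype.val this
    have h := Subgroup.card_dvd_of_le hMH
    rwa [hM9] at h
  have h63 : 63 ∣ Nat.card H :=
    Nat.Coprime.mul_dvd_of_dvd_of_dvd (by norm_num : Nat.Coprime 9 7) h9H h7H
  -- `H ≠ ⊤`
  have hHtop : H ≠ ⊤ := by
    intro htop
    have hnorm : (Subgroup.zpowers c).Normal := by
      refine ⟨fun y hy g => ?_⟩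
      obtain ⟨e, rfl⟩ := Subgroup.mem_zpowers_iff.1 hy
      have hg : g ∈ H := by rw [htop]; exact Subgroup.mem_top g
      have hgc : Commute g c := by
        have := Subgroup.mem_centralizer_iff.1 hg c (Set.mem_singleton c)
        exact this.symm
      have h2 : g * c ^ e * g⁻¹ = c ^ e := by
        rw [(hgc.zpow_right e).eq, mul_assoc, mul_inv_cancel, mul_one]
      rw [h2]
      exact Subgroup.zpow_mem_zpowers c e
    apply Cfsg.Agent.S1017.normal_card_absurd (Subgroup.zpowers c) hnorm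
    · rw [Nat.card_zpowers, hc3]; norm_num
    · rw [Nat.card_zpowers, hc3, hG]; norm_num
  -- the coset action
  have hidx : Nat.card H * Nat.card (G ⧸ H) = 5040 := by
    rw [← hG, mul_comm]
    exact (Subgroup.card_eq_card_quotient_mul_card_subgroup H).symm
  have hnt := Cfsg.Agent.S1017.coset_action_nontrivial H hHtop
  have hak := card_fixedBy_mul_le H P hPH x hxz
  rw [hN42] at hak
  have h1x : ((1 : G) : G ⧸ H) ∈ fixedBy (G ⧸ H) x := Cfsg.Agent.S1017.coset_fixed H x hxH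
  have h1c : ((1 : G) : G ⧸ H) ∈ fixedBy (G ⧸ H) c := Cfsg.Agent.S1017.coset_fixed H c hcH
  have ha1 : 1 ≤ Nat.card (fixedBy (G ⧸ H) x) := by
    have : Nonempty (fixedBy (G ⧸ H) x) := ⟨⟨_, h1x⟩⟩
    exact Nat.card_pos
  have ha7 := Cfsg.Agent.S1017.card_modEq_card_fixedBy (α := G ⧸ H) x hx7
  have hai := Cfsg.Agent.S1017.card_fixedBy_ne (α := G ⧸ H) hnt x hx1
  have hb3 := Cfsg.Agent.S1017.card_modEq_card_fixedBy (α := G ⧸ H) c hc3
  have hbi := Cfsg.Agent.S1017.card_fixedBy_ne (α := G ⧸ H) hnt c hc1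
  have hbi' := Cfsg.Agent.S1017.card_fixedBy_le (α := G ⧸ H) c
  have hbj := Cfsg.Agent.S1017.card_fixedBy_modEq_inter (α := G ⧸ H) x c hcomm hx7
  have hj1 := Cfsg.Agent.S1017.card_inter_pos (fixedBy (G ⧸ H) c) (fixedBy (G ⧸ H) x) _ h1c h1x
  have hjb := Cfsg.Agent.S1017.card_inter_le_left (fixedBy (G ⧸ H) c) (fixedBy (G ⧸ H) x)
  have haj := Cfsg.Agent.S1017.card_fixedBy_modEq_inter (α := G ⧸ H) c x hcomm.symm hc3
  rw [Cfsg.Agent.S1017.card_inter_comm] at haj
  have hja : Nat.card ↥(fixedBy (G ⧸ H) c ∩ fixedBy (G ⧸ H) x) ≤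
      Nat.card (fixedBy (G ⧸ H) x) := by
    rw [Cfsg.Agent.S1017.card_inter_comm]
    exact Cfsg.Agent.S1017.card_inter_le_left _ _
  exact d21_numerics (Nat.card H) (Nat.card (G ⧸ H))
    (Nat.card ↥(Subgroup.normalizer ((P : Subgroup G) : Set G) ⊓ H))
    (Nat.card (fixedBy (G ⧸ H) x)) (Nat.card (fixedBy (G ⧸ H) c))
    (Nat.card ↥(fixedBy (G ⧸ H) c ∩ fixedBy (G ⧸ H) x))
    hidx h63 hk hak ha1 ha7.symm hai hb3.symm hbi hbi' hbj hj1 hja hjb haj

end Cfsg.Agent.Helper99.O5040
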