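import Mathlib
import Cfsg.Agent.Lib.Helper74.M11Defs
import Cfsg.Agent.S1017
import Cfsg.Agent.S1010

set_option autoImplicit false

/-!
# O5040 server (helper74, S0978): piece (N40) `card_normalizer_sylow_five`
-/

namespace Cfsg.Agent.Helper99.O5040

open Cfsg.Agent.Helper74.M11
open MulAction Subgroup
open scoped Pointwise

variable {G : Type*} [Group G] [Finite G]

instance n40_fact5 : Fact (Nat.Prime 5) := ⟨by norm_num⟩

set_option maxRecDepth 8000 in
/-- the numerics of (N40) -/
theorem n40_numerics (n k c : ℕ) (h : n * (k * (5 * c)) = 5040) (hk : k ∣ 4) (hk1 : k ≠ 1)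
    (hn : n % 5 = 1) (h7 : ¬ 7 ∣ c) (h21 : n ≠ 21) (h90 : k * (5 * c) ≠ 90) :
    k * (5 * c) = 40 := by
  have hk4 : k ≤ 4 := Nat.le_of_dvd (by norm_num) hk
  have hc0 : 0 < c := by
    rcases Nat.eq_zero_or_pos c with h0 | h0
    · rw [h0] at h; omega
    · exact h0
  have hcop : Nat.Coprime c 7 :=
    ((Nat.Prime.coprime_iff_not_dvd (by norm_num : Nat.Prime 7)).2 h7).symm
  interval_cases k
  · omega
  · omega
  · -- k = 2 : n * c = 504
    have h' : n * c = 504 := by
      have : 10 * (n * c) = 10 * 504 := by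
        rw [show (10 * 504 : ℕ) = 5040 by norm_num, ← h]; ring
      exact Nat.eq_of_mul_eq_mul_left (by norm_num) this
    have hc72 : c ∣ 72 := by
      have h1 : c ∣ 72 * 7 := ⟨n, by rw [mul_comm c n, h']⟩
      exact hcop.dvd_of_dvd_mul_right h1
    have hc : c ≤ 72 := Nat.le_of_dvd (by norm_num) hc72
    clear hc72 hcop h hk hk1 hk4
    interval_cases c <;> omega
  · omega
  · -- k = 4 : n * c = 252
    have h' : n * c = 252 := by
      have : 20 * (n * c) = 20 * 252 := by
        rw [show (20 * 252 : ℕ) = 5040 by norm_num, ← h]; ring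
      exact Nat.eq_of_mul_eq_mul_left (by norm_num) this
    have hc36 : c ∣ 36 := by
      have h1 : c ∣ 36 * 7 := ⟨n, by rw [mul_comm c n, h']⟩
      exact hcop.dvd_of_dvd_mul_right h1
    have hc : c ≤ 36 := Nat.le_of_dvd (by norm_num) hc36
    clear hc36 hcop h hk hk1 hk4
    interval_cases c <;> omega

/-- (N40) `|N(R)| = 40` when elements of order 7 are self-centralising. -/
theorem card_normalizer_sylow_five [IsSimpleGroup G] (hG : Nat.card G = 5040)
    (h7 : ∀ g : G, orderOf g = 7 → Nat.card (Cen g) = 7) (R : Sylow 5 G)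
    (h90 : Nat.card (NorS (R : Subgroup G)) ≠ 90) :
    Nat.card (NorS (R : Subgroup G)) = 40 := by
  have hR5 : Nat.card (R : Subgroup G) = 5 := by
    have := Cfsg.Agent.S1017.sylow_card_eq R 1 1008 (by rw [hG]; norm_num) (by norm_num)
    simpa using this
  obtain ⟨k, c, hk4, hk1, hC, hN⟩ :=
    Cfsg.Agent.S1017.normalizer_structure R hR5 (by rw [hG]; norm_num)
  have hk4' : k ∣ 4 := by simpa using hk4
  have hnN := Cfsg.Agent.S1017.card_sylow_mul_card_normalizer R
  rw [hG] at hnN
  have hmod : Nat.card (Sylow 5 G) % 5 = 1 := Cfsg.Agent.S1017.card_sylow_mod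
  have h21 : Nat.card (Sylow 5 G) ≠ 21 := Cfsg.Agent.S1010.result
  -- `7 ∤ c`
  have hc7 : ¬ 7 ∣ c := by
    intro hdvd
    have h7C : 7 ∣ Nat.card (Subgroup.centralizer ((R : Subgroup G) : Set G)) := by
      rw [hC]; exact Dvd.dvd.mul_left hdvd 5
    obtain ⟨x', hx'⟩ := exists_prime_orderOf_dvd_card'
      (G := ↥(Subgroup.centralizer ((R : Subgroup G) : Set G))) 7 h7C
    have hx7 : orderOf (x' : G) = 7 := by rw [Subgroup.orderOf_coe]; exact hx'
    have hRC : (R : Subgroup G) ≤ Cen (x' : G) :=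
      (Cfsg.Agent.S1017.le_centralizer_singleton_iff _ _).2 x'.2
    have h5 := Subgroup.card_dvd_of_le hRC
    rw [hR5, h7 _ hx7] at h5
    omega
  have hN' : Nat.card (NorS (R : Subgroup G)) = k * (5 * c) := hN
  rw [hN'] at h90 ⊢
  rw [hN] at hnN
  exact n40_numerics _ k c hnN hk4' hk1 hmod hc7 h21 h90

end Cfsg.Agent.Helper99.O5040
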