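import Mathlib
import Cfsg.Agent.Lib.Helper98.BrownDefs

set_option autoImplicit false

namespace Cfsg.Agent.Helper99.Brown

open Cfsg.Agent.Helper98.Brown

variable {G : Type*} [Group G]

/-- the underlying map of `Q_{4n} → D_2 = V4` -/
def h99quatToV4Fun (n : ℕ) : QuaternionGroup n → DihedralGroup 2
  | .a i => .r (ZMod.castHom (dvd_mul_right 2 n) (ZMod 2) i)
  | .xa i => .sr (ZMod.castHom (dvd_mul_right 2 n) (ZMod 2) i)

/-- the homomorphism `Q_{4n} → D_2 = V4` for even `n` -/
def h99quatToV4 (n : ℕ) (hn : 2 ∣ n) : QuaternionGroup n →* DihedralGroup 2 :=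
  MonoidHom.mk' (h99quatToV4Fun n) (by
    rintro (i | i) (j | j)
    · simp [h99quatToV4Fun]
    · simp [h99quatToV4Fun]
    · simp [h99quatToV4Fun]
    · have h0 : ((n : ℕ) : ZMod 2) = 0 := (ZMod.natCast_eq_zero_iff n 2).mpr hn
      simp [h99quatToV4Fun, h0])

theorem h99quatToV4_surjective (n : ℕ) (hn : 2 ∣ n) : Function.Surjective (h99quatToV4 n hn) := by
  rintro (j | j)
  · refine ⟨QuaternionGroup.a ((j.val : ℕ) : ZMod (2 * n)), ?_⟩
    change DihedralGroup.r _ = _
    rw [map_natCast, ZMod.natCast_zmod_val]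
  · refine ⟨QuaternionGroup.xa ((j.val : ℕ) : ZMod (2 * n)), ?_⟩
    change DihedralGroup.sr _ = _
    rw [map_natCast, ZMod.natCast_zmod_val]

theorem h99_ker_is_a (n : ℕ) (hn : 2 ∣ n) (q : QuaternionGroup n) (hq : h99quatToV4 n hn q = 1) :
    ∃ i, q = QuaternionGroup.a i := by
  cases q with
  | a i => exact ⟨i, rfl⟩
  | xa i =>
    exfalso
    change DihedralGroup.sr _ = 1 at hq
    rw [DihedralGroup.one_def] at hq
    cases hq

theorem good_of_quaternion_quotient [Finite G] (h : FpfLike G) (K : Subgroup G) [K.Normal]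
    (hK : (Nat.card K).Coprime 2) (k : ℕ) (hk : 1 ≤ k)
    (e : G ⧸ K ≃* QuaternionGroup (2 ^ k)) : ∃ N : Subgroup G, Good N := by
  have hn : 2 ∣ 2 ^ k := dvd_pow_self 2 (by omega)
  set d := h99quatToV4 (2 ^ k) hn with hd
  set f : G →* DihedralGroup 2 := d.comp (e.toMonoidHom.comp (QuotientGroup.mk' K)) with hf
  have hfs : Function.Surjective f :=
    (h99quatToV4_surjective _ hn).comp (e.surjective.comp (QuotientGroup.mk'_surjective K))
  refine ⟨f.ker, inferInstance, ?_, Or.inr (Or.inl ⟨f, hfs, rfl⟩)⟩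
  intro p _ P
  set P' : Subgroup G := (P : Subgroup f.ker).map f.ker.subtype with hP'
  have hP'p : IsPGroup p P' := P.2.map _
  have hiso : IsCyclic P' → IsCyclic P := by
    intro hc
    exact isCyclic_of_surjective
      (Subgroup.equivMapOfInjective _ f.ker.subtype f.ker.subtype_injective).symm
      (MulEquiv.surjective _)
  apply hiso
  by_cases hp2 : p = 2
  · subst hp2
    apply h.comm P' hP'p
    intro x hx y hy
    have hxk : f x = 1 := by
      obtain ⟨x', _, rfl⟩ := hx
      exact x'.2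
    have hyk : f y = 1 := by
      obtain ⟨y', _, rfl⟩ := hy
      exact y'.2
    obtain ⟨i, hi⟩ := h99_ker_is_a _ hn (e (QuotientGroup.mk' K x)) hxk
    obtain ⟨j, hj⟩ := h99_ker_is_a _ hn (e (QuotientGroup.mk' K y)) hyk
    have hcomm : QuotientGroup.mk' K (y * x) = QuotientGroup.mk' K (x * y) := by
      apply e.injective
      rw [map_mul, map_mul, map_mul, map_mul, hi, hj, QuaternionGroup.a_mul_a,
        QuaternionGroup.a_mul_a, add_comm]
    have hcK : (y * x)⁻¹ * (x * y) ∈ K := QuotientGroup.eq.mp hcomm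
    have hcP : (y * x)⁻¹ * (x * y) ∈ P' :=
      P'.mul_mem (P'.inv_mem (P'.mul_mem hy hx)) (P'.mul_mem hx hy)
    set c := (y * x)⁻¹ * (x * y) with hc
    obtain ⟨m, hm⟩ := hP'p ⟨c, hcP⟩
    have hm' : c ^ 2 ^ m = 1 := by
      have := congrArg Subtype.val hm
      simpa using this
    have h1 : orderOf c ∣ 2 ^ m := orderOf_dvd_of_pow_eq_one hm'
    have h2 : orderOf c ∣ Nat.card K := Subgroup.orderOf_dvd_natCard K hcK
    have h3 : orderOf c = 1 := by
      have hcop : (Nat.card K).Coprime (2 ^ m) := hK.pow_right m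
      exact Nat.eq_one_of_dvd_coprimes hcop h2 h1
    have hc1 : c = 1 := orderOf_eq_one_iff.mp h3
    have : x * y = (y * x) * c := by rw [hc]; group
    rw [this, hc1, mul_one]
  · exact h.odd p hp2 P' hP'p

end Cfsg.Agent.Helper99.Brown
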