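import Mathlib
import Cfsg.Prelude.Def_OddOrderLocal
import Cfsg.Agent.Lib.Helper98.TIHDefs

set_option autoImplicit false

/-!
# TIH server (helper98, S4118): piece (P1) `hall_of_ti`
-/

namespace Cfsg.Agent.Helper99.TIH

open Cfsg.Agent.Helper98.TIH

universe u

/-- Bezout: if `x ^ a ∈ S` and `x ^ b ∈ S` with `a`, `b` coprime then `x ∈ S`. -/
theorem p1_mem_of_pow_mem_of_coprime {G : Type u} [Group G] (S : Subgroup G) (x : G) (a b : ℕ)
    (hab : a.Coprime b) (ha : x ^ a ∈ S) (hb : x ^ b ∈ S) : x ∈ S := by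
  have h1 : ((Nat.gcd a b : ℕ) : ℤ) = a * Nat.gcdA a b + b * Nat.gcdB a b := Nat.gcd_eq_gcd_ab a b
  rw [hab.gcd_eq_one] at h1
  have h2 : x = (x ^ a) ^ (Nat.gcdA a b) * (x ^ b) ^ (Nat.gcdB a b) := by
    rw [← zpow_natCast x a, ← zpow_natCast x b, ← zpow_mul, ← zpow_mul, ← zpow_add, ← h1]
    simp
  rw [h2]
  exact S.mul_mem (S.zpow_mem ha _) (S.zpow_mem hb _)

/-- (P1) `H` is a Hall subgroup of `G`. -/
theorem hall_of_ti {G : Type u} [Group G] [Finite G] {H : Subgroup G} (hH : Hyp H) :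
    (Nat.card H).Coprime H.index := by
  by_contra hcop
  obtain ⟨p, hp, hpH, hpI⟩ := Nat.Prime.not_coprime_iff_dvd.1 hcop
  have : Fact p.Prime := ⟨hp⟩
  have hHne : Nat.card H ≠ 0 := Nat.card_pos.ne'
  set n := (Nat.card H).factorization p with hn
  have hn1 : 1 ≤ n := hp.factorization_pos_of_dvd hHne hpH
  have hdvd0 : p ^ n ∣ Nat.card H := Nat.ordProj_dvd _ _
  obtain ⟨K₀, hK₀⟩ := Sylow.exists_subgroup_card_pow_prime p hdvd0
  set P : Subgroup G := K₀.map H.subtype with hP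
  have hPcard : Nat.card P = p ^ n := by
    rw [hP, Subgroup.card_map_of_injective H.subtype_injective, hK₀]
  have hPH : P ≤ H := Subgroup.map_subtype_le K₀
  have hdvd1 : p ^ (n + 1) ∣ Nat.card G := by
    rw [← H.card_mul_index, pow_succ]
    exact Nat.mul_dvd_mul hdvd0 hpI
  obtain ⟨K, hKcard, hPK⟩ := Sylow.exists_subgroup_card_pow_succ hdvd1 hPcard
  -- `P` is normal in `K`
  have hidx : (P.subgroupOf K).index = (Nat.card K).minFac := by
    rw [hKcard, hp.pow_minFac (Nat.succ_ne_zero n)]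
    have h1 := (P.subgroupOf K).card_mul_index
    rw [Nat.card_congr (Subgroup.subgroupOfEquivOfLe hPK).toEquiv, hPcard, hKcard, pow_succ] at h1
    exact Nat.eq_of_mul_eq_mul_left (pow_pos hp.pos n) h1
  have hnorm : (P.subgroupOf K).Normal := Subgroup.normal_of_index_eq_minFac_card hidx
  -- an element of `K ∖ P`
  have hPltK : P < K := by
    refine lt_of_le_of_ne hPK ?_
    intro h
    have : p ^ n = p ^ (n + 1) := by rw [← hPcard, ← hKcard, h]
    have h2 : n = n + 1 := Nat.pow_right_injective hp.two_le this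
    omega
  obtain ⟨x, hxK, hxP⟩ := SetLike.exists_of_lt hPltK
  -- a non-identity element of `P`
  have hPne : P ≠ ⊥ := by
    intro h
    have h1 : Nat.card P = 1 := by rw [h]; exact Subgroup.card_bot
    rw [hPcard] at h1
    have : 1 < p ^ n := Nat.one_lt_pow (by omega) hp.one_lt
    omega
  obtain ⟨⟨y, hyP⟩, hy1⟩ := (Subgroup.ne_bot_iff_exists_ne_one).1 hPne
  have hy1' : y ≠ 1 := fun h => hy1 (Subtype.ext h)
  -- `x` normalizes `P`
  have hxy : x * y * x⁻¹ ∈ P := by
    have := hnorm.conj_mem ⟨y, hPK hyP⟩ (Subgroup.mem_subgroupOf.2 hyP) ⟨x, hxK⟩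
    simpa [Subgroup.mem_subgroupOf] using this
  -- `x ∈ N`
  have hxN : x ∈ Subgroup.normalizer (H : Set G) := by
    by_contra hxN
    exact hy1' (hH.ti x hxN y (hPH hyP) (hPH hxy))
  -- `x ∈ H`
  have hxH : x ∈ H := by
    have : (H.subgroupOf (Subgroup.normalizer (H : Set G))).Normal :=
      Subgroup.normal_in_normalizer
    have h1 : (⟨x, hxN⟩ : Subgroup.normalizer (H : Set G)) ^
        (H.subgroupOf (Subgroup.normalizer (H : Set G))).index ∈
        H.subgroupOf (Subgroup.normalizer (H : Set G)) := Subgroup.pow_index_mem _ _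
    have h2 : (⟨x, hxN⟩ : Subgroup.normalizer (H : Set G)) ^ (p ^ (n + 1)) ∈
        H.subgroupOf (Subgroup.normalizer (H : Set G)) := by
      have h3 : (⟨x, hxK⟩ : K) ^ (p ^ (n + 1)) = 1 := by
        rw [← hKcard]; exact pow_card_eq_one'
      have h4 : x ^ (p ^ (n + 1)) = 1 := by
        have := congrArg Subtype.val h3
        simpa using this
      have h5 : (⟨x, hxN⟩ : Subgroup.normalizer (H : Set G)) ^ (p ^ (n + 1)) = 1 := by
        apply Subtype.ext
        simpa using h4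
      rw [h5]; exact Subgroup.one_mem _
    have hc : (p ^ (n + 1)).Coprime
        (H.subgroupOf (Subgroup.normalizer (H : Set G))).index :=
      Nat.Coprime.pow_left _ (Nat.Coprime.coprime_dvd_left hpH hH.hall)
    have h6 := p1_mem_of_pow_mem_of_coprime _ _ _ _ hc h2 h1
    simpa [Subgroup.mem_subgroupOf] using h6
  -- `K ⊓ H = P`
  have hQle : P ≤ K ⊓ H := le_inf hPK hPH
  have hQK : Nat.card (K ⊓ H : Subgroup G) ∣ p ^ (n + 1) := by
    rw [← hKcard]; exact Subgroup.card_dvd_of_le inf_le_left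
  obtain ⟨m, hm, hQcard⟩ := (Nat.dvd_prime_pow hp).1 hQK
  have hQH : Nat.card (K ⊓ H : Subgroup G) ∣ Nat.card H := Subgroup.card_dvd_of_le inf_le_right
  rw [hQcard] at hQH
  have hmn : m ≤ n := (hp.pow_dvd_iff_le_factorization hHne).1 hQH
  have hle : Nat.card (K ⊓ H : Subgroup G) ≤ Nat.card P := by
    rw [hQcard, hPcard]; exact Nat.pow_le_pow_right hp.pos hmn
  have heq : P = K ⊓ H := Subgroup.eq_of_le_of_card_ge hQle hle
  exact hxP (heq ▸ (⟨hxK, hxH⟩ : x ∈ K ⊓ H))

end Cfsg.Agent.Helper99.TIH
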