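import Mathlib
import Cfsg.Prelude.Def_OddOrderLocal
import Cfsg.Agent.Lib.Helper98.TIHDefs

set_option autoImplicit false

/-!
# TIH server (helper98, S4118): piece (P7) `centralizer_solvable`
-/

namespace Cfsg.Agent.Helper99.TIH

open Cfsg.Agent.Helper98.TIH

universe u

/-- the normalizer of `H` normalizes the centralizer of `H` -/
theorem p7_conj_mem_centralizer {G : Type u} [Group G] (H : Subgroup G) (n g : G)
    (hn : n ∈ Subgroup.normalizer (H : Set G)) (hg : g ∈ Subgroup.centralizer (H : Set G)) :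
    n * g * n⁻¹ ∈ Subgroup.centralizer (H : Set G) := by
  rw [Subgroup.mem_centralizer_iff] at hg ⊢
  intro h hh
  have h1 : n⁻¹ * h * n ∈ (H : Set G) := by
    have := (Subgroup.mem_normalizer_iff''.1 hn h).1 hh
    exact this
  have h2 := hg _ h1
  have h3 : h * (n * g * n⁻¹) = n * ((n⁻¹ * h * n) * g) * n⁻¹ := by group
  rw [h3, h2]; group

/-- `x ^ a = 1`, `x ^ b = 1`, `a`, `b` coprime: `x = 1` -/
theorem p7_eq_one_of_pow_eq_one {G : Type u} [Group G] (x : G) (a b : ℕ) (hab : a.Coprime b)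
    (ha : x ^ a = 1) (hb : x ^ b = 1) : x = 1 := by
  have h1 : orderOf x ∣ a := orderOf_dvd_of_pow_eq_one ha
  have h2 : orderOf x ∣ b := orderOf_dvd_of_pow_eq_one hb
  have h3 : orderOf x ∣ Nat.gcd a b := Nat.dvd_gcd h1 h2
  rw [hab.gcd_eq_one] at h3
  exact orderOf_eq_one_iff.1 (Nat.dvd_one.1 h3)

/-- (P7) the centralizer of `H` is solvable. -/
theorem centralizer_solvable {G : Type u} [Group G] [Finite G] {H O : Subgroup G} (hH : Hyp H)
    (hc : IsCore H O) (htop : O ⊔ Subgroup.normalizer (H : Set G) = ⊤)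
    (hOs : Group.IsSolvable O) :
    Group.IsSolvable (Subgroup.centralizer (H : Set G)) := by
  set N : Subgroup G := Subgroup.normalizer (H : Set G) with hN
  set C : Subgroup G := Subgroup.centralizer (H : Set G) with hC
  have hCN : C ≤ N := Subgroup.centralizer_le_normalizer _
  have hcomm : ∀ c ∈ C, ∀ h ∈ H, h * c = c * h := fun c hc h hh =>
    (Subgroup.mem_centralizer_iff.1 hc) h hh
  -- the central subgroup `Z = C ∩ H` of `C`
  set Zc : Subgroup C := H.subgroupOf C with hZc
  have hZnorm : Zc.Normal := by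
    refine ⟨fun z hz c => ?_⟩
    have h1 : c * z * c⁻¹ = z := by
      apply Subtype.ext
      have h2 := hcomm c.1 c.2 z.1 (Subgroup.mem_subgroupOf.1 hz)
      simp only [Subgroup.coe_mul, Subgroup.coe_inv]
      rw [← h2]; group
    rw [h1]; exact hz
  have hZcard : Nat.card Zc ∣ Nat.card H := by
    refine Subgroup.card_dvd_of_injective
      ((C.subtype.comp Zc.subtype).codRestrict H (fun z => Subgroup.mem_subgroupOf.1 z.2)) ?_
    intro a b hab
    have := congrArg Subtype.val hab
    exact Subtype.ext (Subtype.ext this)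
  have hZidx : Zc.index ∣ (H.subgroupOf N).index := by
    have : (H.subgroupOf N).Normal := Subgroup.normal_in_normalizer
    have h1 := Subgroup.relIndex_dvd_index_of_normal (H.subgroupOf N) (C.subgroupOf N)
    rwa [Subgroup.relIndex_subgroupOf hCN] at h1
  have hZcop : (Nat.card Zc).Coprime Zc.index :=
    Nat.Coprime.coprime_dvd_left hZcard (Nat.Coprime.coprime_dvd_right hZidx hH.hall)
  -- Schur-Zassenhaus
  obtain ⟨D₀, hcomp⟩ := Subgroup.exists_right_complement'_of_coprime hZcop
  have hD₀card : Nat.card D₀ = Zc.index := hcomp.symm.index_eq_card.symm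
  have hD₀cop : (Nat.card D₀).Coprime (Nat.card H) := by
    rw [hD₀card]
    exact (Nat.Coprime.coprime_dvd_right hZidx hH.hall).symm
  set D : Subgroup G := D₀.map C.subtype with hD
  have hDcard : Nat.card D = Nat.card D₀ :=
    Subgroup.card_map_of_injective C.subtype_injective
  have hDC : D ≤ C := Subgroup.map_subtype_le D₀
  -- characterization of `D`
  have hDa : ∀ g ∈ D, (orderOf g).Coprime (Nat.card H) := by
    intro g hg
    have h1 : orderOf g ∣ Nat.card D := Subgroup.orderOf_dvd_natCard D hg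
    rw [hDcard] at h1
    exact Nat.Coprime.coprime_dvd_left h1 hD₀cop
  have hDb : ∀ g ∈ C, (orderOf g).Coprime (Nat.card H) → g ∈ D := by
    intro g hg hgo
    obtain ⟨⟨⟨z, hz⟩, ⟨d, hd⟩⟩, hzd, -⟩ := hcomp.existsUnique (⟨g, hg⟩ : C)
    simp only at hzd
    have hzH : z.1 ∈ H := Subgroup.mem_subgroupOf.1 hz
    have hcm : Commute z d := by
      apply Subtype.ext
      exact hcomm d.1 d.2 z.1 hzH
    have hdm : d ^ Nat.card D₀ = 1 := by
      have h1 : (⟨d, hd⟩ : D₀) ^ Nat.card D₀ = 1 := pow_card_eq_one'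
      have := congrArg Subtype.val h1
      simpa only [Subgroup.coe_pow, Subgroup.coe_one] using this
    have hzm : z ^ Nat.card D₀ = (⟨g, hg⟩ : C) ^ Nat.card D₀ := by
      rw [← hzd, hcm.mul_pow, hdm, mul_one]
    have hz1 : z ^ Nat.card D₀ = 1 := by
      have h1 : orderOf (z ^ Nat.card D₀) ∣ orderOf g := by
        rw [hzm]
        have h2 : orderOf ((⟨g, hg⟩ : C) ^ Nat.card D₀) ∣ orderOf (⟨g, hg⟩ : C) :=
          orderOf_pow_dvd _
        rwa [← Subgroup.orderOf_coe (⟨g, hg⟩ : C)] at h2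
      have h2 : orderOf (z ^ Nat.card D₀) ∣ Nat.card H := by
        refine dvd_trans (orderOf_pow_dvd _) (dvd_trans ?_ hZcard)
        have h3 : orderOf (⟨z, hz⟩ : Zc) ∣ Nat.card Zc := orderOf_dvd_natCard _
        rwa [← Subgroup.orderOf_coe (⟨z, hz⟩ : Zc)] at h3
      have h3 : orderOf (z ^ Nat.card D₀) = 1 :=
        (Nat.Coprime.coprime_dvd_left h1 hgo).eq_one_of_dvd h2
      exact orderOf_eq_one_iff.1 h3
    have hz2 : z ^ Nat.card Zc = 1 := by
      have h1 : (⟨z, hz⟩ : Zc) ^ Nat.card Zc = 1 := pow_card_eq_one'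
      have := congrArg Subtype.val h1
      simpa only [Subgroup.coe_pow, Subgroup.coe_one] using this
    have hz3 : z = 1 :=
      p7_eq_one_of_pow_eq_one z _ _ (hD₀card ▸ hZcop.symm) hz1 hz2
    rw [hz3, one_mul] at hzd
    refine ⟨d, hd, ?_⟩
    rw [hzd]; rfl
  -- `N` normalizes `D`
  have hND : ∀ n ∈ N, ∀ d ∈ D, n * d * n⁻¹ ∈ D := by
    intro n hn d hd
    refine hDb _ (p7_conj_mem_centralizer H n d hn (hDC hd)) ?_
    have h1 : orderOf (n * d * n⁻¹) = orderOf d := by
      have := (MulAut.conj n).orderOf_eq d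
      simpa [MulAut.conj_apply] using this
    rw [h1]; exact hDa d hd
  -- `O ⊔ D` is normal
  have hOn : O.Normal := hc.normal
  have hODn : (O ⊔ D).Normal := by
    rw [← Subgroup.normalizer_eq_top_iff, eq_top_iff, ← htop]
    refine sup_le (le_trans le_sup_left Subgroup.le_normalizer) ?_
    rw [Subgroup.le_normalizer_iff]
    intro n hn k hk
    have h1 : (O ⊔ D).map (MulAut.conj n).toMonoidHom ≤ O ⊔ D := by
      rw [Subgroup.map_sup]
      refine sup_le_sup ?_ ?_
      · rintro _ ⟨o, ho, rfl⟩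
        exact hOn.conj_mem o ho n
      · rintro _ ⟨d, hd, rfl⟩
        exact hND n hn d hd
    exact h1 ⟨k, hk, rfl⟩
  -- its order is prime to `|H|`
  have hODcop : (Nat.card (O ⊔ D : Subgroup G)).Coprime (Nat.card H) := by
    have h1 : Nat.card (O ⊔ D : Subgroup G) = Nat.card O * O.relIndex (O ⊔ D) := by
      have h2 := (O.subgroupOf (O ⊔ D)).card_mul_index
      rw [Nat.card_congr (Subgroup.subgroupOfEquivOfLe (le_sup_left : O ≤ O ⊔ D)).toEquiv] at h2
      exact h2.symm
    rw [h1, Subgroup.relIndex_sup_left]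
    refine Nat.Coprime.mul_left hc.coprime ?_
    have h3 : O.relIndex D ∣ Nat.card D := Subgroup.relIndex_dvd_card O D
    rw [hDcard] at h3
    exact Nat.Coprime.coprime_dvd_left h3 hD₀cop
  have hDO : D ≤ O := le_trans le_sup_right (hc.max _ hODn hODcop)
  -- `D₀` is solvable
  have hD₀s : Group.IsSolvable D₀ := by
    refine Group.isSolvable_of_isSolvable_injective
      (f := (C.subtype.comp D₀.subtype).codRestrict O
        (fun d => hDO ⟨d.1, d.2, rfl⟩)) ?_
    intro a b hab
    have := congrArg Subtype.val hab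
    exact Subtype.ext (Subtype.ext this)
  -- `Z` is abelian
  have hZs : Group.IsSolvable Zc := by
    refine Group.isSolvable_of_comm ?_
    intro a b
    apply Subtype.ext
    apply Subtype.ext
    exact hcomm b.1.1 b.1.2 a.1.1 (Subgroup.mem_subgroupOf.1 a.2)
  -- `C ⧸ Z ≃ D₀`
  have hQs : Group.IsSolvable (C ⧸ Zc) :=
    Group.isSolvable_of_surjective (f := (hcomp.symm.QuotientMulEquiv).symm.toMonoidHom)
      (hcomp.symm.QuotientMulEquiv).symm.surjective
  refine Group.isSolvable_of_ker_le_range Zc.subtype (QuotientGroup.mk' Zc) ?_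
  rw [QuotientGroup.ker_mk', Subgroup.range_subtype]

end Cfsg.Agent.Helper99.TIH
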