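import Mathlib

set_option autoImplicit false

namespace Cfsg.Agent.Helper99.UT

/-- (G0) arithmetic: a subfield of order `r` with `r^d = q²` containing an element of order
`(q+1)/gcd(3,q+1)`. -/
theorem arith (q r d : ℕ) (hq : 3 ≤ q) (h5 : q ≠ 5) (h8 : q ≠ 8) (hr : 2 ≤ r) (hd : r ^ d = q ^ 2)
    (hdvd : (q + 1) ∣ 3 * (r - 1)) : d = 1 := by
  have hle : q + 1 ≤ 3 * (r - 1) := Nat.le_of_dvd (by omega) hdvd
  have h3r : q + 4 ≤ 3 * r := by omega
  rcases Nat.lt_or_ge d 4 with hd4 | hd4
  · interval_cases d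
    · -- d = 0
      exfalso
      have : q ^ 2 = 1 := by simpa using hd.symm
      nlinarith
    · rfl
    · -- d = 2
      exfalso
      have hrq : r = q := by
        have := hd
        exact Nat.pow_left_injective (n := 2) (by norm_num) this
      subst hrq
      have h1 : (r + 1) ∣ 3 * (r + 1) := dvd_mul_left _ _
      have h2 := Nat.dvd_sub h1 hdvd
      have h3 : 3 * (r + 1) - 3 * (r - 1) = 6 := by omega
      rw [h3] at h2
      have h4 : r + 1 ≤ 6 := Nat.le_of_dvd (by norm_num) h2
      have h5' : r ≤ 5 := by omega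
      interval_cases r <;> omega
    · -- d = 3
      exfalso
      have h27 : (q + 4) ^ 3 ≤ 27 * q ^ 2 := by
        calc (q + 4) ^ 3 ≤ (3 * r) ^ 3 := Nat.pow_le_pow_left h3r 3
          _ = 27 * r ^ 3 := by ring
          _ = 27 * q ^ 2 := by rw [hd]
      have hq15 : q < 15 := by
        by_contra hcon
        have hcon := not_lt.mp hcon
        nlinarith [Nat.pow_le_pow_left hcon 2]
      interval_cases q <;> omega
  · exfalso
    have hr1 : 1 ≤ r := by omega
    have h4 : r ^ 4 ≤ q ^ 2 := by
      rw [← hd]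
      exact Nat.pow_le_pow_right hr1 hd4
    have hr2 : r ^ 2 ≤ q := by
      by_contra hcon
      have hcon := not_le.mp hcon
      have : q ^ 2 < (r ^ 2) ^ 2 := Nat.pow_lt_pow_left hcon (by norm_num)
      have e : (r ^ 2) ^ 2 = r ^ 4 := by ring
      omega
    nlinarith

end Cfsg.Agent.Helper99.UT
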