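import Mathlib
import Cfsg.Agent.Lib.Helper98.UT0
import Cfsg.Agent.Lib.Helper99.UTG0

set_option autoImplicit false
set_option linter.unusedSectionVars false
set_option linter.unusedVariables false

/-!
UT (G1) for helper98's server (S2283): a generator `lam` of the norm-one group with `Gen2 lam 1`.
-/

namespace Cfsg.Agent.Helper99.UT

open Matrix Cfsg Cfsg.Agent.Helper13 Cfsg.Agent.Helper87.PsuA Cfsg.Agent.Helper87.PsuB0
  Cfsg.Agent.Helper98.UT

variable {F : Type*} [Field F] [Fintype F] {q : ℕ}

/-- the multipliers of an additive subgroup of a finite field form a subfield -/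
noncomputable def h99_mult (M : AddSubgroup F) : Subfield F :=
  { carrier := {a | ∀ μ ∈ M, a * μ ∈ M}
    mul_mem' := by
      intro a b ha hb μ hμ
      rw [mul_assoc]
      exact ha _ (hb μ hμ)
    one_mem' := by
      intro μ hμ
      rw [one_mul]; exact hμ
    add_mem' := by
      intro a b ha hb μ hμ
      rw [add_mul]
      exact M.add_mem (ha μ hμ) (hb μ hμ)
    zero_mem' := by
      intro μ _
      rw [zero_mul]; exact M.zero_mem
    neg_mem' := by
      intro a ha μ hμ
      rw [neg_mul]
      exact M.neg_mem (ha μ hμ)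
    inv_mem' := by
      intro a ha
      by_cases h0 : a = 0
      · subst h0
        intro μ _
        rw [_root_.inv_zero, zero_mul]; exact M.zero_mem
      · have hpow : ∀ n : ℕ, ∀ μ ∈ M, a ^ n * μ ∈ M := by
          intro n
          induction n with
          | zero => intro μ hμ; rw [pow_zero, one_mul]; exact hμ
          | succ n ih =>
            intro μ hμ
            rw [pow_succ, mul_assoc]
            exact ih _ (ha μ hμ)
        have h1 : a ^ (Fintype.card F - 1) = 1 := FiniteField.pow_card_sub_one_eq_one a h0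
        have hq : 2 ≤ Fintype.card F := Fintype.one_lt_card
        have h2 : a * a ^ (Fintype.card F - 2) = 1 := by
          rw [← pow_succ', ← h1]
          congr 1
          omega
        have h3 : a⁻¹ = a ^ (Fintype.card F - 2) := inv_eq_of_mul_eq_one_right h2
        rw [h3]
        exact hpow _ }

theorem h99_mem_mult (M : AddSubgroup F) (a : F) :
    a ∈ h99_mult M ↔ ∀ μ ∈ M, a * μ ∈ M := Iff.rfl

/-- (G1) a generator `lam` of the norm-one group; `lam^3` generates `F` as a ring unless `q = 2, 5, 8`. -/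
theorem exists_lam (hF : Fintype.card F = q ^ 2) (hq : 3 ≤ q) (h5 : q ≠ 5) (h8 : q ≠ 8) :
    ∃ lam : F, lam * lam ^ q = 1 ∧ lam ^ 2 ≠ 1 ∧ Gen2 lam 1 := by
  classical
  obtain ⟨g, hg⟩ := IsCyclic.exists_generator (α := Fˣ)
  have hord : orderOf g = Fintype.card F - 1 := by
    rw [orderOf_eq_card_of_forall_mem_zpowers hg, Nat.card_eq_fintype_card, Fintype.card_units]
  have hordg : orderOf (g : F) = q ^ 2 - 1 := by
    rw [orderOf_units, hord, hF]
  have hfac : q ^ 2 - 1 = (q - 1) * (q + 1) := by
    obtain ⟨k, rfl⟩ : ∃ k, q = k + 1 := ⟨q - 1, by omega⟩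
    have : (k + 1) ^ 2 = k * (k + 1 + 1) + 1 := by ring
    rw [this]; simp
  have hq1 : q - 1 ≠ 0 := by omega
  have hordlam : orderOf ((g : F) ^ (q - 1)) = q + 1 := by
    rw [orderOf_pow' _ hq1, hordg, hfac, Nat.gcd_eq_right (dvd_mul_right (q - 1) (q + 1))]
    exact Nat.mul_div_cancel_left _ (by omega)
  refine ⟨(g : F) ^ (q - 1), ?_, ?_, ?_⟩
  · rw [← pow_succ', ← pow_mul, ← hfac, ← hordg]
    exact pow_orderOf_eq_one _
  · intro h
    have hdvd : orderOf ((g : F) ^ (q - 1)) ∣ 2 := orderOf_dvd_of_pow_eq_one h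
    rw [hordlam] at hdvd
    have := Nat.le_of_dvd (by norm_num) hdvd
    omega
  · intro M hne hM _
    obtain ⟨μ₀, hμ₀M, hμ₀⟩ := hne
    set lam : F := (g : F) ^ (q - 1) with hlam
    set K := h99_mult M with hK
    have hζK : lam ^ 3 ∈ K := (h99_mem_mult M _).2 hM
    have hcard : Fintype.card F = Fintype.card K ^ Module.finrank K F :=
      Module.card_eq_pow_finrank (K := K) (V := F)
    have hk2 : 2 ≤ Fintype.card K := Fintype.one_lt_card
    have hlam0 : lam ≠ 0 := pow_ne_zero _ g.ne_zero
    have hz0 : (⟨lam ^ 3, hζK⟩ : K) ≠ 0 := by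
      intro h
      have := congrArg (fun x : K => (x : F)) h
      simp at this
      exact hlam0 this
    have hpowK : (⟨lam ^ 3, hζK⟩ : K) ^ (Fintype.card K - 1) = 1 :=
      FiniteField.pow_card_sub_one_eq_one _ hz0
    have hpowF : (lam ^ 3) ^ (Fintype.card K - 1) = 1 := by
      have := congrArg (fun x : K => (x : F)) hpowK
      simpa using this
    have hpow2 : lam ^ (3 * (Fintype.card K - 1)) = 1 := by
      rw [pow_mul]; exact hpowF
    have hdvd : q + 1 ∣ 3 * (Fintype.card K - 1) := by
      rw [← hordlam]; exact orderOf_dvd_of_pow_eq_one hpow2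
    have hd1 : Module.finrank K F = 1 :=
      arith q (Fintype.card K) (Module.finrank K F) hq h5 h8 hk2 (by rw [← hcard, hF]) hdvd
    have hqk : Fintype.card F = Fintype.card K := by
      rw [hcard, hd1, pow_one]
    have hsurj : Function.Surjective (fun x : K => (x : F)) := by
      have hbij : Function.Bijective (fun x : K => (x : F)) :=
        (Fintype.bijective_iff_injective_and_card _).2 ⟨Subtype.val_injective, hqk.symm⟩
      exact hbij.2
    rw [AddSubgroup.eq_top_iff']
    intro x
    obtain ⟨⟨a, ha⟩, hax⟩ := hsurj (x * μ₀⁻¹)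
    have ha' : a = x * μ₀⁻¹ := hax
    have := (h99_mem_mult M a).1 ha μ₀ hμ₀M
    rw [ha', mul_assoc, inv_mul_cancel₀ hμ₀, mul_one] at this
    exact this

end Cfsg.Agent.Helper99.UT
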