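import Mathlib
import Cfsg.Agent.Lib.Helper7.CWDefs

/-!
CW (A8) `octads_le` for helper7's lemma server "CW" (row S0406).
-/

set_option autoImplicit false
open Matrix

namespace Cfsg.Agent.Helper99.CW
open Cfsg Cfsg.Agent.Helper7.CW

/-- support of a binary word -/
def h99supp (w : Fin 24 → ZMod 2) : Finset (Fin 24) := Finset.univ.filter (fun i => w i ≠ 0)

theorem h99supp_card (w : Fin 24 → ZMod 2) : (h99supp w).card = hammingNorm w := rfl

theorem h99_zmod2 : ∀ a b : ZMod 2, a + b ≠ 0 → (a ≠ 0 ∧ b = 0) ∨ (a = 0 ∧ b ≠ 0) := by decide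

theorem h99_inter_le (C : Submodule (ZMod 2) (Fin 24 → ZMod 2))
    (hW : ∀ w ∈ C, w ≠ 0 → 8 ≤ hammingNorm w) (v w : Fin 24 → ZMod 2) (hv : v ∈ C) (hw : w ∈ C)
    (hv8 : hammingNorm v = 8) (hw8 : hammingNorm w = 8) (hne : v ≠ w) :
    (h99supp v ∩ h99supp w).card ≤ 4 := by
  by_contra hcon
  push Not at hcon
  have hsum : v + w ∈ C := C.add_mem hv hw
  have hne0 : v + w ≠ 0 := by
    intro h0
    apply hne
    funext i
    have hi := congrFun h0 i
    simp only [Pi.add_apply, Pi.zero_apply] at hi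
    have : ∀ a b : ZMod 2, a + b = 0 → a = b := by decide
    exact this _ _ hi
  have h8 := hW _ hsum hne0
  have hsub : h99supp (v + w) ⊆ (h99supp v \ h99supp w) ∪ (h99supp w \ h99supp v) := by
    intro i hi
    simp only [h99supp, Finset.mem_filter, Finset.mem_univ, true_and, Pi.add_apply] at hi
    simp only [h99supp, Finset.mem_union, Finset.mem_sdiff, Finset.mem_filter, Finset.mem_univ,
      true_and, not_not]
    rcases h99_zmod2 _ _ hi with ⟨h1, h2⟩ | ⟨h1, h2⟩
    · exact Or.inl ⟨h1, h2⟩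
    · exact Or.inr ⟨h2, h1⟩
  have hc1 := Finset.card_le_card hsub
  have hc2 := Finset.card_union_le (h99supp v \ h99supp w) (h99supp w \ h99supp v)
  have hc3 := Finset.card_sdiff_add_card_inter (h99supp v) (h99supp w)
  have hc4 := Finset.card_sdiff_add_card_inter (h99supp w) (h99supp v)
  rw [Finset.inter_comm] at hc4
  rw [h99supp_card] at hc1 hc3 hc4
  omega

theorem octads_le (C : Submodule (ZMod 2) (Fin 24 → ZMod 2))
    (hW : ∀ w ∈ C, w ≠ 0 → 8 ≤ hammingNorm w) :
    {w : Fin 24 → ZMod 2 | w ∈ C ∧ hammingNorm w = 8}.ncard ≤ 759 := by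
  classical
  set O : Finset (Fin 24 → ZMod 2) :=
    Finset.univ.filter (fun w => w ∈ C ∧ hammingNorm w = 8) with hO
  have hset : {w : Fin 24 → ZMod 2 | w ∈ C ∧ hammingNorm w = 8} = ↑O := by
    ext w
    simp [hO]
  rw [hset, Set.ncard_coe_finset]
  have hdisj : ∀ v ∈ O, ∀ w ∈ O, v ≠ w →
      Disjoint (Finset.powersetCard 5 (h99supp v)) (Finset.powersetCard 5 (h99supp w)) := by
    intro v hv w hw hne
    rw [Finset.disjoint_left]
    intro T hTv hTw
    rw [Finset.mem_powersetCard] at hTv hTw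
    simp only [hO, Finset.mem_filter, Finset.mem_univ, true_and] at hv hw
    have h4 := h99_inter_le C hW v w hv.1 hw.1 hv.2 hw.2 hne
    have hsub : T ⊆ h99supp v ∩ h99supp w := Finset.subset_inter hTv.1 hTw.1
    have := Finset.card_le_card hsub
    omega
  have hcard := Finset.card_biUnion hdisj
  have hsub : O.biUnion (fun w => Finset.powersetCard 5 (h99supp w)) ⊆
      Finset.powersetCard 5 (Finset.univ : Finset (Fin 24)) := by
    intro T hT
    rw [Finset.mem_biUnion] at hT
    obtain ⟨w, _, hTw⟩ := hT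
    rw [Finset.mem_powersetCard] at hTw ⊢
    exact ⟨Finset.subset_univ _, hTw.2⟩
  have hle := Finset.card_le_card hsub
  rw [hcard, Finset.card_powersetCard, Finset.card_univ, Fintype.card_fin] at hle
  have hterm : ∀ w ∈ O, (Finset.powersetCard 5 (h99supp w)).card = 56 := by
    intro w hw
    simp only [hO, Finset.mem_filter, Finset.mem_univ, true_and] at hw
    rw [Finset.card_powersetCard, h99supp_card, hw.2]
    rfl
  rw [Finset.sum_congr rfl hterm, Finset.sum_const, smul_eq_mul] at hle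
  have h24 : Nat.choose 24 5 = 42504 := by decide
  rw [h24] at hle
  omega

end Cfsg.Agent.Helper99.CW
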