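import Mathlib
import Cfsg.Agent.Lib.Helper31.G2Defs
import Cfsg.Agent.Lib.Helper99.G2BOTCore
import Cfsg.Agent.Lib.Helper23.G2INTER
import Cfsg.Agent.Lib.Helper67.G2BLOCK

set_option autoImplicit false

/-!
# G2 server (helper31, S3795): piece (BOT) `g2_bot`, final wiring

`g2_bot_core` (Mathlib only, `Lib/Helper99/G2BOTCore`) + the real (BLOCK) `Helper67.G2.g2_block`
+ the real (INTER) `Helper23.G2.g2_inter`.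
-/

namespace Cfsg.Agent.Helper99.G2

open Module Subgroup Cfsg.Agent.Helper31.SG Cfsg.Agent.Helper31.G2

universe u uG uK uV

/-- (BOT) statement verbatim from `tools/g2_sigs_helper31.lean.txt`. -/
theorem g2_bot {K : Type uK} [Field K] [IsAlgClosed K] {r s : ℕ} [hr : Fact r.Prime]
    [CharP K r] (hs : s.Prime) (hs2 : s ≠ 2) (hr2 : r ≠ 2) (hrs : r ≠ s)
    {V : Type uV} [AddCommGroup V] [Module K V] [FiniteDimensional K V]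
    {G : Type uG} [Group G] [Finite G] (ρ : Representation K G V) (S Z Q : Subgroup G) (x : G)
    (n : ℕ) (hn : 1 ≤ n) (hS : IsPGroup s S) (hZS : Z ≤ S)
    (hQS : ∀ g ∈ Q, ∀ a ∈ S, g * a * g⁻¹ ∈ S) (hxS : ∀ a ∈ S, x * a * x⁻¹ ∈ S)
    (hxZ : ∀ z ∈ Z, x * z * x⁻¹ ∈ Z) (hxQ : ∀ g ∈ Q, x * g * x⁻¹ ∈ Q)
    (hx : x ^ 2 ^ (n + 1) = 1) (hfix : ∀ v : V, ρ x v = v → v = 0)
    (hZc : ∀ z ∈ Z, ∀ a ∈ S, z * a = a * z)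
    (hcomm : ∀ a ∈ S, ∀ b ∈ S, a * b * a⁻¹ * b⁻¹ ∈ Z)
    (hQZ : ∀ g ∈ Q, ∀ z ∈ Z, g * z = z * g)
    (hmax : ∀ S₁ : Subgroup G, S₁ ≤ S → S₁ ≠ S → (∀ g ∈ Q, ∀ a ∈ S₁, g * a * g⁻¹ ∈ S₁) →
      (∀ a ∈ S₁, x * a * x⁻¹ ∈ S₁) → S₁ ≤ Z)
    (hnab : ∃ a ∈ S, ∃ b ∈ S, ρ (a * b * a⁻¹ * b⁻¹) ≠ 1)
    (hA1 : s ^ 2 ^ n * Nat.card Z ≤
      Nat.card {a : G // a ∈ S ∧ x ^ 2 ^ n * a * (x ^ 2 ^ n)⁻¹ * a ∈ Z})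
    (hA2 : ∃ a ∈ S, x ^ 2 ^ n * a * (x ^ 2 ^ n)⁻¹ * a⁻¹ ∈ Z ∧
      x ^ 2 ^ (n - 1) * a * (x ^ 2 ^ (n - 1))⁻¹ * a⁻¹ ∉ Z) : False :=
  g2_bot_core hs hs2 S Z Q x n hn hZS hQS hxS hxQ hZc hcomm hQZ hmax
    (Cfsg.Agent.Helper67.G2.g2_block hs hs2 hr2 hrs ρ S x n hS hxS hx hfix
      (fun a ha b hb c hc => hZc _ (hcomm a ha b hb) c hc) hnab)
    (fun R j hj hZR hRS hyR hint =>
      Cfsg.Agent.Helper23.G2.g2_inter S Z R x n j hj hx hZR hRS hxS hxZ hcomm hyR hint)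
    hA1 hA2

end Cfsg.Agent.Helper99.G2
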