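import Mathlib
import Cfsg.Agent.Lib.Helper14.GLIDefs
import Cfsg.Agent.Lib.Helper12.GLIGCOARSE
import Cfsg.Agent.Lib.Helper63.GLIGFIX
import Cfsg.Agent.Lib.Helper23.GLIGST
import Cfsg.Agent.Lib.Helper99.GLIGJOIN
import Cfsg.Agent.Lib.Helper99.GLIGSPLIT

set_option autoImplicit false

/-!
GLI (GLE) for helper14's server (S5958): the direction `⇐`, abstractly (no form).
-/

namespace Cfsg.Agent.Helper99.GLI

open Module Polynomial Cfsg.Agent.Helper14.GLI

theorem h99_order_pos (q r : ℕ) [Fact r.Prime] (hrq : ¬ r ∣ q) :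
    0 < orderOf ((q : ℕ) : ZMod r) := by
  have hr := (Fact.out : r.Prime)
  have hne : ((q : ℕ) : ZMod r) ≠ 0 := by
    intro h
    exact hrq ((ZMod.natCast_eq_zero_iff q r).1 h)
  have hpow : ((q : ℕ) : ZMod r) ^ (r - 1) = 1 := ZMod.pow_card_sub_one_eq_one hne
  have hdvd := orderOf_dvd_of_pow_eq_one hpow
  rcases Nat.eq_zero_or_pos (orderOf ((q : ℕ) : ZMod r)) with h | h
  · rw [h] at hdvd
    have h0 := Nat.eq_zero_of_zero_dvd hdvd
    have := hr.two_le
    omega
  · exact h

/-- core of (GLE): the other pieces enter as hypotheses. -/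
theorem h99_gle_core {F V : Type*} [Field F] [Fintype F] [AddCommGroup V] [Module F V]
    [FiniteDimensional F V] (x : V →ₗ[F] V) (r : ℕ) [Fact r.Prime]
    (hrq : ¬ r ∣ Fintype.card F)
    (a t : ℕ) (hat : finrank F V = a * t)
    (hca : orderOf ((Fintype.card F : ℕ) : ZMod r) ≤ a)
    (hk : finrank F V % orderOf ((Fintype.card F : ℕ) : ZMod r)
      = t * (a % orderOf ((Fintype.card F : ℕ) : ZMod r)))
    (hfix : ((⊤ : Submodule F V) ⊓ LinearMap.ker (x - 1)) ⊓ (⊤ : Submodule F V).map (x - 1) = ⊥ ∧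
      ((⊤ : Submodule F V) ⊓ LinearMap.ker (x - 1)) ⊔ (⊤ : Submodule F V).map (x - 1) = ⊤ ∧
      ((⊤ : Submodule F V).map (x - 1)).map x ≤ (⊤ : Submodule F V).map (x - 1) ∧
      (∀ v ∈ (⊤ : Submodule F V).map (x - 1), x v = v → v = 0))
    (hst : ∀ R : Submodule F V, R.map x ≤ R → (∀ v ∈ R, x v = v → v = 0) →
      ∃ (m : ℕ) (W : Fin m → Submodule F V), IsIndepFam R W ∧ (∀ k, (W k).map x ≤ W k) ∧
      (∀ k, finrank F (W k) = orderOf ((Fintype.card F : ℕ) : ZMod r)))
    (hsplit : ∀ (U : Submodule F V) (e : Fin t → ℕ), ∑ j, e j = finrank F U →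
      ∃ E : Fin t → Submodule F V, IsIndepFam U E ∧ ∀ j, finrank F (E j) = e j)
    (hjoin : ∀ (m : ℕ) (U R T : Submodule F V), U ⊓ R = ⊥ → U ⊔ R = T →
      ∀ (E : Fin t → Submodule F V) (W : Fin m → Submodule F V),
      IsIndepFam U E → IsIndepFam R W → IsIndepFam T (Sum.elim E W)) :
    ∃ D : Fin t → Submodule F V, IsIndepFam ⊤ D ∧ (∀ j, finrank F (D j) = a) ∧
      ∀ j, (D j).map x ≤ D j := by
  classical
  have hc0 := h99_order_pos (Fintype.card F) r hrq
  generalize hcdef : orderOf ((Fintype.card F : ℕ) : ZMod r) = c at hc0 hca hk hst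
  -- Step 1: fixed / moved decomposition of the whole space
  obtain ⟨h1, h2, h6, h7⟩ := hfix
  generalize hV0 : (⊤ : Submodule F V) ⊓ LinearMap.ker (x - 1) = V0 at h1 h2
  generalize hV1 : (⊤ : Submodule F V).map (x - 1) = V1 at h1 h2 h6 h7
  -- Step 2: blocks on the moved part
  obtain ⟨m, W, hWfam, hWinv, hWdim⟩ := hst V1 h6 h7
  -- dimensions
  have hdim01 : finrank F V0 + finrank F V1 = finrank F V := by
    have := Submodule.finrank_sup_add_finrank_inf_eq V0 V1
    rw [h2, h1] at this
    simpa using this.symm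
  have hdim1 : finrank F V1 = m * c := by
    obtain ⟨hfam1, hd1⟩ :=
      Cfsg.Agent.Helper12.GLI.gl_coarsen V1 W hWfam (fun _ : Fin m => (0 : Fin 1))
    have hs := hfam1.sup
    rw [iSup_unique] at hs
    rw [← hs, hd1 default]
    have : Finset.univ.filter (fun k : Fin m => (0 : Fin 1) = default) = Finset.univ :=
      Finset.filter_true_of_mem (fun _ _ => Subsingleton.elim _ _)
    rw [this]
    simp [hWdim]
  -- arithmetic
  set κ := a / c with hκdef
  have hκ : 1 ≤ κ := Nat.div_pos hca hc0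
  have hadiv : c * κ + a % c = a := Nat.div_add_mod a c
  have hρ : t * (a % c) < c := by rw [← hk]; exact Nat.mod_lt _ hc0
  have hm : m ≤ κ * t := by
    by_contra hcon
    have h' : κ * t + 1 ≤ m := by omega
    have e1 : (κ * t + 1) * c = c * κ * t + c := by ring
    have e2 : (κ * t + 1) * c ≤ m * c := Nat.mul_le_mul_right c h'
    have e3 : a * t = c * κ * t + a % c * t := by
      calc a * t = (c * κ + a % c) * t := by rw [hadiv]
        _ = c * κ * t + a % c * t := by ring
    have e4 : a % c * t = t * (a % c) := Nat.mul_comm _ _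
    omega
  let g : Fin m → Fin t := fun k =>
    ⟨k.1 / κ, (Nat.div_lt_iff_lt_mul hκ).2 (lt_of_lt_of_le k.2 (by rw [Nat.mul_comm]; exact hm))⟩
  set s : Fin t → ℕ := fun j => (Finset.univ.filter (fun k : Fin m => g k = j)).card with hsdef
  have hs_le : ∀ j, s j ≤ κ := by
    intro j
    have : s j ≤ (Finset.range κ).card := by
      apply Finset.card_le_card_of_injOn (fun k : Fin m => k.1 % κ)
      · intro k _
        simp only [Finset.coe_range, Set.mem_Iio]
        exact Nat.mod_lt _ hκ
      · intro k hk1 k' hk2 hkk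
        simp only [Finset.coe_filter, Finset.mem_univ, true_and, Set.mem_ofPred_eq] at hk1 hk2
        have q1 : k.1 / κ = k'.1 / κ := by
          have := congrArg Fin.val (hk1.trans hk2.symm)
          simpa [g] using this
        have d1 := Nat.div_add_mod k.1 κ
        have d2 := Nat.div_add_mod k'.1 κ
        simp only at hkk
        apply Fin.ext
        rw [← d1, ← d2, q1, hkk]
    simpa using this
  have hs_sum : ∑ j, s j = m := by
    have := Finset.card_eq_sum_card_fiberwise (f := g) (s := (Finset.univ : Finset (Fin m)))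
      (t := (Finset.univ : Finset (Fin t))) (fun _ _ => Finset.mem_univ _)
    simpa using this.symm
  have hsc : ∀ j, s j * c ≤ a := by
    intro j
    calc s j * c ≤ κ * c := Nat.mul_le_mul_right c (hs_le j)
      _ = c * κ := Nat.mul_comm _ _
      _ ≤ a := by omega
  set e : Fin t → ℕ := fun j => a - s j * c with hedef
  have he_sum : ∑ j, e j = finrank F V0 := by
    have h8 : ∑ j : Fin t, (e j + s j * c) = ∑ _j : Fin t, a :=
      Finset.sum_congr rfl (fun j _ => Nat.sub_add_cancel (hsc j))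
    rw [Finset.sum_add_distrib, ← Finset.sum_mul, hs_sum, Finset.sum_const, Finset.card_univ,
      Fintype.card_fin, smul_eq_mul] at h8
    have h9 : t * a = a * t := Nat.mul_comm _ _
    omega
  -- Step 5: split the fixed part
  obtain ⟨E, hE, hEdim⟩ := hsplit V0 e he_sum
  -- Step 6: join
  have hjoin' : IsIndepFam ⊤ (Sum.elim E W) := hjoin m V0 V1 ⊤ h1 h2 E W hE hWfam
  -- Step 7: coarsen
  obtain ⟨hD, hDdim⟩ :=
    Cfsg.Agent.Helper12.GLI.gl_coarsen ⊤ (Sum.elim E W) hjoin' (Sum.elim id g)
  refine ⟨_, hD, ?_, ?_⟩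
  · intro j
    have key : ∑ k ∈ Finset.univ.filter (fun k : Fin t ⊕ Fin m => Sum.elim id g k = j),
          finrank F ↥(Sum.elim E W k)
        = (∑ k : Fin t, if k = j then finrank F ↥(E k) else 0) +
          ∑ k : Fin m, if g k = j then finrank F ↥(W k) else 0 := by
      rw [Finset.sum_filter, Fintype.sum_sum_type]
      rfl
    have hB' : (∑ a₂ : Fin m, if g a₂ = j then finrank F ↥(W a₂) else 0) = s j * c := by
      rw [← Finset.sum_filter, Finset.sum_congr rfl (fun k _ => hWdim k), Finset.sum_const,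
        smul_eq_mul]
    have hA' : (∑ k : Fin t, if k = j then finrank F ↥(E k) else 0) = e j := by
      rw [Finset.sum_ite_eq']
      simp [hEdim j]
    rw [hDdim j]
    refine Eq.trans ?_ (Nat.sub_add_cancel (hsc j))
    refine Eq.trans ?_ (congrArg₂ (· + ·) hA' hB')
    convert key using 2
  · intro j
    rw [Submodule.map_iSup]
    apply iSup_le
    intro k
    rw [Submodule.map_iSup]
    apply iSup_le
    intro hkj
    have hpiece : (Sum.elim E W k).map x ≤ Sum.elim E W k := by
      rcases k with k | k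
      · simp only [Sum.elim_inl]
        have hle : E k ≤ V0 := by rw [← hE.sup]; exact le_iSup E k
        rintro _ ⟨v, hv, rfl⟩
        have hv0 : v ∈ V0 := hle hv
        rw [← hV0] at hv0
        have hker : (x - 1) v = 0 := LinearMap.mem_ker.1 hv0.2
        have hxv : x v = v := by
          have : x v - v = 0 := by simpa using hker
          exact sub_eq_zero.1 this
        rw [hxv]; exact hv
      · simp only [Sum.elim_inr]
        exact hWinv k
    exact hpiece.trans (le_iSup₂_of_le k hkj le_rfl)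

/-- (GLE) = SPI (LE) without the form. -/
theorem gl_decomp_of_arith {F V : Type*} [Field F] [Fintype F] [AddCommGroup V] [Module F V]
    [FiniteDimensional F V] (x : V →ₗ[F] V) (r : ℕ) [Fact r.Prime]
    (hr0 : (r : F) ≠ 0) (hrq : ¬ r ∣ Fintype.card F) (hxr : x ^ r = 1)
    (a t : ℕ) (hat : finrank F V = a * t)
    (hca : orderOf ((Fintype.card F : ℕ) : ZMod r) ≤ a)
    (hk : finrank F V % orderOf ((Fintype.card F : ℕ) : ZMod r)
      = t * (a % orderOf ((Fintype.card F : ℕ) : ZMod r))) :
    ∃ D : Fin t → Submodule F V, IsIndepFam ⊤ D ∧ (∀ j, finrank F (D j) = a) ∧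
      ∀ j, (D j).map x ≤ D j := by
  refine h99_gle_core x r hrq a t hat hca hk
    (Cfsg.Agent.Helper63.GLI.gl_fix_decomp x r hr0 hxr ⊤ le_top) ?_ ?_ ?_
  · intro R hRx hfpf
    obtain ⟨m, W, h1, h2, h3, _⟩ := Cfsg.Agent.Helper23.GLI.gl_block_decomp x r hr0 hrq hxr R hRx hfpf
    exact ⟨m, W, h1, h2, h3⟩
  · intro U e hsum
    exact gl_split U e hsum
  · intro m U R T hUR hsup E W hE hW
    exact gl_join U R T hUR hsup E W hE hW

end Cfsg.Agent.Helper99.GLI
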