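import Mathlib
import Cfsg.Agent.Lib.Helper54.O5760BDefs

set_option autoImplicit false

/-!
N96 (L10) for helper54's server (S0980, case n_5 = 96).
-/

namespace Cfsg.Agent.Helper99.N96

open Cfsg MulAction Cfsg.Agent.Helper54.O5760B

universe u

section Lines

variable {G : Type u} [Group G] [Finite G] {x r : G} {M : Subgroup G}

theorem h99_smul_mk (M : Subgroup G) (g a : G) :
    g • ((a : G) : G ⧸ M) = ((g * a : G) : G ⧸ M) := rfl

/-- `r` maps the `⟨x⟩`-orbit of `bM` into itself once `r b M = x^i b M`. -/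
theorem h99_orbit_step (c : Cfg x r M) (b : G) (i : ℕ)
    (hi : ((r * b : G) : G ⧸ M) = ((x ^ i * b : G) : G ⧸ M)) (k : ℕ) :
    ∃ j : ℕ, r ^ k • ((b : G) : G ⧸ M) = ((x ^ j * b : G) : G ⧸ M) := by
  induction k with
  | zero => exact ⟨0, by simp⟩
  | succ k ih =>
    obtain ⟨j, hj⟩ := ih
    -- `r x r⁻¹ = x ^ m`
    have h1 : r * x * r⁻¹ ∈ Subgroup.zpowers x := c.hnorm r c.hrM
    rw [← mem_powers_iff_mem_zpowers] at h1
    obtain ⟨m, hm⟩ := h1
    have hm' : x ^ m = r * x * r⁻¹ := hm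
    have h2 : r * x ^ j = x ^ (m * j) * r := by
      have : r * x ^ j * r⁻¹ = (r * x * r⁻¹) ^ j := by
        rw [conj_pow]
      rw [pow_mul, hm', ← this]
      group
    refine ⟨m * j + i, ?_⟩
    rw [pow_succ', mul_smul, hj, h99_smul_mk, ← mul_assoc, h2, mul_assoc, pow_add, mul_assoc]
    -- `(x^(m j) * (r b)) M = (x^(m j) * (x^i b)) M`
    have : ((x ^ (m * j) * (r * b) : G) : G ⧸ M) = x ^ (m * j) • ((r * b : G) : G ⧸ M) := rfl
    rw [this, hi]
    rfl

theorem h99_pow_mod_three (c : Cfg x r M) (j : ℕ) : x ^ (j % 3) = x ^ j := by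
  have := pow_mod_orderOf x j
  rw [c.hx] at this
  exact this

/-- (L10) the line `ln 1 b` and its image under `r` are not parallel. -/
theorem not_par (c : Cfg x r M) (b : G) (hb : b ∉ M)
    (hsmul : ∀ g a b : G, (fun p : G ⧸ M => g • p) '' ln x M a b = ln x M (g * a) (g * b))
    (hcongr : ∀ a a' b b' : G, ((a : G) : G ⧸ M) = ((a' : G) : G ⧸ M) →
      ((b : G) : G ⧸ M) = ((b' : G) : G ⧸ M) → ln x M a b = ln x M a' b') :
    ¬ Par ((fun p : G ⧸ M => r • p) '' ln x M 1 b) (ln x M 1 b) := by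
  have hr1 : ((r * 1 : G) : G ⧸ M) = ((1 : G) : G ⧸ M) := by
    rw [QuotientGroup.eq]
    simpa using M.inv_mem c.hrM
  have hA : (fun p : G ⧸ M => r • p) '' ln x M 1 b = ln x M 1 (r * b) := by
    rw [hsmul r 1 b]
    exact hcongr (r * 1) 1 (r * b) (r * b) hr1 rfl
  rw [hA]
  rintro (heq | hdis)
  · -- equal lines
    have hmem : ((r * b : G) : G ⧸ M) ∈ ln x M 1 b := by
      rw [← heq]
      exact Or.inr ⟨0, by simp⟩
    have hne : ((r * b : G) : G ⧸ M) ≠ ((1 : G) : G ⧸ M) := by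
      intro h
      rw [QuotientGroup.eq] at h
      have h1 : (r * b)⁻¹ ∈ M := by simpa using h
      have h2 : r * b ∈ M := by simpa using M.inv_mem h1
      have h3 : r⁻¹ * (r * b) ∈ M := M.mul_mem (M.inv_mem c.hrM) h2
      exact hb (by simpa using h3)
    rcases hmem with h | ⟨i, hi⟩
    · exact hne h
    have hi' : ((r * b : G) : G ⧸ M) = ((x ^ i * b : G) : G ⧸ M) := by
      rw [hi]; simp
    -- pigeonhole on `r^k b M`, `k < 4`, inside the three points `x^j b M`
    have hstep := h99_orbit_step c b i hi'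
    choose J hJ using hstep
    let f : Fin 4 → Fin 3 := fun k => ⟨J k.val % 3, Nat.mod_lt _ (by norm_num)⟩
    obtain ⟨k, l, hkl, hfkl⟩ := Fintype.exists_ne_map_eq_of_card_lt f (by simp)
    have hpt : ∀ k : Fin 4, r ^ k.val • ((b : G) : G ⧸ M) = ((x ^ (f k).val * b : G) : G ⧸ M) := by
      intro k
      rw [hJ k.val]
      show ((x ^ J k.val * b : G) : G ⧸ M) = ((x ^ (J k.val % 3) * b : G) : G ⧸ M)
      rw [h99_pow_mod_three c]
    have hsame : r ^ k.val • ((b : G) : G ⧸ M) = r ^ l.val • ((b : G) : G ⧸ M) := by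
      rw [hpt k, hpt l, hfkl]
    -- a power `r^d`, `0 < d < 5`, fixes `bM`
    have hfixd : ∃ d : ℕ, 0 < d ∧ d < 5 ∧ r ^ d • ((b : G) : G ⧸ M) = ((b : G) : G ⧸ M) := by
      have hkl' : k.val ≠ l.val := fun h => hkl (Fin.ext h)
      rcases Nat.lt_or_gt_of_ne hkl' with hlt | hlt
      · refine ⟨l.val - k.val, by omega, by omega, ?_⟩
        have : r ^ l.val = r ^ k.val * r ^ (l.val - k.val) := by
          rw [← pow_add]; congr 1; omega
        rw [this, mul_smul] at hsame
        exact (MulAction.injective (r ^ k.val) hsame).symm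
      · refine ⟨k.val - l.val, by omega, by omega, ?_⟩
        have : r ^ k.val = r ^ l.val * r ^ (k.val - l.val) := by
          rw [← pow_add]; congr 1; omega
        rw [this, mul_smul] at hsame
        exact MulAction.injective (r ^ l.val) hsame
    obtain ⟨d, hd0, hd5, hd⟩ := hfixd
    have hcop : Nat.Coprime d (orderOf r) := by
      rw [c.hr]
      apply Nat.Coprime.symm
      rw [Nat.Prime.coprime_iff_not_dvd (by norm_num)]
      intro h
      have := Nat.le_of_dvd hd0 h
      omega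
    obtain ⟨m, hm⟩ := exists_pow_eq_self_of_coprime hcop
    have hrd : r ^ d ∈ stabilizer G ((b : G) : G ⧸ M) := hd
    have hrs : r ∈ stabilizer G ((b : G) : G ⧸ M) := by
      rw [← hm]
      exact Subgroup.pow_mem _ hrd m
    have hrb : r • ((b : G) : G ⧸ M) = ((b : G) : G ⧸ M) := hrs
    rw [h99_smul_mk, QuotientGroup.eq] at hrb
    have h1 : b⁻¹ * r * b ∈ M := by
      have := M.inv_mem hrb
      simpa [mul_assoc] using this
    exact hb (c.hfr b h1)
  · -- disjoint: both contain `1M`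
    have h1 : ((1 : G) : G ⧸ M) ∈ ln x M 1 (r * b) := Or.inl rfl
    have h2 : ((1 : G) : G ⧸ M) ∈ ln x M 1 b := Or.inl rfl
    exact Set.disjoint_left.1 hdis h1 h2

end Lines

end Cfsg.Agent.Helper99.N96
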