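import Mathlib
import Cfsg.Agent.Lib.Helper54.O5760BDefs

set_option autoImplicit false

/-!
N96 (L3) for helper54's server (S0980, case n_5 = 96).
-/

namespace Cfsg.Agent.Helper99.N96

open Cfsg MulAction Cfsg.Agent.Helper54.O5760B

universe u

section Lines

variable {G : Type u} [Group G] [Finite G] {x r : G} {M : Subgroup G}

/-- the four points of a line, as a function on `Option (Fin 3)` -/
def h99_pt (x : G) (M : Subgroup G) (a b : G) : Option (Fin 3) → G ⧸ M
  | none => ((a : G) : G ⧸ M)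
  | some j => ((a * x ^ j.val * a⁻¹ * b : G) : G ⧸ M)

theorem h99_ln_eq_range (c : Cfg x r M) (a b : G) : ln x M a b = Set.range (h99_pt x M a b) := by
  have hx3 : x ^ 3 = 1 := by rw [← c.hx]; exact pow_orderOf_eq_one x
  ext p
  constructor
  · rintro (h | ⟨i, hi⟩)
    · exact ⟨none, h.symm⟩
    · refine ⟨some ⟨i % 3, Nat.mod_lt _ (by norm_num)⟩, ?_⟩
      rw [hi]
      show ((a * x ^ (i % 3) * a⁻¹ * b : G) : G ⧸ M) = _
      have : x ^ (i % 3) = x ^ i := by
        have := pow_mod_orderOf x i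
        rw [c.hx] at this
        exact this
      rw [this]
  · rintro ⟨o, rfl⟩
    cases o with
    | none => exact Or.inl rfl
    | some j => exact Or.inr ⟨j.val, rfl⟩

theorem h99_pt_injective (c : Cfg x r M) (a b : G) (hab : ((a : G) : G ⧸ M) ≠ ((b : G) : G ⧸ M)) :
    Function.Injective (h99_pt x M a b) := by
  have hx3 : x ^ 3 = 1 := by rw [← c.hx]; exact pow_orderOf_eq_one x
  have hgM : a⁻¹ * b ∉ M := by
    intro h
    exact hab (QuotientGroup.eq.2 h)
  -- the point `a x^i a⁻¹ b M` is not `aM`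
  have h1 : ∀ i : ℕ, ((a * x ^ i * a⁻¹ * b : G) : G ⧸ M) ≠ ((a : G) : G ⧸ M) := by
    intro i h
    rw [eq_comm, QuotientGroup.eq] at h
    -- a⁻¹ * (a x^i a⁻¹ b) = x^i (a⁻¹ b) ∈ M
    have h2 : x ^ i * (a⁻¹ * b) ∈ M := by
      have e : a⁻¹ * (a * x ^ i * a⁻¹ * b) = x ^ i * (a⁻¹ * b) := by group
      rw [← e]; exact h
    have h3 : (x ^ i)⁻¹ * (x ^ i * (a⁻¹ * b)) ∈ M :=
      M.mul_mem (M.inv_mem (M.pow_mem c.hxM i)) h2
    rw [inv_mul_cancel_left] at h3
    exact hgM h3
  -- two points `a x^i a⁻¹ b M`, `a x^(i+d) a⁻¹ b M` with `d = 1, 2` differ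
  have h2 : ∀ i d : ℕ, (d = 1 ∨ d = 2) →
      ((a * x ^ i * a⁻¹ * b : G) : G ⧸ M) ≠ ((a * x ^ (i + d) * a⁻¹ * b : G) : G ⧸ M) := by
    intro i d hd h
    rw [QuotientGroup.eq] at h
    have e : (a * x ^ i * a⁻¹ * b)⁻¹ * (a * x ^ (i + d) * a⁻¹ * b)
        = (a⁻¹ * b)⁻¹ * x ^ d * (a⁻¹ * b) := by
      rw [pow_add]; group
    rw [e] at h
    rcases hd with rfl | rfl
    · rw [pow_one] at h
      exact hgM (c.hfx _ h)
    · have hx2 : x ^ 2 = x⁻¹ := by
        apply eq_inv_of_mul_eq_one_left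
        rw [← pow_succ, hx3]
      rw [hx2] at h
      have h' := M.inv_mem h
      have e2 : ((a⁻¹ * b)⁻¹ * x⁻¹ * (a⁻¹ * b))⁻¹ = (a⁻¹ * b)⁻¹ * x * (a⁻¹ * b) := by group
      rw [e2] at h'
      exact hgM (c.hfx _ h')
  intro o o' h
  cases o with
  | none =>
    cases o' with
    | none => rfl
    | some j => exact absurd h.symm (h1 j.val)
  | some i =>
    cases o' with
    | none => exact absurd h (h1 i.val)
    | some j =>
      congr 1
      by_contra hij
      have hij' : i.val ≠ j.val := fun h => hij (Fin.ext h)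
      have hi := i.2
      have hj := j.2
      change ((a * x ^ i.val * a⁻¹ * b : G) : G ⧸ M) = ((a * x ^ j.val * a⁻¹ * b : G) : G ⧸ M) at h
      rcases Nat.lt_or_gt_of_ne hij' with hlt | hlt
      · have e : j.val = i.val + (j.val - i.val) := by omega
        rw [e] at h
        exact h2 i.val (j.val - i.val) (by omega) h
      · have e : i.val = j.val + (i.val - j.val) := by omega
        rw [e] at h
        exact h2 j.val (i.val - j.val) (by omega) h.symm

/-- (L3) a line has exactly four points. -/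
theorem ln_ncard (c : Cfg x r M) (a b : G) (hab : ((a : G) : G ⧸ M) ≠ ((b : G) : G ⧸ M)) :
    (ln x M a b).ncard = 4 := by
  rw [h99_ln_eq_range c a b, ← Set.image_univ,
    Set.ncard_image_of_injective _ (h99_pt_injective c a b hab), Set.ncard_univ]
  simp

end Lines

end Cfsg.Agent.Helper99.N96
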