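import Mathlib
import Cfsg.Agent.Lib.Helper54.O5760BDefs

set_option autoImplicit false

/-!
N96 (L7) for helper54's server (S0980, case n_5 = 96).
-/

namespace Cfsg.Agent.Helper99.N96

open Cfsg MulAction Cfsg.Agent.Helper54.O5760B

universe u

section Lines

variable {G : Type u} [Group G] [Finite G] {x r : G} {M : Subgroup G}

/-- (L7) two distinct points lie on exactly one line. -/
theorem exists_unique_line (x : G) (M : Subgroup G)
    (hcongr : ∀ a a' b b' : G, ((a : G) : G ⧸ M) = ((a' : G) : G ⧸ M) →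
      ((b : G) : G ⧸ M) = ((b' : G) : G ⧸ M) → ln x M a b = ln x M a' b')
    (hsymm : ∀ a b : G, ((a : G) : G ⧸ M) ≠ ((b : G) : G ⧸ M) → ln x M a b = ln x M b a)
    (hmem : ∀ a b d : G, ((d : G) : G ⧸ M) ∈ ln x M a b → ((d : G) : G ⧸ M) ≠ ((a : G) : G ⧸ M) →
      ln x M a d = ln x M a b)
    (p q : G ⧸ M) (hpq : p ≠ q) : ∃! ℓ : Set (G ⧸ M), ℓ ∈ lines x M ∧ p ∈ ℓ ∧ q ∈ ℓ := by
  obtain ⟨a, rfl⟩ := QuotientGroup.mk_surjective p
  obtain ⟨b, rfl⟩ := QuotientGroup.mk_surjective q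
  have hb_mem : ∀ a b : G, ((b : G) : G ⧸ M) ∈ ln x M a b := by
    intro a b
    refine Or.inr ⟨0, ?_⟩
    simp
  have ha_mem : ∀ a b : G, ((a : G) : G ⧸ M) ∈ ln x M a b := fun a b => Or.inl rfl
  refine ⟨ln x M a b, ⟨⟨a, b, hpq, rfl⟩, ha_mem a b, hb_mem a b⟩, ?_⟩
  rintro ℓ ⟨⟨c, d, hcd, rfl⟩, hal, hbl⟩
  by_cases hac : ((a : G) : G ⧸ M) = ((c : G) : G ⧸ M)
  · have h1 : ln x M c d = ln x M a d := hcongr c a d d hac.symm rfl
    rw [h1] at hbl ⊢
    exact (hmem a d b hbl (Ne.symm hpq)).symm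
  · have h1 : ln x M c a = ln x M c d := hmem c d a hal hac
    have h2 : ln x M c a = ln x M a c := hsymm c a (Ne.symm hac)
    rw [← h1, h2] at hbl ⊢
    exact (hmem a c b hbl (Ne.symm hpq)).symm

end Lines

end Cfsg.Agent.Helper99.N96
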