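import Mathlib
import Cfsg.Agent.Lib.Helper7.M11UDefs
import Cfsg.Agent.Lib.Helper7.NSEDefs

/-!
NSE (M2b) `cent_le_of_three` for helper7's lemma server "NSE" (row S3592).
-/

set_option autoImplicit false

namespace Cfsg.Agent.Helper99.NSE

open Subgroup Cfsg.Agent.Helper7.M11U Cfsg.Agent.Helper7.NSE
open scoped Pointwise

section M

variable {H : Type*} [Group H] [Finite H]

theorem cent_le_of_three (B : Base H) (L : Loc H) (g : H) (h : 3 ∣ orderOf g) (h3 : orderOf g ≠ 3) :
    Nat.card (centralizer ({g} : Set H)) ≤ 9 := by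
  have hpos : 0 < orderOf g := orderOf_pos g
  obtain ⟨m, hm⟩ := h
  have hm0 : m ≠ 0 := by
    rintro rfl
    omega
  set z : H := g ^ m with hz
  have hzo : orderOf z = 3 := by
    rw [hz, orderOf_pow_of_dvd hm0 ⟨3, by rw [hm]; ring⟩, hm]
    exact Nat.mul_div_cancel _ (Nat.pos_of_ne_zero hm0)
  have hle : centralizer ({g} : Set H) ≤ centralizer ({z} : Set H) := by
    intro x hx
    rw [mem_centralizer_singleton_iff] at hx ⊢
    have hc : Commute x g := hx
    exact (hc.pow_right m)
  have h18 : Nat.card (centralizer ({z} : Set H)) = 18 := L.c18 z hzo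
  have hdvd : Nat.card (centralizer ({g} : Set H)) ∣ 18 := by
    rw [← h18]
    exact Subgroup.card_dvd_of_le hle
  have hne : Nat.card (centralizer ({g} : Set H)) ≠ 18 := by
    intro hcard
    have heq : centralizer ({g} : Set H) = centralizer ({z} : Set H) :=
      Subgroup.eq_of_le_of_card_ge hle (by rw [hcard, h18])
    -- a Sylow 3-subgroup containing z
    have hpz : IsPGroup 3 (zpowers z) := by
      rw [IsPGroup.iff_card]
      exact ⟨1, by rw [Nat.card_zpowers, hzo]; norm_num⟩
    have : Fact (Nat.Prime 3) := ⟨by norm_num⟩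
    obtain ⟨R, hR⟩ := hpz.exists_le_sylow
    have hzR : z ∈ (R : Subgroup H) := hR (mem_zpowers z)
    have hgR : g ∈ centralizer ((R : Subgroup H) : Set H) := by
      rw [mem_centralizer_iff]
      intro r hr
      have hr1 : r ∈ centralizer ({z} : Set H) := by
        rw [mem_centralizer_singleton_iff]
        exact L.comm R r hr z hzR
      rw [← heq, mem_centralizer_singleton_iff] at hr1
      exact hr1
    have hg3 : g ^ 3 = 1 := L.exp3 R g (L.cent R g hgR)
    have hd : orderOf g ∣ 3 := orderOf_dvd_of_pow_eq_one hg3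
    have : orderOf g ≤ 3 := Nat.le_of_dvd (by norm_num) hd
    omega
  have hle18 : Nat.card (centralizer ({g} : Set H)) ≤ 18 := Nat.le_of_dvd (by norm_num) hdvd
  generalize Nat.card (centralizer ({g} : Set H)) = d at *
  interval_cases d <;> omega

end M

end Cfsg.Agent.Helper99.NSE
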