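import Mathlib
import Cfsg.Agent.Lib.Helper87.SVKit
import Cfsg.Agent.Lib.Helper75.FixKill2
import Cfsg.Agent.Lib.Helper17.SylowLink
import Cfsg.Agent.Lib.Helper99.O6232CountPQ

/-!
# O6232 (N5460): no simple group of order 5460 = 2^2 * 3 * 5 * 7 * 13 (helper17's lemma server for S0983)

`n_13 = 105`, `|N13| = 52`. `n_7 = 15` dies by a link (`13 ∣ |C7|`, `7 ∤ 52`), `n_7 = 78` by a link to a
Sylow `5` with `7 ∣ |C5|` (so `n_5 = 26`) and the fixed points of an element of order `7` on `Syl_5`; so
`n_7 = 260`, `|C7| = 7`. Links leave `n_3 ∈ {91, 910}`, `n_5 ∈ {91, 546}`, and `(n_5, n_3) = (91, 91)` with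
`3 ∣ |C5|`, `2 ∣ |C3|`. The Sylow `2`-subgroup is not cyclic, so `2 ∣ |C13|`. Counting elements of orders
`13, 26, 7, 5, 3, 15, 6` gives `5536 > 5460`.
-/

set_option autoImplicit false

namespace Cfsg.Agent.Helper99.O6232

open Nat MulAction Cfsg.Agent.Helper17 Cfsg.Agent.Helper17.Sieve Cfsg.Agent.Helper75.FixKill
  Cfsg.Agent.Helper87.SV

universe u

set_option maxRecDepth 100000 in
theorem h99_5460_adm13 : ∀ d ∈ List.range (420 + 1), d ∣ 420 → d % 13 = 1 →
    ¬ Bad (13 ^ 1 * 420) 13 1 420 d → d = 105 := by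
  decide +kernel

set_option maxRecDepth 100000 in
theorem h99_5460_adm7 : ∀ d ∈ List.range (780 + 1), d ∣ 780 → d % 7 = 1 →
    ¬ Bad (7 ^ 1 * 780) 7 1 780 d → d = 15 ∨ d = 78 ∨ d = 260 := by
  decide +kernel

set_option maxRecDepth 100000 in
theorem h99_5460_adm5 : ∀ d ∈ List.range (1092 + 1), d ∣ 1092 → d % 5 = 1 →
    ¬ Bad (5 ^ 1 * 1092) 5 1 1092 d → d = 26 ∨ d = 91 ∨ d = 546 := by
  decide +kernel

set_option maxRecDepth 100000 in
theorem h99_5460_adm3 : ∀ d ∈ List.range (1820 + 1), d ∣ 1820 → d % 3 = 1 →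
    ¬ Bad (3 ^ 1 * 1820) 3 1 1820 d → d = 13 ∨ d = 70 ∨ d = 91 ∨ d = 130 ∨ d = 910 := by
  decide +kernel

/-- no nonabelian simple group of order 5460 -/
theorem h99_no_5460 : NoSimple.{u} 5460 := by
  intro G _ _ _ hna hn0
  have h13 : Fact (Nat.Prime 13) := ⟨by norm_num⟩
  have h7 : Fact (Nat.Prime 7) := ⟨by norm_num⟩
  have h5 : Fact (Nat.Prime 5) := ⟨by norm_num⟩
  have h3 : Fact (Nat.Prime 3) := ⟨by norm_num⟩
  have h2 : Fact (Nat.Prime 2) := ⟨by norm_num⟩
  have hn13 : Nat.card G = 13 ^ 1 * 420 := by rw [hn0]; norm_num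
  have hn7 : Nat.card G = 7 ^ 1 * 780 := by rw [hn0]; norm_num
  have hn5 : Nat.card G = 5 ^ 1 * 1092 := by rw [hn0]; norm_num
  have hn3 : Nat.card G = 3 ^ 1 * 1820 := by rw [hn0]; norm_num
  obtain ⟨hP13, hr13, hd13, hm13, hb13, -, he13⟩ :=
    h87_data hna 13 420 (by norm_num) hn13 (by norm_num)
  obtain ⟨hP7, hr7, hd7, hm7, hb7, -, he7⟩ :=
    h87_data hna 7 780 (by norm_num) hn7 (by norm_num)
  obtain ⟨hP5, hr5, hd5, hm5, hb5, hone5, he5⟩ :=
    h87_data hna 5 1092 (by norm_num) hn5 (by norm_num)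
  obtain ⟨hP3, hr3, hd3, hm3, hb3, -, he3⟩ :=
    h87_data hna 3 1820 (by norm_num) hn3 (by norm_num)
  have hc13 : Nat.card (Sylow 13 G) = 105 := h99_5460_adm13 _ hr13 hd13 hm13 hb13
  obtain ⟨P13⟩ : Nonempty (Sylow 13 G) := inferInstance
  obtain ⟨P7⟩ : Nonempty (Sylow 7 G) := inferInstance
  obtain ⟨P5⟩ : Nonempty (Sylow 5 G) := inferInstance
  obtain ⟨P3⟩ : Nonempty (Sylow 3 G) := inferInstance
  -- Step 1: `n_7 = 260`
  have hc7 : Nat.card (Sylow 7 G) = 260 := by
    obtain ⟨e7, he7a, he7b, he7c⟩ := he7 P7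
    have he7le : e7 ≤ 6 := Nat.le_of_dvd (by norm_num) he7a
    rcases h99_5460_adm7 _ hr7 hd7 hm7 hb7 with h | h | h
    · exfalso
      rw [h] at he7c
      have h13c : 13 ∣ Nat.card (Subgroup.centralizer ((P7 : Subgroup G) : Set G)) := by
        generalize Nat.card (Subgroup.centralizer ((P7 : Subgroup G) : Set G)) = c at he7c
        interval_cases e7 <;> omega
      have := h87_link hP7 hP13 P7 h13c
      rw [hn0, hc13] at this
      omega
    · exfalso
      rw [h] at he7c
      have h5c : 5 ∣ Nat.card (Subgroup.centralizer ((P7 : Subgroup G) : Set G)) := by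
        generalize Nat.card (Subgroup.centralizer ((P7 : Subgroup G) : Set G)) = c at he7c
        interval_cases e7 <;> omega
      obtain ⟨Q5, hQ5⟩ := sylow_link hP7 hP5 P7 h5c
      obtain ⟨e5, he5a, he5b, he5c⟩ := he5 Q5
      have he5le : e5 ≤ 4 := Nat.le_of_dvd (by norm_num) he5a
      rcases h99_5460_adm5 _ hr5 hd5 hm5 hb5 with h' | h' | h'
      · -- `n_5 = 26`: an element of order `7` in `C(Q5)` has no admissible number of fixed points
        obtain ⟨f, m', -, hf1, hf2, -, hf3, -⟩ :=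
          exists_fix (G := G) (by rw [hn0]; norm_num) (p := 5) (r := 7) (by norm_num) Q5 (hP5 Q5)
            hone5 hQ5
        rw [h'] at hf2 hf3
        omega
      · rw [h'] at he5c
        generalize Nat.card (Subgroup.centralizer ((Q5 : Subgroup G) : Set G)) = c at he5c hQ5
        interval_cases e5 <;> omega
      · rw [h'] at he5c
        generalize Nat.card (Subgroup.centralizer ((Q5 : Subgroup G) : Set G)) = c at he5c hQ5
        interval_cases e5 <;> omega
    · exact h
  -- every Sylow `7`-subgroup is self-centralising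
  have hC7 : ∀ Q : Sylow 7 G, Nat.card (Subgroup.centralizer ((Q : Subgroup G) : Set G)) = 7 := by
    intro Q
    obtain ⟨e, hea, heb, hec⟩ := he7 Q
    have hele : e ≤ 6 := Nat.le_of_dvd (by norm_num) hea
    rw [hc7] at hec
    generalize Nat.card (Subgroup.centralizer ((Q : Subgroup G) : Set G)) = c at hec ⊢
    have h21 : c * e = 21 := by omega
    clear hec
    have hd : e ∣ 21 := Dvd.intro_left c h21
    have hd6 : e ∣ 6 := hea
    have h3' : e ∣ 3 := by
      have := Nat.dvd_gcd hd hd6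
      simpa using this
    have he3 : e = 3 := by
      rcases (Nat.dvd_prime (by norm_num : (3 : ℕ).Prime)).1 h3' with h | h
      · exact absurd h heb
      · exact h
    subst he3
    omega
  -- Step 2: `n_3 ∈ {91, 910}`
  have hc3 : Nat.card (Sylow 3 G) = 91 ∨ Nat.card (Sylow 3 G) = 910 := by
    obtain ⟨e3, he3a, he3b, he3c⟩ := he3 P3
    have he3le : e3 ≤ 2 := Nat.le_of_dvd (by norm_num) he3a
    rcases h99_5460_adm3 _ hr3 hd3 hm3 hb3 with h | h | h | h | h
    · exfalso
      rw [h] at he3c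
      have h7c : 7 ∣ Nat.card (Subgroup.centralizer ((P3 : Subgroup G) : Set G)) := by
        generalize Nat.card (Subgroup.centralizer ((P3 : Subgroup G) : Set G)) = c at he3c
        interval_cases e3 <;> omega
      obtain ⟨Q7, hQ7⟩ := sylow_link hP3 hP7 P3 h7c
      rw [hC7 Q7] at hQ7
      omega
    · exfalso
      rw [h] at he3c
      have h13c : 13 ∣ Nat.card (Subgroup.centralizer ((P3 : Subgroup G) : Set G)) := by
        generalize Nat.card (Subgroup.centralizer ((P3 : Subgroup G) : Set G)) = c at he3c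
        interval_cases e3 <;> omega
      have := h87_link hP3 hP13 P3 h13c
      rw [hn0, hc13] at this
      omega
    · exact Or.inl h
    · exfalso
      rw [h] at he3c
      have h7c : 7 ∣ Nat.card (Subgroup.centralizer ((P3 : Subgroup G) : Set G)) := by
        generalize Nat.card (Subgroup.centralizer ((P3 : Subgroup G) : Set G)) = c at he3c
        interval_cases e3 <;> omega
      obtain ⟨Q7, hQ7⟩ := sylow_link hP3 hP7 P3 h7c
      rw [hC7 Q7] at hQ7
      omega
    · exact Or.inr h
  -- Step 3: `n_5 ∈ {91, 546}`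
  have hc5 : Nat.card (Sylow 5 G) = 91 ∨ Nat.card (Sylow 5 G) = 546 := by
    obtain ⟨e5, he5a, he5b, he5c⟩ := he5 P5
    have he5le : e5 ≤ 4 := Nat.le_of_dvd (by norm_num) he5a
    rcases h99_5460_adm5 _ hr5 hd5 hm5 hb5 with h | h | h
    · exfalso
      rw [h] at he5c
      have h7c : 7 ∣ Nat.card (Subgroup.centralizer ((P5 : Subgroup G) : Set G)) := by
        generalize Nat.card (Subgroup.centralizer ((P5 : Subgroup G) : Set G)) = c at he5c
        interval_cases e5 <;> omega
      have := h87_link hP5 hP7 P5 h7c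
      rw [hn0, hc7] at this
      omega
    · exact Or.inl h
    · exact Or.inr h
  -- prime order counts
  have c13 := card_orderOf_eq_prime (G := G) (p := 13) hP13
  have c7 := card_orderOf_eq_prime (G := G) (p := 7) hP7
  have c5 := card_orderOf_eq_prime (G := G) (p := 5) hP5
  have c3 := card_orderOf_eq_prime (G := G) (p := 3) hP3
  rw [hc13] at c13
  rw [hc7] at c7
  rcases hc5 with h5' | h5' <;> rcases hc3 with h3' | h3'
  · -- `(n_5, n_3) = (91, 91)`: the final count
    rw [h5'] at c5
    rw [h3'] at c3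
    -- `3 ∣ |C(P)|` for every Sylow `5`
    have hC5 : ∀ P : Sylow 5 G, 3 ∣ Nat.card (Subgroup.centralizer ((P : Subgroup G) : Set G)) := by
      intro P
      obtain ⟨e, hea, heb, hec⟩ := he5 P
      have hele : e ≤ 4 := Nat.le_of_dvd (by norm_num) hea
      rw [h5'] at hec
      generalize Nat.card (Subgroup.centralizer ((P : Subgroup G) : Set G)) = c at hec ⊢
      interval_cases e <;> omega
    -- `2 ∣ |C(P)|` for every Sylow `3`
    have hC3 : ∀ P : Sylow 3 G, 2 ∣ Nat.card (Subgroup.centralizer ((P : Subgroup G) : Set G)) := by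
      intro P
      obtain ⟨e, hea, heb, hec⟩ := he3 P
      have hele : e ≤ 2 := Nat.le_of_dvd (by norm_num) hea
      rw [h3'] at hec
      generalize Nat.card (Subgroup.centralizer ((P : Subgroup G) : Set G)) = c at hec ⊢
      interval_cases e <;> omega
    -- `2 ∣ |C(P)|` for every Sylow `13`: the Sylow `2`-subgroup is not cyclic
    have hC13 : ∀ P : Sylow 13 G, 2 ∣ Nat.card (Subgroup.centralizer ((P : Subgroup G) : Set G)) := by
      intro P
      by_contra hodd
      have hN : Nat.card ↥(Subgroup.normalizer ((P : Subgroup G) : Set G)) = 52 := by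
        rw [h87_card_normalizer P, hn0, hc13]
      exact Cfsg.Agent.Helper75.FixKill.cyclic_absurd P (hP13 P) 5460 2 hn0 (by norm_num)
        (by rw [hN]; norm_num) (by norm_num) hodd (by norm_num)
    have c26 := card_orderOf_mul_ge (G := G) (p := 13) (q := 2) (by norm_num) hP13 hC13
    have c15 := card_orderOf_mul_ge (G := G) (p := 5) (q := 3) (by norm_num) hP5 hC5
    have c6 := card_orderOf_mul_ge (G := G) (p := 3) (q := 2) (by norm_num) hP3 hC3
    rw [hc13] at c26
    rw [h5'] at c15
    rw [h3'] at c6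
    have hsum := sum_card_orderOf_le (G := G) ({3, 5, 7, 13, 3 * 2, 5 * 3, 13 * 2} : Finset ℕ)
    rw [Finset.sum_insert (by decide), Finset.sum_insert (by decide), Finset.sum_insert (by decide),
      Finset.sum_insert (by decide), Finset.sum_insert (by decide), Finset.sum_insert (by decide),
      Finset.sum_singleton, c13, c7, c5, c3, hn0] at hsum
    omega
  · -- `(n_5, n_3) = (91, 910)`: `3 ∣ |C5|` but `5 ∤ |N3| = 6`
    obtain ⟨e5, he5a, he5b, he5c⟩ := he5 P5
    have he5le : e5 ≤ 4 := Nat.le_of_dvd (by norm_num) he5a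
    rw [h5'] at he5c
    have h3c : 3 ∣ Nat.card (Subgroup.centralizer ((P5 : Subgroup G) : Set G)) := by
      generalize Nat.card (Subgroup.centralizer ((P5 : Subgroup G) : Set G)) = c at he5c
      interval_cases e5 <;> omega
    have := h87_link hP5 hP3 P5 h3c
    rw [hn0, h3'] at this
    omega
  · -- `(n_5, n_3) = (546, 91)`: `5 ∣ |C3|` but `3 ∤ |N5| = 10`
    obtain ⟨e3, he3a, he3b, he3c⟩ := he3 P3
    have he3le : e3 ≤ 2 := Nat.le_of_dvd (by norm_num) he3a
    rw [h3'] at he3c
    have h5c : 5 ∣ Nat.card (Subgroup.centralizer ((P3 : Subgroup G) : Set G)) := by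
      generalize Nat.card (Subgroup.centralizer ((P3 : Subgroup G) : Set G)) = c at he3c
      interval_cases e3 <;> omega
    have := h87_link hP3 hP5 P3 h5c
    rw [hn0, h5'] at this
    omega
  · -- `(n_5, n_3) = (546, 910)`: counting elements of prime order
    rw [h5'] at c5
    rw [h3'] at c3
    have hsum := sum_card_orderOf_le (G := G) ({3, 5, 7, 13} : Finset ℕ)
    rw [Finset.sum_insert (by decide), Finset.sum_insert (by decide), Finset.sum_insert (by decide),
      Finset.sum_singleton, c13, c7, c5, c3, hn0] at hsum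
    omega

/-- (N5460) `5460 = 2^2 * 3 * 5 * 7 * 13`. -/
theorem no_5460 {G : Type u} [Group G] [Finite G] [IsSimpleGroup G] : Nat.card G ≠ 5460 := by
  intro h
  have hna : ¬ IsMulCommutative G :=
    Cfsg.Agent.Helper17.not_comm_of_not_prime (by rw [h]; norm_num)
  exact h99_no_5460.{u} G hna h

end Cfsg.Agent.Helper99.O6232
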