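import Mathlib

set_option autoImplicit false

/-!
ONS (NUM2) for helper37's server (S1699).
-/

namespace Cfsg.Agent.Helper99.ONS
universe u

theorem h99_num19_bdd : ∀ m : Fin 32, ∀ c : Fin 32,
    (m.val ∣ 8 ∨ m.val ∣ 9 ∨ m.val ∣ 5 ∨ m.val ∣ 11 ∨ m.val ∣ 31) → c.val ∣ m.val → 0 < c.val →
    m.val % 19 = c.val % 19 → c.val = m.val := by decide +kernel

/-- (NUM2) the only divisor `c` of `m` with `m ≡ c` mod `19` is `m` itself. -/
theorem num19 (m c : ℕ) (hm : m ∣ 8 ∨ m ∣ 9 ∨ m ∣ 5 ∨ m ∣ 11 ∨ m ∣ 31) (hc : c ∣ m) (hc0 : 0 < c)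
    (h : m % 19 = c % 19) : c = m := by
  have hm31 : m ≤ 31 := by
    rcases hm with h | h | h | h | h
    · exact (Nat.le_of_dvd (by norm_num) h).trans (by norm_num)
    · exact (Nat.le_of_dvd (by norm_num) h).trans (by norm_num)
    · exact (Nat.le_of_dvd (by norm_num) h).trans (by norm_num)
    · exact (Nat.le_of_dvd (by norm_num) h).trans (by norm_num)
    · exact (Nat.le_of_dvd (by norm_num) h)
  have hm0 : 0 < m := by
    rcases hm with h | h | h | h | h <;> exact Nat.pos_of_dvd_of_pos h (by norm_num)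
  have hcm : c ≤ m := Nat.le_of_dvd hm0 hc
  exact h99_num19_bdd ⟨m, by omega⟩ ⟨c, by omega⟩ hm hc hc0 h

end Cfsg.Agent.Helper99.ONS
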