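import Mathlib
import Cfsg.Agent.Lib.Helper43.OrthMinus
import Cfsg.Agent.Lib.Helper14.WittQuad

set_option autoImplicit false

namespace Cfsg.Agent.Helper99.OrthMinusTS

open QuadraticMap Cfsg.Agent.Helper43

section General

variable {F V : Type*} [Field F] [AddCommGroup V] [Module F V]

/-- polar against a totally singular orthogonal family vanishes on its span (left variable). -/
theorem polar_span_left (Q : QuadraticForm F V) {ι : Type*} (y : ι → V) (w : V)
    (h : ∀ i, polar Q (y i) w = 0) :
    ∀ u ∈ Submodule.span F (Set.range y), polar Q u w = 0 := by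
  intro u hu
  induction hu using Submodule.span_induction with
  | mem v hv =>
    obtain ⟨i, rfl⟩ := hv
    exact h i
  | zero => simp
  | add u v _ _ hu hv => rw [polar_add_left, hu, hv, add_zero]
  | smul c u _ hu => rw [polar_smul_left, hu, smul_zero]

theorem polar_span_span (Q : QuadraticForm F V) {ι : Type*} (y : ι → V)
    (h : ∀ i j, polar Q (y i) (y j) = 0) :
    ∀ u ∈ Submodule.span F (Set.range y), ∀ w ∈ Submodule.span F (Set.range y),
      polar Q u w = 0 := by
  intro u hu w hw
  induction hw using Submodule.span_induction with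
  | mem v hv =>
    obtain ⟨j, rfl⟩ := hv
    exact polar_span_left Q y (y j) (fun i => h i j) u hu
  | zero => simp
  | add v v' _ _ hv hv' => rw [polar_add_right, hv, hv', add_zero]
  | smul c v _ hv => rw [polar_smul_right, hv, smul_zero]

theorem map_span_eq_zero (Q : QuadraticForm F V) {ι : Type*} (y : ι → V)
    (hq : ∀ i, Q (y i) = 0) (h : ∀ i j, polar Q (y i) (y j) = 0) :
    ∀ u ∈ Submodule.span F (Set.range y), Q u = 0 := by
  intro u hu
  induction hu using Submodule.span_induction with
  | mem v hv =>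
    obtain ⟨i, rfl⟩ := hv
    exact hq i
  | zero => simp
  | add u v hu' hv' hu hv =>
    have := polar_span_span Q y h u hu' v hv'
    rw [polar] at this
    rw [hu, hv] at this
    simpa using this
  | smul c u _ hu => rw [QuadraticMap.map_smul, hu, smul_zero]

theorem polar_isometry (Q : QuadraticForm F V) (g : V ≃ₗ[F] V) (hg : ∀ v, Q (g v) = Q v)
    (u v : V) : polar Q (g u) (g v) = polar Q u v := by
  simp only [polar, ← map_add, hg]

end General

section Main

variable {F : Type*} [Field F]

/-- The first three hyperbolic basis vectors. -/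
noncomputable def e3 (i : Fin 3) : (Fin 3 ⊕ Fin 3) ⊕ Fin 2 → F :=
  Pi.single (Sum.inl (Sum.inl i)) 1

theorem e3_li : LinearIndependent F (e3 : Fin 3 → ((Fin 3 ⊕ Fin 3) ⊕ Fin 2 → F)) := by
  have h := (Pi.basisFun F ((Fin 3 ⊕ Fin 3) ⊕ Fin 2)).linearIndependent
  have h2 := h.comp (fun i : Fin 3 => (Sum.inl (Sum.inl i) : (Fin 3 ⊕ Fin 3) ⊕ Fin 2))
    (fun i j hij => by simpa using hij)
  convert h2 using 1
  ext i j
  simp [e3, Pi.basisFun_apply]

theorem polar_e3 (a b : F) (y : (Fin 3 ⊕ Fin 3) ⊕ Fin 2 → F) (i : Fin 3) :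
    polar (stdMinus F 3 a b) y (e3 i) = y (Sum.inl (Sum.inr i)) := by
  rw [polar_stdMinus]
  simp [e3, Pi.single_apply]

theorem stdMinus_e3 (a b : F) (i : Fin 3) : stdMinus F 3 a b (e3 i) = 0 := by
  rw [stdMinus_apply]
  unfold Cfsg.quadFormMinus
  simp [e3]

theorem polar_e3_e3 (a b : F) (i j : Fin 3) :
    polar (stdMinus F 3 a b) (e3 i) (e3 j) = 0 := by
  rw [polar_e3]
  simp [e3]

/-- The minus-type form `H³ ⊥ A` in dimension 8 has no totally singular 4-space. -/
theorem no_ts4_stdMinus3 {F} [Field F] [Fintype F] (a b : F) (hab : AnisoPair a b)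
    (x : Fin 4 → ((Fin 3 ⊕ Fin 3) ⊕ Fin 2 → F)) (hli : LinearIndependent F x)
    (hq : ∀ i, stdMinus F 3 a b (x i) = 0)
    (hp : ∀ i j, polar (⇑(stdMinus F 3 a b)) (x i) (x j) = 0) : False := by
  classical
  set Q := stdMinus F 3 a b with hQdef
  have hQ : (polarBilin Q).Nondegenerate := stdMinus_nondegenerate 3 hab
  -- the first three vectors
  set x' : Fin 3 → ((Fin 3 ⊕ Fin 3) ⊕ Fin 2 → F) := fun i => x (Fin.castSucc i) with hx'
  have hx'li : LinearIndependent F x' := hli.comp Fin.castSucc (Fin.castSucc_injective 3)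
  have heli : LinearIndependent F (e3 : Fin 3 → ((Fin 3 ⊕ Fin 3) ⊕ Fin 2 → F)) := e3_li
  let bE := Module.Basis.span heli
  let bX := Module.Basis.span hx'li
  let φ : Submodule.span F (Set.range (e3 : Fin 3 → ((Fin 3 ⊕ Fin 3) ⊕ Fin 2 → F))) ≃ₗ[F]
      Submodule.span F (Set.range x') := bE.equiv bX (Equiv.refl _)
  have hφ : ∀ u : Submodule.span F (Set.range (e3 : Fin 3 → ((Fin 3 ⊕ Fin 3) ⊕ Fin 2 → F))),
      Q ((φ u : Submodule.span F (Set.range x')) : (Fin 3 ⊕ Fin 3) ⊕ Fin 2 → F) = Q (u : _) := by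
    intro u
    rw [map_span_eq_zero Q x' (fun i => hq _) (fun i j => hp _ _) _ (φ u).2,
      map_span_eq_zero Q e3 (fun i => stdMinus_e3 a b i) (fun i j => polar_e3_e3 a b i j) _ u.2]
  obtain ⟨g, hg, hgφ⟩ := Cfsg.Agent.Helper14.Witt.witt Q hQ _ _ φ hφ
  have hge : ∀ i, g (e3 i) = x' i := by
    intro i
    have h1 := hgφ (bE i)
    have h2 : φ (bE i) = bX i := by
      simp [φ]
    rw [h2] at h1
    simpa [bE, bX, Module.Basis.span_apply] using h1
  -- pull back the fourth vector
  set y := g.symm (x (Fin.last 3)) with hy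
  have hgy : g y = x (Fin.last 3) := by simp [hy]
  have hQy : Q y = 0 := by rw [← hg y, hgy]; exact hq _
  have hperp : ∀ i, y (Sum.inl (Sum.inr i)) = 0 := by
    intro i
    rw [← polar_e3 a b y i, ← polar_isometry Q g hg, hgy, hge]
    exact hp _ _
  have hA : y (Sum.inr 0) = 0 ∧ y (Sum.inr 1) = 0 := by
    apply hab
    have := hQy
    rw [hQdef, stdMinus_apply] at this
    unfold Cfsg.quadFormMinus at this
    simp only [hperp, mul_zero, Finset.sum_const_zero, zero_add] at this
    linear_combination this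
  have hyE : y = ∑ i : Fin 3, y (Sum.inl (Sum.inl i)) • e3 i := by
    ext j
    rcases j with (j | j) | j
    · simp [e3, Pi.single_apply, Finset.sum_apply]
    · simp [e3, hperp]
    · fin_cases j
      · simpa [e3] using hA.1
      · simpa [e3] using hA.2
  have hx3 : x (Fin.last 3) = ∑ i : Fin 3, y (Sum.inl (Sum.inl i)) • x (Fin.castSucc i) := by
    rw [← hgy]
    conv_lhs => rw [hyE]
    rw [map_sum]
    refine Finset.sum_congr rfl (fun i _ => ?_)
    rw [map_smul, hge]
  have hdep := Fintype.linearIndependent_iff.mp hli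
    (fun i => Fin.lastCases (-1 : F) (fun j => y (Sum.inl (Sum.inl j))) i) (by
      rw [Fin.sum_univ_castSucc]
      simp only [Fin.lastCases_castSucc, Fin.lastCases_last]
      rw [hx3]
      simp) (Fin.last 3)
  rw [Fin.lastCases_last] at hdep
  exact (neg_ne_zero.mpr one_ne_zero) hdep

end Main

end Cfsg.Agent.Helper99.OrthMinusTS
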