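import Mathlib
import Cfsg.Agent.Lib.Helper31.SCHDefs
import Cfsg.Agent.Lib.Helper9.MinNonNilp

/-!
# SCH (X1), helper31 server (S4394): a minimal non-nilpotent group gives a Schmidt automorphism
-/

set_option autoImplicit false

namespace Cfsg.Agent.Helper99.SCH
open Cfsg Cfsg.Agent.Helper31.SCH

open scoped Pointwise

section X
variable {p : ℕ} [Fact p.Prime]

/-- Abstract core of (X1): `P` a normal `p`-subgroup of a minimal non-nilpotent group, `g` an
`r`-element (`r ≠ p`) with `P ∩ ⟨g⟩ = 1` that does not centralise `P`: conjugation by `g` is a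
Schmidt automorphism of `P`. -/
theorem h99_SA_of_data {X : Type*} [Group X] [Finite X] (hX : Cfsg.IsMinimalNonNilpotent X)
    (P : Subgroup X) [hPn : P.Normal] (hP : IsPGroup p P) {r : ℕ} [hr : Fact r.Prime] (hpr : p ≠ r)
    (g : X) (k : ℕ) (hg : orderOf g = r ^ k) (hdis : Disjoint P (Subgroup.zpowers g))
    (hgC : g ∉ Subgroup.centralizer (P : Set X)) :
    SA p (MulAut.conjNormal g : MulAut ↥P) := by
  have hg1 : g ≠ 1 := by
    rintro rfl
    exact hgC (Subgroup.one_mem _)
  have hk : k ≠ 0 := by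
    rintro rfl
    rw [pow_zero, orderOf_eq_one_iff] at hg
    exact hg1 hg
  have hrdvd : r ∣ orderOf g := by
    rw [hg]; exact dvd_pow_self r hk
  have hPord : ∀ x ∈ P, ∃ a, orderOf x = p ^ a := by
    intro x hx
    obtain ⟨a, ha⟩ := (IsPGroup.iff_orderOf.mp hP) ⟨x, hx⟩
    exact ⟨a, by rw [← ha, Subgroup.orderOf_mk]⟩
  -- generic commuting lemma: inside a proper subgroup, `P`-elements commute with `r`-elements
  have hcommK : ∀ (K : Subgroup X), K ≠ ⊤ → ∀ x ∈ P, x ∈ K → ∀ y ∈ K, (∃ j, orderOf y = r ^ j) →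
      x * y = y * x := by
    intro K hK x hxP hxK y hyK hy
    have hnil : Group.IsNilpotent ↥K := hX.2 K hK
    have h1 : ∃ a, orderOf (⟨x, hxK⟩ : ↥K) = p ^ a := by
      rw [Subgroup.orderOf_mk]; exact hPord x hxP
    have h2 : ∃ j, orderOf (⟨y, hyK⟩ : ↥K) = r ^ j := by
      rw [Subgroup.orderOf_mk]; exact hy
    have := Cfsg.Agent.Helper9.commute_of_nilpotent_of_prime_pow hnil hpr ⟨x, hxK⟩ ⟨y, hyK⟩ h1 h2
    exact congrArg Subtype.val this.eq
  refine ⟨⟨r, hr.out, hpr.symm, ?_⟩, ?_, ?_⟩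
  · -- order
    have hgH : g ∉ P ⊔ Subgroup.zpowers (g ^ r) := by
      intro hmem
      rw [← SetLike.mem_coe, Subgroup.normal_mul] at hmem
      obtain ⟨x, hx, y, hy, hxy⟩ := Set.mem_mul.mp hmem
      obtain ⟨j, rfl⟩ := Subgroup.mem_zpowers_iff.mp hy
      have hx' : x = g ^ (1 - (r : ℤ) * j) := by
        have : x = g * ((g ^ r) ^ j)⁻¹ := eq_mul_inv_of_mul_eq hxy
        rw [this, zpow_sub, zpow_one, zpow_mul, zpow_natCast]
      have hx1 : x = 1 := by
        have : x ∈ P ⊓ Subgroup.zpowers g :=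
          ⟨hx, by rw [hx']; exact Subgroup.zpow_mem_zpowers g _⟩
        rwa [hdis.eq_bot, Subgroup.mem_bot] at this
      rw [hx1] at hx'
      have h1 := orderOf_dvd_iff_zpow_eq_one.mpr hx'.symm
      have h2 : (r : ℤ) ∣ 1 - r * j := (Int.natCast_dvd_natCast.mpr hrdvd).trans h1
      have h3 : (r : ℤ) ∣ 1 := by
        have := dvd_add h2 (dvd_mul_right (r : ℤ) j)
        simpa using this
      have h4 : r ∣ 1 := by
        have : ((r : ℕ) : ℤ) ∣ ((1 : ℕ) : ℤ) := by simpa using h3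
        exact Int.natCast_dvd_natCast.mp this
      exact hr.out.one_lt.ne' (Nat.dvd_one.mp h4)
    have hne : P ⊔ Subgroup.zpowers (g ^ r) ≠ ⊤ := fun h => hgH (h ▸ Subgroup.mem_top g)
    have hordr : ∃ j, orderOf (g ^ r) = r ^ j := by
      have : orderOf (g ^ r) ∣ r ^ k := hg ▸ orderOf_pow_dvd r
      obtain ⟨j, _, hj⟩ := (Nat.dvd_prime_pow hr.out).mp this
      exact ⟨j, hj⟩
    ext x
    rw [← map_pow, MulAut.conjNormal_apply, MulAut.one_apply]
    have := hcommK _ hne x.1 x.2 ((le_sup_left : P ≤ _) x.2) (g ^ r)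
      ((le_sup_right : Subgroup.zpowers (g ^ r) ≤ _) (Subgroup.mem_zpowers _)) hordr
    rw [← this, mul_inv_cancel_right]
  · -- nontrivial
    intro h1
    apply hgC
    rw [Subgroup.mem_centralizer_iff]
    intro x hx
    have := congrArg (fun f : MulAut ↥P => ((f ⟨x, hx⟩ : ↥P) : X)) h1
    simp only [MulAut.conjNormal_apply, MulAut.one_apply] at this
    calc x * g = (g * x * g⁻¹) * g := by rw [this]
      _ = g * x := by group
  · -- proper invariant subgroups are fixed pointwise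
    intro R hR hinv x hxR
    have hR'P : R.map P.subtype ≤ P := by
      rintro _ ⟨y, _, rfl⟩; exact y.2
    have hnorm : g ∈ Subgroup.normalizer ((R.map P.subtype : Subgroup X) : Set X) := by
      apply Subgroup.mem_normalizer_fintype
      rintro _ ⟨y, hy, rfl⟩
      exact ⟨MulAut.conjNormal g y, hinv y hy, by simp [MulAut.conjNormal_apply]⟩
    have hle : Subgroup.zpowers g ≤ Subgroup.normalizer ((R.map P.subtype : Subgroup X) : Set X) := by
      rwa [Subgroup.zpowers_le]
    have hK : R.map P.subtype ⊔ Subgroup.zpowers g ≠ ⊤ := by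
      intro htop
      apply hR
      rw [eq_top_iff]
      rintro ⟨y, hy⟩ -
      have hmem : y ∈ R.map P.subtype ⊔ Subgroup.zpowers g := htop ▸ Subgroup.mem_top y
      rw [← SetLike.mem_coe, Subgroup.coe_mul_of_right_le_normalizer_left _ _ hle] at hmem
      obtain ⟨a, ha, b, hb, hab⟩ := Set.mem_mul.mp hmem
      have hb1 : b = 1 := by
        have : b ∈ P ⊓ Subgroup.zpowers g := by
          refine ⟨?_, hb⟩
          have hb' : b = a⁻¹ * y := by rw [← hab]; group
          rw [hb']; exact P.mul_mem (P.inv_mem (hR'P ha)) hy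
        rwa [hdis.eq_bot, Subgroup.mem_bot] at this
      rw [hb1, mul_one] at hab
      obtain ⟨z, hz, hzy⟩ := ha
      have : z = ⟨y, hy⟩ := Subtype.ext (hzy.trans hab)
      rwa [← this]
    have hxK : (x : X) ∈ R.map P.subtype ⊔ Subgroup.zpowers g :=
      (le_sup_left : R.map P.subtype ≤ _) ⟨x, hxR, rfl⟩
    have := hcommK _ hK x.1 x.2 hxK g
      ((le_sup_right : Subgroup.zpowers g ≤ _) (Subgroup.mem_zpowers _)) ⟨k, hg⟩
    apply Subtype.ext
    rw [MulAut.conjNormal_apply, ← this, mul_inv_cancel_right]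

/-- (X1) of the SCH server. -/
theorem exists_SA {X : Type*} [Group X] [Finite X] (hX : Cfsg.IsMinimalNonNilpotent X)
    (P : Sylow p X) (hPn : (P : Subgroup X).Normal) (hP1 : (P : Subgroup X) ≠ ⊥) :
    ∃ α : MulAut ↥(P : Subgroup X), SA p α := by
  have hp : p.Prime := Fact.out
  obtain ⟨q', r, hq', hr, Q, R, g, hqr, hQn, hRg, -, hcomp, hgC⟩ :=
    Cfsg.Agent.Helper9.minNonNilp_sylow hX
  -- `p` divides `|X|`
  obtain ⟨n, hn⟩ := IsPGroup.iff_card.mp P.isPGroup'
  have hn0 : n ≠ 0 := by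
    rintro rfl
    rw [pow_zero, Subgroup.card_eq_one] at hn
    exact hP1 hn
  have hpX : p ∣ Nat.card X :=
    (hn ▸ dvd_pow_self p hn0 : p ∣ Nat.card ↥(P : Subgroup X)).trans
      (Subgroup.card_subgroup_dvd_card _)
  obtain ⟨a, ha⟩ := IsPGroup.iff_card.mp Q.isPGroup'
  obtain ⟨b, hb⟩ := IsPGroup.iff_card.mp R.isPGroup'
  have hcard : Nat.card X = q' ^ a * r ^ b := by
    rw [← hcomp.card_mul_card, ha, hb]
  have hgord : orderOf g = r ^ b := by
    rw [← Nat.card_zpowers, ← hRg, hb]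
  have hdisQR : Disjoint (Q : Subgroup X) (Subgroup.zpowers g) := hRg ▸ hcomp.disjoint
  rw [hcard] at hpX
  rcases (Nat.Prime.dvd_mul hp).mp hpX with h | h
  · -- `p = q'`
    obtain rfl : p = q' := (Nat.prime_dvd_prime_iff_eq hp hq'.out).mp (hp.dvd_of_dvd_pow h)
    haveI := Sylow.unique_of_normal P hPn
    obtain rfl : P = Q := Subsingleton.elim P Q
    haveI : (P : Subgroup X).Normal := hPn
    exact ⟨MulAut.conjNormal g,
      h99_SA_of_data hX (P : Subgroup X) P.isPGroup' hqr g b hgord hdisQR hgC⟩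
  · -- `p = r` is impossible
    exfalso
    obtain rfl : p = r := (Nat.prime_dvd_prime_iff_eq hp hr.out).mp (hp.dvd_of_dvd_pow h)
    haveI := Sylow.unique_of_normal P hPn
    obtain rfl : P = R := Subsingleton.elim P R
    apply hgC
    rw [Subgroup.mem_centralizer_iff]
    intro x hx
    exact (Subgroup.commute_of_normal_of_disjoint _ _ hQn hPn hcomp.disjoint x g hx
      (hRg ▸ Subgroup.mem_zpowers g)).eq

end X

end Cfsg.Agent.Helper99.SCH
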