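import Mathlib
import Cfsg.Agent.Lib.Helper62.SLN0
import Cfsg.Agent.Lib.Helper20.U2Ra
import Cfsg.Agent.Lib.Helper66.SLN_G1
import Cfsg.Agent.Lib.Helper99.SLN_R3

/-!
# SLN project (S2332), pieces S5 and S4: the character value at a transvection and the dimension formula

`χ(uEl u) = ∑_w dim wt(w) ψ(w·u) = c + d (∑_w β(w,u) - 1) = c - d` for `u ≠ 0`, and
`dim V = ∑_w dim wt(w) = c + d (q^m - 1)`.
-/

set_option autoImplicit false
set_option linter.unusedSectionVars false

namespace Cfsg.Agent.Helper99.SLN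

open Matrix Module Cfsg.Agent.Helper93.U2 Cfsg.Agent.Helper62.SLN

section SLN

variable {F : Type*} [Field F] [Fintype F] [DecidableEq F] {κ : Type} [Fintype κ] [DecidableEq κ]
  {V : Type*} [AddCommGroup V] [Module ℂ V] [FiniteDimensional ℂ V]
  (ψ : AddChar F ℂ) (pr : Pairing (κ → F)) (hpr : ∀ w u, pr.β w u = ψ (w ⬝ᵥ u))
  (ρ : Representation ℂ (SpecialLinearGroup (Unit ⊕ κ) F) V)

include hpr

omit [DecidableEq F] in
/-- piece S5 (R3 + G1 + U2-Ra `Pairing_sum_eq_zero`) : the character value at a transvection -/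
theorem character_uEl (d : ℕ) (hd : ∀ w : κ → F, w ≠ 0 → finrank ℂ (wt pr ρ w) = d)
    (u : κ → F) (hu : u ≠ 0) :
    ρ.character (uEl u) = (finrank ℂ (wt pr ρ 0) : ℂ) - (d : ℂ) := by
  classical
  have h := character_el pr (uEl : (κ → F) → SpecialLinearGroup (Unit ⊕ κ) F) ρ
    Cfsg.Agent.Helper66.SLN.uEl_add u
  rw [h]
  have hsum : ∑ w : κ → F, pr.β w u = 0 := by
    have := Cfsg.Agent.Helper20.U2.Pairing_sum_eq_zero pr u hu
    rw [← this]
    apply Finset.sum_congr rfl
    intro w _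
    exact pr.symm w u
  have h1 : ∀ w : κ → F, (finrank ℂ (wsp pr uEl ρ w) : ℂ) * pr.β w u =
      (d : ℂ) * pr.β w u +
        (if w = 0 then (finrank ℂ (wt pr ρ 0) : ℂ) - (d : ℂ) else 0) := by
    intro w
    split_ifs with hw
    · subst hw
      rw [Cfsg.Agent.Helper20.U2.Pairing_zero_left]
      ring
    · rw [show finrank ℂ (wsp pr uEl ρ w) = d from hd w hw]
      ring
  rw [Finset.sum_congr rfl (fun w _ => h1 w), Finset.sum_add_distrib, ← Finset.mul_sum, hsum,
    mul_zero, zero_add, Finset.sum_ite_eq' Finset.univ (0 : κ → F)]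
  simp

omit [DecidableEq F] in
/-- piece S4 (R2 + G1) -/
theorem dim_formula (d : ℕ) (hd : ∀ w : κ → F, w ≠ 0 → finrank ℂ (wt pr ρ w) = d) :
    finrank ℂ V = finrank ℂ (wt pr ρ 0) + d * (Fintype.card F ^ Fintype.card κ - 1) := by
  classical
  have h := finrank_eq_sum_wsp pr (uEl : (κ → F) → SpecialLinearGroup (Unit ⊕ κ) F) ρ
    Cfsg.Agent.Helper66.SLN.uEl_add
  rw [h, ← Finset.add_sum_erase Finset.univ _ (Finset.mem_univ (0 : κ → F))]
  congr 1
  have h2 : ∀ w ∈ Finset.univ.erase (0 : κ → F), finrank ℂ (wsp pr uEl ρ w) = d := by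
    intro w hw
    exact hd w (Finset.ne_of_mem_erase hw)
  rw [Finset.sum_congr rfl h2, Finset.sum_const, smul_eq_mul, Finset.card_erase_of_mem (Finset.mem_univ _),
    Finset.card_univ, Fintype.card_fun, mul_comm]

end SLN

end Cfsg.Agent.Helper99.SLN
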