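import Mathlib
import Cfsg.Agent.Lib.Helper14.SPIDefs

/-!
# SPI (CNT), helper14 server (S5961): `orderOf q ∣ finrank W` for a fixed-point-free `x` of order `r`
-/

set_option autoImplicit false

namespace Cfsg.Agent.Helper99.SPI

open Module Polynomial Cfsg.Agent.Helper14.SPI

/-- (CNT) counting: `⟨x⟩` acts freely on `W \ {0}`, so `r ∣ q ^ dim W - 1`. -/
theorem order_dvd_finrank {F V : Type*} [Field F] [Fintype F] [AddCommGroup V] [Module F V]
    [FiniteDimensional F V] (x : V →ₗ[F] V) (r : ℕ) [Fact r.Prime]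
    (hrq : ¬ r ∣ Fintype.card F) (hxr : x ^ r = 1)
    (W : Submodule F V) (hWx : W.map x ≤ W) (hfpf : ∀ v ∈ W, x v = v → v = 0) :
    orderOf ((Fintype.card F : ℕ) : ZMod r) ∣ finrank F W := by
  classical
  haveI : Finite V := Module.finite_of_finite F
  haveI : Fintype W := Fintype.ofFinite W
  have hmem : ∀ w : W, x w ∈ W := fun w => hWx ⟨w, w.2, rfl⟩
  let f : Function.End W := fun w => ⟨x w, hmem w⟩
  have hpow : ∀ n (w : W), ((f ^ n) w : V) = (x ^ n) w := by
    intro n
    induction n with
    | zero => intro w; rw [pow_zero, pow_zero]; rfl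
    | succ n ih =>
      intro w
      rw [pow_succ, pow_succ]
      exact ih (f w)
  have hf : f ^ r ^ 1 = 1 := by
    rw [pow_one]
    funext w
    apply Subtype.ext
    rw [hpow, hxr]
    rfl
  have hmod := Equiv.Perm.card_fixedPoints_modEq hf
  have hfix : Fintype.card (Function.fixedPoints f) = 1 := by
    rw [Fintype.card_eq_one_iff]
    refine ⟨⟨0, ?_⟩, ?_⟩
    · show f 0 = 0
      apply Subtype.ext
      simp [f]
    · rintro ⟨w, hw⟩
      apply Subtype.ext
      apply Subtype.ext
      have h1 : x w = w := congrArg Subtype.val hw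
      simpa using hfpf w w.2 h1
  have hcard : Fintype.card W = Fintype.card F ^ finrank F W := Module.card_eq_pow_finrank
  rw [hfix, hcard] at hmod
  apply orderOf_dvd_of_pow_eq_one
  have := (ZMod.natCast_eq_natCast_iff _ _ r).mpr hmod
  simpa using this

end Cfsg.Agent.Helper99.SPI
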