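import Mathlib
import Cfsg.Agent.Lib.Helper14.SPIDefs
import Cfsg.Agent.Lib.Helper99.SPICNT

/-!
# SPI (IRR), helper14 server (S5961): cyclic submodules of a "prime" invariant subspace have
dimension `orderOf q mod r`
-/

set_option autoImplicit false

namespace Cfsg.Agent.Helper99.SPI

open Module Polynomial Cfsg.Agent.Helper14.SPI

/-- over a finite field, `f ^ (q ^ j) = expand (q ^ j) f` -/
theorem h99_expand_card_pow {F : Type*} [Field F] [Fintype F] (f : F[X]) (j : ℕ) :
    expand F (Fintype.card F ^ j) f = f ^ (Fintype.card F ^ j) := by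
  induction j with
  | zero => simp
  | succ j ih =>
    rw [pow_succ, expand_mul, FiniteField.expand_card, map_pow, ih, ← pow_mul]

/-- (IRR) -/
theorem exists_cyclic_of_prime {F V : Type*} [Field F] [Fintype F] [AddCommGroup V] [Module F V]
    [FiniteDimensional F V] (x : V →ₗ[F] V) (r : ℕ) [Fact r.Prime]
    (hrq : ¬ r ∣ Fintype.card F) (hxr : x ^ r = 1)
    (Z : Submodule F V) (hZx : Z.map x ≤ Z) (hfpf : ∀ v ∈ Z, x v = v → v = 0)
    (hprime : ∀ g : F[X], (∀ z ∈ Z, aeval x g z = 0) ∨ (∀ z ∈ Z, aeval x g z = 0 → z = 0))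
    (u : V) (hu : u ∈ Z) (hu0 : u ≠ 0) :
    ∃ Y : Submodule F V, Y ≤ Z ∧ u ∈ Y ∧ Y.map x ≤ Y ∧
      finrank F Y = orderOf ((Fintype.card F : ℕ) : ZMod r) := by
  classical
  set q := Fintype.card F with hq
  set i := orderOf ((q : ℕ) : ZMod r) with hi
  have hq1 : 1 < q := Fintype.one_lt_card
  -- `i ≠ 0`
  have hqne : ((q : ℕ) : ZMod r) ≠ 0 := by
    rw [Ne, ZMod.natCast_eq_zero_iff]; exact hrq
  have hi0 : i ≠ 0 := by
    have : 0 < i := orderOf_pos_iff.mpr (isOfFinOrder_iff_pow_eq_one.mpr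
      ⟨r - 1, Nat.sub_pos_of_lt (Fact.out : r.Prime).one_lt, ZMod.pow_card_sub_one_eq_one hqne⟩)
    exact this.ne'
  -- `x ^ (q ^ i) = x`
  have hxq : x ^ (q ^ i) = x := by
    have h1 : ((q ^ i : ℕ) : ZMod r) = ((1 : ℕ) : ZMod r) := by
      rw [Nat.cast_pow, Nat.cast_one]; exact pow_orderOf_eq_one _
    have h2 : 1 ≡ q ^ i [MOD r] := ((ZMod.natCast_eq_natCast_iff _ _ r).mp h1).symm
    have h3 : r ∣ q ^ i - 1 := (Nat.modEq_iff_dvd' (Nat.one_le_pow _ _ (by omega))).mp h2
    obtain ⟨m, hm⟩ := h3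
    have h4 : q ^ i = 1 + r * m := by
      have : 1 ≤ q ^ i := Nat.one_le_pow _ _ (by omega)
      omega
    rw [h4, pow_add, pow_one, pow_mul, hxr, one_pow, mul_one]
  -- invariance of `Z` under polynomials in `x`
  have hZ1 : ∀ z ∈ Z, x z ∈ Z := fun z hz => hZx ⟨z, hz, rfl⟩
  have hZpow : ∀ n : ℕ, ∀ z ∈ Z, (x ^ n) z ∈ Z := by
    intro n
    induction n with
    | zero => intro z hz; simpa using hz
    | succ n ih =>
      intro z hz
      rw [pow_succ, Module.End.mul_apply]
      exact ih _ (hZ1 z hz)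
  have hZg : ∀ g : F[X], ∀ z ∈ Z, aeval x g z ∈ Z := by
    intro g
    induction g using Polynomial.induction_on' with
    | add g h hg hh =>
      intro z hz
      rw [map_add, LinearMap.add_apply]
      exact Z.add_mem (hg z hz) (hh z hz)
    | monomial n a =>
      intro z hz
      rw [aeval_monomial, Module.End.mul_apply, Module.algebraMap_end_apply]
      exact Z.smul_mem a (hZpow n z hz)
  -- the cyclic submodule
  let φ : F[X] →ₗ[F] V := (LinearMap.applyₗ u).comp (aeval x : F[X] →ₐ[F] Module.End F V).toLinearMap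
  have hφ : ∀ g : F[X], φ g = aeval x g u := fun g => rfl
  have hYZ : LinearMap.range φ ≤ Z := by
    rintro _ ⟨g, rfl⟩
    rw [hφ]; exact hZg g u hu
  have huY : u ∈ LinearMap.range φ := ⟨1, by rw [hφ, map_one, Module.End.one_apply]⟩
  have hYx : (LinearMap.range φ).map x ≤ LinearMap.range φ := by
    rintro _ ⟨_, ⟨g, rfl⟩, rfl⟩
    refine ⟨X * g, ?_⟩
    rw [hφ, hφ, map_mul, aeval_X, Module.End.mul_apply]
  refine ⟨LinearMap.range φ, hYZ, huY, hYx, ?_⟩
  -- `i ∣ dim Y`
  have hdvd : i ∣ finrank F (LinearMap.range φ) :=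
    order_dvd_finrank x r hrq hxr (LinearMap.range φ) hYx (fun v hv => hfpf v (hYZ hv))
  have hpos : 0 < finrank F (LinearMap.range φ) := by
    rw [Module.finrank_pos_iff_exists_ne_zero]
    exact ⟨⟨u, huY⟩, fun h => hu0 (congrArg Subtype.val h)⟩
  -- the annihilator ideal of `u`
  let I : Ideal F[X] :=
    { carrier := {g | aeval x g u = 0}
      add_mem' := by
        intro a b ha hb
        show aeval x (a + b) u = 0
        rw [map_add, LinearMap.add_apply, ha, hb, add_zero]
      zero_mem' := by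
        show aeval x (0 : F[X]) u = 0
        rw [map_zero, LinearMap.zero_apply]
      smul_mem' := by
        intro c g hg
        show aeval x (c • g) u = 0
        rw [smul_eq_mul, map_mul, Module.End.mul_apply, hg, map_zero] }
  have hI : ∀ g : F[X], g ∈ I ↔ aeval x g u = 0 := fun g => Iff.rfl
  haveI hIprime : I.IsPrime := by
    refine ⟨?_, ?_⟩
    · intro htop
      have : (1 : F[X]) ∈ I := htop ▸ Submodule.mem_top
      rw [hI, map_one, Module.End.one_apply] at this
      exact hu0 this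
    · intro g h hgh
      rw [hI, map_mul, Module.End.mul_apply] at hgh
      rcases hprime g with h0 | hinj
      · exact Or.inl ((hI g).mpr (h0 u hu))
      · exact Or.inr ((hI h).mpr (hinj _ (hZg h u hu) hgh))
  -- `F[X] ⧸ I ≃ Y`
  have hker : LinearMap.ker φ = I.restrictScalars F := by
    ext g
    rw [LinearMap.mem_ker, hφ, Submodule.restrictScalars_mem, hI]
  let e : (F[X] ⧸ I) ≃ₗ[F] LinearMap.range φ :=
    ((Submodule.Quotient.restrictScalarsEquiv F I).symm.trans
      (Submodule.quotEquivOfEq _ _ hker.symm)).trans φ.quotKerEquivRange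
  haveI : Finite V := Module.finite_of_finite F
  haveI : Finite (F[X] ⧸ I) := Finite.of_equiv _ e.symm.toEquiv
  haveI : Fintype (F[X] ⧸ I) := Fintype.ofFinite _
  -- every element of the quotient is a root of `T ^ (q ^ i) - T`
  have hroot : ∀ a : F[X] ⧸ I, a ^ (q ^ i) = a := by
    intro a
    obtain ⟨g, rfl⟩ := Ideal.Quotient.mk_surjective a
    rw [← map_pow, Ideal.Quotient.eq, hI, map_sub, LinearMap.sub_apply, sub_eq_zero,
      ← h99_expand_card_pow, expand_aeval, hxq]
  have hN : 1 < q ^ i := Nat.one_lt_pow hi0 hq1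
  have hdeg : (X ^ (q ^ i) - X : (F[X] ⧸ I)[X]).natDegree = q ^ i := by
    rw [natDegree_sub_eq_left_of_natDegree_lt] <;> simp [hN]
  have hP0 : (X ^ (q ^ i) - X : (F[X] ⧸ I)[X]) ≠ 0 := by
    intro h
    rw [h, natDegree_zero] at hdeg
    omega
  have hcardA : Fintype.card (F[X] ⧸ I) ≤ q ^ i := by
    have hsub : (Finset.univ : Finset (F[X] ⧸ I)).val ⊆ (X ^ (q ^ i) - X : (F[X] ⧸ I)[X]).roots := by
      intro a _
      rw [mem_roots hP0, IsRoot.def, eval_sub, eval_pow, eval_X, hroot a, sub_self]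
    have := card_le_degree_of_subset_roots hsub
    rwa [hdeg, Finset.card_univ] at this
  have hcardY : Nat.card (LinearMap.range φ) = q ^ finrank F (LinearMap.range φ) := by
    rw [Module.natCard_eq_pow_finrank (K := F), Nat.card_eq_fintype_card]
  have hle : finrank F (LinearMap.range φ) ≤ i := by
    rw [← Nat.pow_le_pow_iff_right hq1, ← hcardY, ← Nat.card_congr e.toEquiv,
      Nat.card_eq_fintype_card]
    exact hcardA
  exact Nat.le_antisymm hle (Nat.le_of_dvd hpos hdvd)
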