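import Mathlib
import Cfsg.Agent.Lib.Helper92.U6Defs

set_option autoImplicit false

/-!
U6 (TV1) for helper92's server (S1684).
-/

namespace Cfsg.Agent.Helper99.U6

open Cfsg.Agent.Helper92.U6

theorem h99_hf_eq (u v : Fin 6 → F) : hf u v = ∑ j, u j * v j ^ 2 := rfl

/-- (TV1) the transvection matrix acts as `x ↦ x + hf x v • v`. -/
theorem tv_mulVec (v x : Fin 6 → F) : (tv v).mulVec x = x + hf x v • v := by
  funext i
  rw [tv, Matrix.add_mulVec, Matrix.one_mulVec, Pi.add_apply, Pi.add_apply, Pi.smul_apply,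
    smul_eq_mul, h99_hf_eq]
  congr 1
  simp only [Matrix.mulVec, dotProduct, Matrix.vecMulVec_apply]
  rw [Finset.sum_mul]
  refine Finset.sum_congr rfl (fun j _ => ?_)
  ring

end Cfsg.Agent.Helper99.U6
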